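import Mathlib
import Cfsg.Prelude.Def_GeometricClasses

set_option autoImplicit false
set_option linter.unusedSectionVars false
open Cfsg Matrix
open scoped commutatorElement

/-!
Quadratic forms `Q : (ι → F) → F` given as functions, over an arbitrary finite index type and in
arbitrary characteristic: polar calculus, reflections as linear automorphisms, the bridge from
linear automorphisms to `GL ι F`, explicit commutators in `Ω` (the order-three rotations
`(r_x r_y)^2` attached to pairs `x, y` with `Q x = Q y = B(x,y) = c ≠ 0`).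
-/

namespace Cfsg.Agent.Lib.Helper5.Orth

variable {ι : Type} [Fintype ι] [DecidableEq ι] {F : Type*} [Field F]

/-- linear automorphisms of `F^ι` as elements of `GL ι F` -/
noncomputable def ofEquiv : ((ι → F) ≃ₗ[F] (ι → F)) →* GL ι F :=
  (Matrix.GeneralLinearGroup.toLin (n := ι) (R := F)).symm.toMonoidHom.comp
    (LinearMap.GeneralLinearGroup.generalLinearEquiv F (ι → F)).symm.toMonoidHom

lemma ofEquiv_mulVec (e : (ι → F) ≃ₗ[F] (ι → F)) (v : ι → F) :
    ((ofEquiv e : GL ι F) : Matrix ι ι F) *ᵥ v = e v := by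
  have h : ((ofEquiv e : GL ι F) : Matrix ι ι F) =
      LinearMap.toMatrix' (e : (ι → F) →ₗ[F] (ι → F)) := rfl
  rw [h, ← Matrix.toLin'_apply, Matrix.toLin'_toMatrix']
  rfl

lemma gl_ext' (g h : GL ι F)
    (H : ∀ x : ι → F, (g : Matrix ι ι F) *ᵥ x = (h : Matrix ι ι F) *ᵥ x) : g = h := by
  apply Units.ext
  apply Matrix.toLin'.injective
  apply LinearMap.ext
  intro x
  rw [Matrix.toLin'_apply, Matrix.toLin'_apply]
  exact H x

lemma gl_mul_mulVec (g h : GL ι F) (x : ι → F) :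
    ((g * h : GL ι F) : Matrix ι ι F) *ᵥ x = (g : Matrix ι ι F) *ᵥ ((h : Matrix ι ι F) *ᵥ x) := by
  rw [Units.val_mul, Matrix.mulVec_mulVec]

lemma gl_inv_mulVec_mulVec (g : GL ι F) (x : ι → F) :
    ((g⁻¹ : GL ι F) : Matrix ι ι F) *ᵥ ((g : Matrix ι ι F) *ᵥ x) = x := by
  rw [Matrix.mulVec_mulVec, ← Units.val_mul, inv_mul_cancel, Units.val_one, Matrix.one_mulVec]

lemma gl_mulVec_inv_mulVec (g : GL ι F) (x : ι → F) :
    (g : Matrix ι ι F) *ᵥ (((g⁻¹ : GL ι F) : Matrix ι ι F) *ᵥ x) = x := by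
  rw [Matrix.mulVec_mulVec, ← Units.val_mul, mul_inv_cancel, Units.val_one, Matrix.one_mulVec]

/-- the polar form -/
abbrev pol (Q : (ι → F) → F) (x y : ι → F) : F := QuadraticMap.polar Q x y

/-- `Q` is a quadratic function: homogeneous of degree two with bilinear polar form -/
structure IsQuad (Q : (ι → F) → F) : Prop where
  smul : ∀ (c : F) (v : ι → F), Q (c • v) = c ^ 2 * Q v
  bil : Cfsg.Geo.IsBilinearForm (QuadraticMap.polar Q)

lemma IsQuad.of_nondeg {Q : (ι → F) → F} (h : Cfsg.Geo.IsNondegenerateQuadraticForm Q) :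
    IsQuad Q := ⟨h.smul, h.polar_bilinear⟩

section Basics

variable {Q : (ι → F) → F}

lemma pol_comm (x y : ι → F) : pol Q x y = pol Q y x := QuadraticMap.polar_comm Q x y

lemma Q_add (Q : (ι → F) → F) (x y : ι → F) : Q (x + y) = Q x + Q y + pol Q x y := by
  rw [pol, QuadraticMap.polar]; ring

variable (hQ : IsQuad Q)

include hQ

lemma pol_add_left (x y v : ι → F) : pol Q (x + y) v = pol Q x v + pol Q y v :=
  hQ.bil.add_left x y v

lemma pol_add_right (v x y : ι → F) : pol Q v (x + y) = pol Q v x + pol Q v y :=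
  hQ.bil.add_right v x y

lemma pol_smul_left (c : F) (x v : ι → F) : pol Q (c • x) v = c * pol Q x v :=
  hQ.bil.smul_left c x v

lemma pol_smul_right (c : F) (v x : ι → F) : pol Q v (c • x) = c * pol Q v x :=
  hQ.bil.smul_right c v x

lemma pol_zero_left (v : ι → F) : pol Q 0 v = 0 := by
  have := pol_smul_left hQ 0 0 v
  rwa [zero_smul, zero_mul] at this

lemma pol_zero_right (v : ι → F) : pol Q v 0 = 0 := by
  rw [pol_comm, pol_zero_left hQ]

lemma pol_neg_left (x v : ι → F) : pol Q (-x) v = - pol Q x v := by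
  have := pol_smul_left hQ (-1) x v
  rwa [neg_one_smul, neg_one_mul] at this

lemma pol_neg_right (v x : ι → F) : pol Q v (-x) = - pol Q v x := by
  rw [pol_comm, pol_neg_left hQ, pol_comm]

lemma pol_sub_left (x y v : ι → F) : pol Q (x - y) v = pol Q x v - pol Q y v := by
  rw [sub_eq_add_neg, pol_add_left hQ, pol_neg_left hQ, sub_eq_add_neg]

lemma pol_sub_right (v x y : ι → F) : pol Q v (x - y) = pol Q v x - pol Q v y := by
  rw [sub_eq_add_neg, pol_add_right hQ, pol_neg_right hQ, sub_eq_add_neg]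

lemma Q_smul (c : F) (x : ι → F) : Q (c • x) = c ^ 2 * Q x := hQ.smul c x

lemma Q_zero : Q 0 = 0 := by
  have := hQ.smul 0 0
  rw [zero_smul] at this
  rw [this]; ring

lemma Q_neg (x : ι → F) : Q (-x) = Q x := by
  have := hQ.smul (-1) x
  rw [neg_one_smul] at this
  rw [this]; ring

lemma pol_self (x : ι → F) : pol Q x x = 2 * Q x := by
  have h := hQ.smul 2 x
  rw [two_smul] at h
  rw [pol, QuadraticMap.polar, h]; ring

lemma Q_sub (x y : ι → F) : Q (x - y) = Q x + Q y - pol Q x y := by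
  rw [sub_eq_add_neg, Q_add Q, Q_neg hQ, pol_neg_right hQ]; ring

/-- `v ↦ B(v, x)` as a linear form -/
def polL (x : ι → F) : (ι → F) →ₗ[F] F where
  toFun v := pol Q v x
  map_add' a b := pol_add_left hQ a b x
  map_smul' c a := by simp [pol_smul_left hQ]

lemma polL_apply (x v : ι → F) : polL hQ x v = pol Q v x := rfl

lemma refl_aux (x : ι → F) (hx : Q x ≠ 0) : ((Q x)⁻¹ • polL hQ x) x = 2 := by
  rw [LinearMap.smul_apply, polL_apply, pol_self hQ, smul_eq_mul]
  field_simp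

/-- the reflection (orthogonal transvection in characteristic two) in the non-singular vector `x` -/
noncomputable def refl (x : ι → F) (hx : Q x ≠ 0) : (ι → F) ≃ₗ[F] (ι → F) :=
  Module.reflection (refl_aux hQ x hx)

lemma refl_apply (x : ι → F) (hx : Q x ≠ 0) (v : ι → F) :
    refl hQ x hx v = v - ((Q x)⁻¹ * pol Q v x) • x := by
  rw [refl, Module.reflection_apply]
  rfl

lemma refl_inv (x : ι → F) (hx : Q x ≠ 0) : (refl hQ x hx)⁻¹ = refl hQ x hx := rfl

lemma refl_Q (x : ι → F) (hx : Q x ≠ 0) (v : ι → F) : Q (refl hQ x hx v) = Q v := by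
  rw [refl_apply, Q_sub hQ, Q_smul hQ, pol_smul_right hQ]
  field_simp
  ring

end Basics

section Omega

variable {Q : (ι → F) → F}

lemma mem_iso_iff (g : GL ι F) :
    g ∈ Cfsg.isometryGroup F Q ↔ ∀ v, Q ((g : Matrix ι ι F) *ᵥ v) = Q v := by
  constructor
  · intro h v
    exact h v v
  · intro h u _
    exact h u

lemma ofEquiv_mem_iso (e : (ι → F) ≃ₗ[F] (ι → F)) (he : ∀ v, Q (e v) = Q v) :
    ofEquiv e ∈ Cfsg.isometryGroup F Q := by
  rw [mem_iso_iff]
  intro v
  rw [ofEquiv_mulVec, he]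

lemma comm_mem_omegaGL (a b : GL ι F) (ha : a ∈ Cfsg.isometryGroup F Q)
    (hb : b ∈ Cfsg.isometryGroup F Q) : ⁅a, b⁆ ∈ Cfsg.Geo.omegaGL Q := by
  refine ⟨⁅(⟨a, ha⟩ : Cfsg.isometryGroup F Q), ⟨b, hb⟩⁆, ?_, ?_⟩
  · exact Subgroup.commutator_mem_commutator (Subgroup.mem_top _) (Subgroup.mem_top _)
  · rw [map_commutatorElement]
    rfl

lemma omegaGL_le_iso : Cfsg.Geo.omegaGL Q ≤ Cfsg.isometryGroup F Q := by
  rintro g ⟨x, _, rfl⟩
  exact x.2

lemma omegaGL_Q (g : GL ι F) (hg : g ∈ Cfsg.Geo.omegaGL Q) (v : ι → F) :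
    Q ((g : Matrix ι ι F) *ᵥ v) = Q v :=
  (mem_iso_iff g).1 (omegaGL_le_iso hg) v

lemma iso_pol (g : GL ι F) (hg : g ∈ Cfsg.isometryGroup F Q) (u v : ι → F) :
    pol Q ((g : Matrix ι ι F) *ᵥ u) ((g : Matrix ι ι F) *ᵥ v) = pol Q u v := by
  rw [mem_iso_iff] at hg
  rw [pol, QuadraticMap.polar, ← Matrix.mulVec_add, hg, hg, hg]
  rfl

variable (hQ : IsQuad Q)

include hQ

/-- the commutator `[r_x, r_y]` of two reflections, an element of `Ω` -/
noncomputable def a2 (x y : ι → F) (hx : Q x ≠ 0) (hy : Q y ≠ 0) : GL ι F :=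
  ⁅ofEquiv (refl hQ x hx), ofEquiv (refl hQ y hy)⁆

lemma a2_mem (x y : ι → F) (hx : Q x ≠ 0) (hy : Q y ≠ 0) :
    a2 hQ x y hx hy ∈ Cfsg.Geo.omegaGL Q :=
  comm_mem_omegaGL _ _ (ofEquiv_mem_iso _ (refl_Q hQ x hx)) (ofEquiv_mem_iso _ (refl_Q hQ y hy))

/-- for `Q x = Q y = B(x,y) = c ≠ 0` the commutator `[r_x, r_y]` is the rotation
`v ↦ v - c⁻¹ B(v,x) x + c⁻¹ (B(v,x) - B(v,y)) y` of order three -/
lemma a2_mulVec (x y : ι → F) (c : F) (hc : c ≠ 0) (hx : Q x = c) (hy : Q y = c)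
    (hxy : pol Q x y = c) (v : ι → F) :
    ((a2 hQ x y (hx ▸ hc) (hy ▸ hc) : GL ι F) : Matrix ι ι F) *ᵥ v =
      v - (c⁻¹ * pol Q v x) • x + (c⁻¹ * (pol Q v x - pol Q v y)) • y := by
  rw [a2, ← map_commutatorElement, ofEquiv_mulVec, commutatorElement_def, refl_inv, refl_inv]
  simp only [LinearEquiv.mul_apply]
  have hyx : pol Q y x = c := by rw [pol_comm, hxy]
  simp only [refl_apply, hx, hy, pol_sub_left hQ, pol_smul_left hQ, hxy, hyx, pol_self hQ]
  have h1 : c⁻¹ * c = 1 := inv_mul_cancel₀ hc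
  match_scalars <;> field_simp <;> ring

end Omega

end Cfsg.Agent.Lib.Helper5.Orth
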