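import Mathlib
import Cfsg.Prelude.Def_GeometricClasses
import Cfsg.Agent.Lib.Helper5.Orth.QBasic

set_option autoImplicit false
set_option linter.unusedSectionVars false
open Cfsg Matrix

/-!
Geometry of a non-degenerate quadratic form `Q : (ι → F) → F` over a finite field of arbitrary
characteristic: separating functionals, perpendicular spaces, singular vectors by
Chevalley–Warning, hyperbolic pairs perpendicular to finitely many given vectors.
-/

namespace Cfsg.Agent.Lib.Helper5.Orth

variable {ι : Type} [Fintype ι] [DecidableEq ι] {F : Type*} [Field F]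

section LinAlg

variable {Q : (ι → F) → F} (hQ : Cfsg.Geo.IsNondegenerateQuadraticForm Q)

include hQ

/-- `x ↦ B(·, x)` as a linear map into the dual -/
def polD : (ι → F) →ₗ[F] Module.Dual F (ι → F) where
  toFun x := polL (IsQuad.of_nondeg hQ) x
  map_add' a b := by
    apply LinearMap.ext
    intro v
    exact pol_add_right (IsQuad.of_nondeg hQ) v a b
  map_smul' c a := by
    apply LinearMap.ext
    intro v
    simp [polL_apply, pol_smul_right (IsQuad.of_nondeg hQ)]

lemma polD_apply (x v : ι → F) : polD hQ x v = pol Q v x := rfl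

lemma polD_injective : Function.Injective (polD hQ) := by
  rw [← LinearMap.ker_eq_bot, LinearMap.ker_eq_bot']
  intro x hx
  by_contra h0
  obtain ⟨⟨y, hy⟩, -⟩ := hQ.nondegenerate x h0
  apply hy
  have := LinearMap.congr_fun hx y
  rwa [polD_apply] at this

lemma polD_surjective : Function.Surjective (polD hQ) := by
  have h : Module.finrank F (ι → F) = Module.finrank F (Module.Dual F (ι → F)) :=
    (Subspace.dual_finrank_eq).symm
  exact (LinearMap.injective_iff_surjective_of_finrank_eq_finrank h).1 (polD_injective hQ)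

/-- separating a vector from a subspace by the form -/
lemma exists_pol_eq_one (U : Submodule F (ι → F)) (z : ι → F) (hz : z ∉ U) :
    ∃ y, pol Q y z = 1 ∧ ∀ d ∈ U, pol Q y d = 0 := by
  obtain ⟨φ, hφz, hφU⟩ := Submodule.exists_dual_map_eq_bot_of_notMem hz inferInstance
  obtain ⟨y, hy⟩ := polD_surjective hQ ((φ z)⁻¹ • φ)
  refine ⟨y, ?_, ?_⟩
  · rw [pol_comm, ← polD_apply hQ, hy, LinearMap.smul_apply, smul_eq_mul, inv_mul_cancel₀ hφz]
  · intro d hd
    rw [pol_comm, ← polD_apply hQ, hy, LinearMap.smul_apply]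
    have : φ d = 0 := by
      have : φ d ∈ U.map φ := ⟨d, hd, rfl⟩
      rwa [hφU, Submodule.mem_bot] at this
    rw [this, smul_zero]

/-- the linear map `x ↦ (pol x (d i))_i` -/
def polMap {k : ℕ} (d : Fin k → (ι → F)) : (ι → F) →ₗ[F] (Fin k → F) where
  toFun x := fun i => pol Q x (d i)
  map_add' x y := by
    funext i
    exact pol_add_left (IsQuad.of_nondeg hQ) x y (d i)
  map_smul' c x := by
    funext i
    rw [pol_smul_left (IsQuad.of_nondeg hQ)]; rfl

/-- the common perpendicular space of a finite family -/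
def perpS {k : ℕ} (d : Fin k → (ι → F)) : Submodule F (ι → F) :=
  LinearMap.ker (polMap hQ d)

lemma mem_perpS {k : ℕ} (d : Fin k → (ι → F)) (x : ι → F) :
    x ∈ perpS hQ d ↔ ∀ i, pol Q x (d i) = 0 := by
  rw [perpS, LinearMap.mem_ker]
  constructor
  · intro h i
    exact congrFun h i
  · intro h
    funext i
    exact h i

lemma finrank_perpS_ge {k : ℕ} (d : Fin k → (ι → F)) :
    Fintype.card ι ≤ Module.finrank F (perpS hQ d) + k := by
  have h1 := LinearMap.finrank_range_add_finrank_ker (polMap hQ d)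
  have h2 : Module.finrank F (LinearMap.range (polMap hQ d)) ≤ k := by
    have := (LinearMap.range (polMap hQ d)).finrank_le
    rwa [Module.finrank_fintype_fun_eq_card, Fintype.card_fin] at this
  rw [Module.finrank_fintype_fun_eq_card] at h1
  rw [perpS]
  omega

end LinAlg

section Singular

variable {Q : (ι → F) → F} (hQ : IsQuad Q)

include hQ

lemma Q_three (x₀ x₁ x₂ : ι → F) (a b c : F) :
    Q (a • x₀ + b • x₁ + c • x₂) = a ^ 2 * Q x₀ + b ^ 2 * Q x₁ + c ^ 2 * Q x₂ +
      a * b * pol Q x₀ x₁ + a * c * pol Q x₀ x₂ + b * c * pol Q x₁ x₂ := by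
  rw [Q_add Q, Q_add Q, hQ.smul, hQ.smul, hQ.smul]
  simp only [pol_add_left hQ, pol_smul_left hQ, pol_smul_right hQ]
  ring

variable [Fintype F]

/-- Chevalley–Warning: a subspace of dimension at least three contains a nonzero singular
vector (any finite field, any characteristic) -/
lemma exists_singular_of_finrank (E : Submodule F (ι → F))
    (hE : 3 ≤ Module.finrank F E) : ∃ e ∈ E, e ≠ 0 ∧ Q e = 0 := by
  classical
  obtain ⟨b, hb⟩ := exists_linearIndependent_of_le_finrank hE
  set x : Fin 3 → (ι → F) := fun i => (b i : ι → F) with hx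
  have hxli : LinearIndependent F x := by
    have := hb.map' E.subtype (Submodule.ker_subtype E)
    exact this
  have hxE : ∀ i, x i ∈ E := fun i => (b i).2
  let P : MvPolynomial (Fin 3) F :=
    MvPolynomial.C (Q (x 0)) * MvPolynomial.X 0 ^ 2 + MvPolynomial.C (Q (x 1)) * MvPolynomial.X 1 ^ 2
      + MvPolynomial.C (Q (x 2)) * MvPolynomial.X 2 ^ 2
      + MvPolynomial.C (pol Q (x 0) (x 1)) * MvPolynomial.X 0 * MvPolynomial.X 1
      + MvPolynomial.C (pol Q (x 0) (x 2)) * MvPolynomial.X 0 * MvPolynomial.X 2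
      + MvPolynomial.C (pol Q (x 1) (x 2)) * MvPolynomial.X 1 * MvPolynomial.X 2
  have hPeval : ∀ t : Fin 3 → F, MvPolynomial.eval t P = Q (t 0 • x 0 + t 1 • x 1 + t 2 • x 2) := by
    intro t
    rw [Q_three hQ]
    simp only [P, map_add, map_mul, map_pow, MvPolynomial.eval_C, MvPolynomial.eval_X]
    ring
  have hsq : ∀ (c : F) (i : Fin 3),
      (MvPolynomial.C c * MvPolynomial.X i ^ 2 : MvPolynomial (Fin 3) F).totalDegree ≤ 2 := by
    intro c i
    refine (MvPolynomial.totalDegree_mul _ _).trans ?_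
    rw [MvPolynomial.totalDegree_C, zero_add]
    refine (MvPolynomial.totalDegree_pow _ _).trans ?_
    rw [MvPolynomial.totalDegree_X]
  have hmx : ∀ (c : F) (i j : Fin 3),
      (MvPolynomial.C c * MvPolynomial.X i * MvPolynomial.X j :
        MvPolynomial (Fin 3) F).totalDegree ≤ 2 := by
    intro c i j
    refine (MvPolynomial.totalDegree_mul _ _).trans ?_
    have h1 := MvPolynomial.totalDegree_mul (MvPolynomial.C c : MvPolynomial (Fin 3) F)
      (MvPolynomial.X i)
    rw [MvPolynomial.totalDegree_C, MvPolynomial.totalDegree_X] at h1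
    rw [MvPolynomial.totalDegree_X]
    omega
  have hdeg : P.totalDegree < Fintype.card (Fin 3) := by
    rw [Fintype.card_fin]
    have : P.totalDegree ≤ 2 := by
      refine (MvPolynomial.totalDegree_add _ _).trans (max_le ?_ (hmx _ _ _))
      refine (MvPolynomial.totalDegree_add _ _).trans (max_le ?_ (hmx _ _ _))
      refine (MvPolynomial.totalDegree_add _ _).trans (max_le ?_ (hmx _ _ _))
      refine (MvPolynomial.totalDegree_add _ _).trans (max_le ?_ (hsq _ _))
      refine (MvPolynomial.totalDegree_add _ _).trans (max_le (hsq _ _) (hsq _ _))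
    omega
  have := ringChar.charP F
  have hdvd := char_dvd_card_solutions (ringChar F) hdeg
  have hp : (ringChar F).Prime := CharP.char_is_prime F (ringChar F)
  have h0 : MvPolynomial.eval (0 : Fin 3 → F) P = 0 := by
    rw [hPeval]
    simp [Q_zero hQ]
  have hcard : 1 < Fintype.card {t : Fin 3 → F // MvPolynomial.eval t P = 0} := by
    have hpos : 0 < Fintype.card {t : Fin 3 → F // MvPolynomial.eval t P = 0} :=
      Fintype.card_pos_iff.2 ⟨⟨0, h0⟩⟩
    have := Nat.le_of_dvd hpos hdvd
    have := hp.two_le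
    omega
  obtain ⟨⟨t, ht⟩, htne⟩ := Fintype.exists_ne_of_one_lt_card hcard ⟨0, h0⟩
  have ht0 : t ≠ 0 := fun h => htne (Subtype.ext h)
  refine ⟨t 0 • x 0 + t 1 • x 1 + t 2 • x 2, ?_, ?_, ?_⟩
  · exact E.add_mem (E.add_mem (E.smul_mem _ (hxE 0)) (E.smul_mem _ (hxE 1))) (E.smul_mem _ (hxE 2))
  · intro h
    apply ht0
    have h3 : ∑ i, t i • x i = 0 := by
      rw [Fin.sum_univ_three]; exact h
    have := Fintype.linearIndependent_iff.1 hxli t h3
    funext i
    exact this i
  · rw [← hPeval]; exact ht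

/-- a large subspace contains a singular vector outside a given small subspace -/
lemma exists_singular_notMem (E R : Submodule F (ι → F))
    (h : Module.finrank F R + 3 ≤ Module.finrank F E) : ∃ e ∈ E, e ∉ R ∧ Q e = 0 := by
  obtain ⟨C, hC⟩ := Submodule.exists_isCompl R
  have h1 := Submodule.finrank_sup_add_finrank_inf_eq E C
  have h3 : Module.finrank F R + Module.finrank F C = Fintype.card ι := by
    have := Submodule.finrank_add_eq_of_isCompl hC
    rwa [Module.finrank_fintype_fun_eq_card] at this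
  have h4 : Module.finrank F (E ⊔ C : Submodule F (ι → F)) ≤ Fintype.card ι := by
    have := (E ⊔ C).finrank_le
    rwa [Module.finrank_fintype_fun_eq_card] at this
  obtain ⟨e, heEC, he0, hqe⟩ := exists_singular_of_finrank hQ (E ⊓ C) (by omega)
  refine ⟨e, heEC.1, fun heR => he0 ?_, hqe⟩
  have : e ∈ R ⊓ C := ⟨heR, heEC.2⟩
  rwa [hC.inf_eq_bot, Submodule.mem_bot] at this

end Singular

section Hyp

variable [Fintype F] {Q : (ι → F) → F} (hQ : Cfsg.Geo.IsNondegenerateQuadraticForm Q)

include hQ

/-- a hyperbolic pair perpendicular to `k` given vectors, `2k + 3 ≤ dim` -/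
lemma exists_hyperbolic_pair {k : ℕ} (d : Fin k → (ι → F)) (hk : 2 * k + 3 ≤ Fintype.card ι) :
    ∃ e f : ι → F, (∀ i, pol Q e (d i) = 0) ∧ (∀ i, pol Q f (d i) = 0) ∧ Q e = 0 ∧ Q f = 0 ∧
      pol Q e f = 1 := by
  have hq := IsQuad.of_nondeg hQ
  have h1 := finrank_perpS_ge hQ d
  have h3 : Module.finrank F (Submodule.span F (Set.range d)) ≤ k := by
    have := finrank_range_le_card (R := F) d
    rwa [Fintype.card_fin] at this
  obtain ⟨e, heE, heR, hqe⟩ := exists_singular_notMem hq (perpS hQ d)
    (Submodule.span F (Set.range d)) (by omega)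
  obtain ⟨y, hy1, hy2⟩ := exists_pol_eq_one hQ _ e heR
  rw [mem_perpS] at heE
  have hyd : ∀ i, pol Q y (d i) = 0 := fun i => hy2 _ (Submodule.subset_span ⟨i, rfl⟩)
  refine ⟨e, y + (-Q y) • e, heE, fun i => ?_, hqe, ?_, ?_⟩
  · rw [pol_add_left hq, pol_smul_left hq, hyd, heE, mul_zero, add_zero]
  · rw [Q_add Q, Q_smul hq, pol_smul_right hq, hqe, hy1]; ring
  · rw [pol_add_right hq, pol_smul_right hq, pol_self hq, hqe, pol_comm e y, hy1]; ring

end Hyp

end Cfsg.Agent.Lib.Helper5.Orth
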