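import Mathlib
import Cfsg.Prelude.Def_GeometricClasses
import Cfsg.Agent.Lib.Helper5.Orth.QBasic
import Cfsg.Agent.Lib.Helper5.Orth.QGeom

set_option autoImplicit false
set_option linter.unusedSectionVars false
open Cfsg Matrix

/-!
Over a field with at most three elements the stabiliser in `Ω` of a plane of plus type
`W = ⟨e, f⟩` fixes the line spanned by `e + f`, and lies strictly between: it is not maximal.
-/

namespace Cfsg.Agent.Lib.Helper5.Orth

variable {ι : Type} [Fintype ι] [DecidableEq ι] {F : Type*} [Field F]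

lemma mem_subspaceStabilizer (W : Submodule F (ι → F)) (g : GL ι F) :
    g ∈ Cfsg.Geo.subspaceStabilizer W ↔ ∀ v, v ∈ W ↔ (g : Matrix ι ι F) *ᵥ v ∈ W := Iff.rfl

/-- a subgroup all of whose elements map `W` into itself lies in the stabiliser of `W` -/
lemma le_subspaceStabilizer (H : Subgroup (GL ι F)) (W : Submodule F (ι → F))
    (h : ∀ g ∈ H, ∀ v ∈ W, (g : Matrix ι ι F) *ᵥ v ∈ W) : H ≤ Cfsg.Geo.subspaceStabilizer W := by
  intro g hg
  rw [mem_subspaceStabilizer]
  intro v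
  refine ⟨h g hg v, fun hv => ?_⟩
  have := h g⁻¹ (H.inv_mem hg) _ hv
  rwa [gl_inv_mulVec_mulVec] at this

lemma mulVec_smul' (g : GL ι F) (c : F) (v : ι → F) :
    (g : Matrix ι ι F) *ᵥ (c • v) = c • ((g : Matrix ι ι F) *ᵥ v) := Matrix.mulVec_smul _ _ _

/-- an invertible matrix fixing `w` stabilises the line spanned by `w` -/
lemma mem_stab_span_of_fix (g : GL ι F) (w : ι → F) (h : (g : Matrix ι ι F) *ᵥ w = w) :
    g ∈ Cfsg.Geo.subspaceStabilizer (Submodule.span F {w}) := by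
  rw [mem_subspaceStabilizer]
  intro v
  constructor
  · intro hv
    obtain ⟨c, rfl⟩ := Submodule.mem_span_singleton.1 hv
    rw [mulVec_smul', h]
    exact Submodule.mem_span_singleton.2 ⟨c, rfl⟩
  · intro hv
    obtain ⟨c, hc⟩ := Submodule.mem_span_singleton.1 hv
    have : v = c • w := by
      have h0 : (g : Matrix ι ι F) *ᵥ v = (g : Matrix ι ι F) *ᵥ (c • w) := by
        rw [mulVec_smul', h, hc]
      have h1 : ((g⁻¹ : GL ι F) : Matrix ι ι F) *ᵥ ((g : Matrix ι ι F) *ᵥ v) =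
          ((g⁻¹ : GL ι F) : Matrix ι ι F) *ᵥ ((g : Matrix ι ι F) *ᵥ (c • w)) := by
        rw [h0]
      rwa [gl_inv_mulVec_mulVec, gl_inv_mulVec_mulVec] at h1
    rw [this]
    exact Submodule.mem_span_singleton.2 ⟨c, rfl⟩

section Field3

variable [Fintype F]

lemma sq_eq_one_of_card_le_three (hq : Fintype.card F ≤ 3) (a : F) (ha : a ≠ 0) : a * a = 1 := by
  have h1 := FiniteField.pow_card_sub_one_eq_one a ha
  have h2 : 1 < Fintype.card F := Fintype.one_lt_card
  have h3 : Fintype.card F = 2 ∨ Fintype.card F = 3 := by omega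
  rcases h3 with h3 | h3
  · rw [h3] at h1
    have : a = 1 := by simpa using h1
    rw [this, one_mul]
  · rw [h3] at h1
    rw [← h1]; ring

end Field3

section Plane

variable {Q : (ι → F) → F} (hQ : IsQuad Q)

include hQ

/-- a plane of plus type on which the polar form is non-degenerate is spanned by a hyperbolic pair -/
lemma exists_hyp_basis (W : Submodule F (ι → F)) (hdim : Module.finrank F W = 2)
    (hW : Cfsg.Geo.IsNondegenerateOn (QuadraticMap.polar Q) W) (hWp : Cfsg.Geo.IsPlusTypeOn Q W) :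
    ∃ e f : ι → F, Q e = 0 ∧ Q f = 0 ∧ pol Q e f = 1 ∧ W = Submodule.span F {e, f} := by
  obtain ⟨U, hUW, hUs, hUd⟩ := hWp
  have hU1 : Module.finrank F U = 1 := by omega
  have hUne : U ≠ ⊥ := by
    intro h
    rw [h, finrank_bot] at hU1
    omega
  obtain ⟨e, heU, he0⟩ := Submodule.exists_mem_ne_zero_of_ne_bot hUne
  have hqe : Q e = 0 := hUs e heU
  have heW : e ∈ W := hUW heU
  obtain ⟨⟨x, hxW, hxe⟩, -⟩ := hW e heW he0
  have hxe' : pol Q x e ≠ 0 := hxe
  obtain ⟨x₁, hx₁W, hx₁e⟩ : ∃ x₁ ∈ W, pol Q x₁ e = 1 := by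
    refine ⟨(pol Q x e)⁻¹ • x, W.smul_mem _ hxW, ?_⟩
    rw [pol_smul_left hQ, inv_mul_cancel₀ hxe']
  obtain ⟨f, hfW, hqf, hef⟩ : ∃ f ∈ W, Q f = 0 ∧ pol Q e f = 1 := by
    refine ⟨x₁ + (-Q x₁) • e, W.add_mem hx₁W (W.smul_mem _ heW), ?_, ?_⟩
    · rw [Q_add Q, Q_smul hQ (-Q x₁) e, pol_smul_right hQ, hqe, hx₁e]; ring
    · rw [pol_add_right hQ, pol_smul_right hQ, pol_self hQ, hqe, pol_comm e x₁, hx₁e]; ring
  refine ⟨e, f, hqe, hqf, hef, ?_⟩
  have hli : LinearIndependent F ![e, f] := by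
    rw [LinearIndependent.pair_iff]
    intro s t hst
    have h1 : pol Q (s • e + t • f) f = s := by
      rw [pol_add_left hQ, pol_smul_left hQ, pol_smul_left hQ, pol_self hQ, hqf, hef]; ring
    have h2 : pol Q (s • e + t • f) e = t := by
      rw [pol_add_left hQ, pol_smul_left hQ, pol_smul_left hQ, pol_self hQ, hqe, pol_comm f e, hef]
      ring
    rw [hst, pol_zero_left hQ] at h1 h2
    exact ⟨h1.symm, h2.symm⟩
  have hfr : Module.finrank F (Submodule.span F (Set.range ![e, f])) = 2 := by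
    rw [finrank_span_eq_card hli, Fintype.card_fin]
  have hrange : Set.range ![e, f] = {e, f} := by
    simp [Matrix.range_cons, Matrix.range_empty, Set.pair_comm]
  rw [hrange] at hfr
  have hle : Submodule.span F {e, f} ≤ W := by
    rw [Submodule.span_le]
    rintro v (rfl | rfl)
    · exact heW
    · exact hfW
  exact (Submodule.eq_of_le_of_finrank_eq hle (by rw [hfr, hdim])).symm

end Plane

section Main

variable [Fintype F] {Q : (ι → F) → F}

/-- over a field with at most three elements, the stabiliser in `Ω` of a plus plane is not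
maximal in `Ω` (dimension at least 11) -/
theorem plus_plane_not_maximal (hQ : Cfsg.Geo.IsNondegenerateQuadraticForm Q)
    (hq : Fintype.card F ≤ 3) (hn : 11 ≤ Fintype.card ι) (W : Submodule F (ι → F))
    (hdim : Module.finrank F W = 2)
    (hW : Cfsg.Geo.IsNondegenerateOn (QuadraticMap.polar Q) W) (hWp : Cfsg.Geo.IsPlusTypeOn Q W) :
    ∃ K : Subgroup (GL ι F), Cfsg.Geo.subspaceStabilizer W ⊓ Cfsg.Geo.omegaGL Q < K ∧
      K < Cfsg.Geo.omegaGL Q := by
  have hq' := IsQuad.of_nondeg hQ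
  obtain ⟨e, f, hqe, hqf, hef, hWef⟩ := exists_hyp_basis hq' W hdim hW hWp
  have hfe : pol Q f e = 1 := by rw [pol_comm, hef]
  -- two further hyperbolic pairs
  obtain ⟨e₁, f₁, he₁d, hf₁d, hqe₁, hqf₁, he₁f₁⟩ :=
    exists_hyperbolic_pair hQ ![e, f] (by omega)
  obtain ⟨e₂, f₂, he₂d, hf₂d, hqe₂, hqf₂, he₂f₂⟩ :=
    exists_hyperbolic_pair hQ ![e, f, e₁, f₁] (by omega)
  have he₁e : pol Q e₁ e = 0 := he₁d 0
  have he₁f : pol Q e₁ f = 0 := he₁d 1
  have hf₁e : pol Q f₁ e = 0 := hf₁d 0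
  have hf₁f : pol Q f₁ f = 0 := hf₁d 1
  have he₂e : pol Q e₂ e = 0 := he₂d 0
  have he₂f : pol Q e₂ f = 0 := he₂d 1
  have he₂e₁ : pol Q e₂ e₁ = 0 := he₂d 2
  have he₂f₁ : pol Q e₂ f₁ = 0 := he₂d 3
  have hf₂e : pol Q f₂ e = 0 := hf₂d 0
  have hf₂f : pol Q f₂ f = 0 := hf₂d 1
  have hf₂e₁ : pol Q f₂ e₁ = 0 := hf₂d 2
  have hf₂f₁ : pol Q f₂ f₁ = 0 := hf₂d 3
  have hf₁e₁ : pol Q f₁ e₁ = 1 := by rw [pol_comm, he₁f₁]
  have hf₂e₂ : pol Q f₂ e₂ = 1 := by rw [pol_comm, he₂f₂]
  have hee₁ : pol Q e e₁ = 0 := by rw [pol_comm, he₁e]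
  have hef₁ : pol Q e f₁ = 0 := by rw [pol_comm, hf₁e]
  have hfe₁ : pol Q f e₁ = 0 := by rw [pol_comm, he₁f]
  have hff₁ : pol Q f f₁ = 0 := by rw [pol_comm, hf₁f]
  have hee₂ : pol Q e e₂ = 0 := by rw [pol_comm, he₂e]
  have hef₂ : pol Q e f₂ = 0 := by rw [pol_comm, hf₂e]
  have hfe₂ : pol Q f e₂ = 0 := by rw [pol_comm, he₂f]
  have hff₂ : pol Q f f₂ = 0 := by rw [pol_comm, hf₂f]
  have he₁e₂ : pol Q e₁ e₂ = 0 := by rw [pol_comm, he₂e₁]
  have he₁f₂ : pol Q e₁ f₂ = 0 := by rw [pol_comm, hf₂e₁]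
  have hf₁e₂ : pol Q f₁ e₂ = 0 := by rw [pol_comm, he₂f₁]
  have hf₁f₂ : pol Q f₁ f₂ = 0 := by rw [pol_comm, hf₂f₁]
  -- the vectors
  set w := e + f with hw
  set x := e₁ + f₁ with hx
  set y' := e₁ + (e₂ + (2 : F) • f₂) with hy'
  set y := (e - f) + y' with hy
  set z := f + x with hz
  have hqw : Q w = 1 := by rw [hw, Q_add Q, hqe, hqf, hef]; ring
  have hqx : Q x = 1 := by rw [hx, Q_add Q, hqe₁, hqf₁, he₁f₁]; ring
  have hxe : pol Q x e = 0 := by rw [hx, pol_add_left hq', he₁e, hf₁e]; ring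
  have hxf : pol Q x f = 0 := by rw [hx, pol_add_left hq', he₁f, hf₁f]; ring
  have hex : pol Q e x = 0 := by rw [pol_comm, hxe]
  have hfx : pol Q f x = 0 := by rw [pol_comm, hxf]
  have hy'e : pol Q y' e = 0 := by
    rw [hy']
    simp only [pol_add_left hq', pol_smul_left hq', he₁e, he₂e, hf₂e]; ring
  have hy'f : pol Q y' f = 0 := by
    rw [hy']
    simp only [pol_add_left hq', pol_smul_left hq', he₁f, he₂f, hf₂f]; ring
  have hqy' : Q y' = 2 := by
    rw [hy', Q_add Q, Q_add Q, Q_smul hq']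
    simp only [pol_add_right hq', pol_smul_right hq', hqe₁, hqe₂, hqf₂, he₂f₂, he₁e₂, he₁f₂]; ring
  have hxy' : pol Q x y' = 1 := by
    rw [hx, hy']
    simp only [pol_add_left hq', pol_add_right hq', pol_smul_right hq', pol_self hq', hqe₁,
      hf₁e₁, he₁e₂, he₁f₂, hf₁e₂, hf₁f₂]; ring
  have hqy : Q y = 1 := by
    rw [hy, Q_add Q, Q_sub hq', hqe, hqf, hef, hqy', pol_sub_left hq', pol_comm e y', pol_comm f y',
      hy'e, hy'f]; ring
  have hxy : pol Q x y = 1 := by
    rw [hy, pol_add_right hq', pol_sub_right hq', hxe, hxf, hxy']; ring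
  have hwx : pol Q w x = 0 := by rw [hw, pol_add_left hq', hex, hfx]; ring
  have hwy : pol Q w y = 0 := by
    rw [hw, hy]
    simp only [pol_add_left hq', pol_add_right hq', pol_sub_right hq', pol_self hq', hqe, hqf, hef,
      hfe, pol_comm e y', pol_comm f y', hy'e, hy'f]; ring
  have hey : pol Q e y = -1 := by
    rw [hy, pol_add_right hq', pol_sub_right hq', pol_self hq', hqe, hef, pol_comm e y', hy'e]; ring
  have hqz : Q z = 1 := by rw [hz, Q_add Q, hqf, hqx, hfx]; ring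
  have hwz : pol Q w z = 1 := by
    rw [hw, hz]
    simp only [pol_add_left hq', pol_add_right hq', pol_self hq', hqf, hef, hex, hfx]; ring
  have hww : pol Q w w = 2 := by rw [pol_self hq', hqw]; ring
  have h10 : (1 : F) ≠ 0 := one_ne_zero
  -- the two elements of Ω
  set g₁ := a2 hq' x y (hqx ▸ h10) (hqy ▸ h10) with hg₁
  set g₂ := a2 hq' w z (hqw ▸ h10) (hqz ▸ h10) with hg₂
  have hg₁Ω : g₁ ∈ Cfsg.Geo.omegaGL Q := a2_mem hq' _ _ _ _
  have hg₂Ω : g₂ ∈ Cfsg.Geo.omegaGL Q := a2_mem hq' _ _ _ _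
  have hg₁v : ∀ v, (g₁ : Matrix ι ι F) *ᵥ v =
      v - ((1 : F)⁻¹ * pol Q v x) • x + ((1 : F)⁻¹ * (pol Q v x - pol Q v y)) • y :=
    fun v => a2_mulVec hq' x y 1 h10 hqx hqy hxy v
  have hg₂v : ∀ v, (g₂ : Matrix ι ι F) *ᵥ v =
      v - ((1 : F)⁻¹ * pol Q v w) • w + ((1 : F)⁻¹ * (pol Q v w - pol Q v z)) • z :=
    fun v => a2_mulVec hq' w z 1 h10 hqw hqz hwz v
  have hg₁w : (g₁ : Matrix ι ι F) *ᵥ w = w := by
    rw [hg₁v, hwx, hwy]; simp
  have hg₁e : (g₁ : Matrix ι ι F) *ᵥ e = e + y := by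
    rw [hg₁v, hex, hey]; simp
  have hg₂w : (g₂ : Matrix ι ι F) *ᵥ w = x - e := by
    rw [hg₂v, hww, hwz, hz, hw]
    simp only [inv_one, one_mul]
    module
  refine ⟨Cfsg.Geo.subspaceStabilizer (Submodule.span F {w}) ⊓ Cfsg.Geo.omegaGL Q, ?_, ?_⟩
  · -- first strict inclusion
    rw [lt_iff_le_and_ne]
    constructor
    · refine le_inf ?_ inf_le_right
      apply le_subspaceStabilizer
      intro g hg v hv
      obtain ⟨c, rfl⟩ := Submodule.mem_span_singleton.1 hv
      rw [mulVec_smul']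
      refine Submodule.smul_mem _ _ ?_
      have hgW := (mem_subspaceStabilizer W g).1 hg.1
      have hwW : w ∈ W := by
        rw [hWef]
        exact Submodule.add_mem _ (Submodule.subset_span (by simp)) (Submodule.subset_span (by simp))
      have hgw : (g : Matrix ι ι F) *ᵥ w ∈ W := (hgW w).1 hwW
      rw [hWef, Submodule.mem_span_pair] at hgw
      obtain ⟨a, b, hab⟩ := hgw
      have hQgw : Q ((g : Matrix ι ι F) *ᵥ w) = 1 := by rw [omegaGL_Q g hg.2, hqw]
      rw [← hab, Q_add Q, Q_smul hq', Q_smul hq', pol_smul_left hq', pol_smul_right hq', hqe, hqf,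
        hef] at hQgw
      have hab1 : a * b = 1 := by linear_combination hQgw
      have ha0 : a ≠ 0 := by
        rintro rfl
        rw [zero_mul] at hab1
        exact zero_ne_one hab1
      have haa := sq_eq_one_of_card_le_three hq a ha0
      have hba : b = a := by
        have : a * b = a * a := by rw [hab1, haa]
        exact mul_left_cancel₀ ha0 this
      rw [← hab, hba]
      refine Submodule.mem_span_singleton.2 ⟨a, ?_⟩
      rw [hw, smul_add]
    · intro heq
      have hg₁K : g₁ ∈ Cfsg.Geo.subspaceStabilizer (Submodule.span F {w}) ⊓ Cfsg.Geo.omegaGL Q :=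
        ⟨mem_stab_span_of_fix g₁ w hg₁w, hg₁Ω⟩
      rw [← heq] at hg₁K
      have hgW := (mem_subspaceStabilizer W g₁).1 hg₁K.1
      have heW : e ∈ W := by
        rw [hWef]; exact Submodule.subset_span (by simp)
      have hfW : f ∈ W := by
        rw [hWef]; exact Submodule.subset_span (by simp)
      have h1 : e + y ∈ W := by
        rw [← hg₁e]; exact (hgW e).1 heW
      have h2 : y' ∈ W := by
        have : y' = (e + y) - e - (e - f) := by rw [hy]; abel
        rw [this]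
        exact W.sub_mem (W.sub_mem h1 heW) (W.sub_mem heW hfW)
      rw [hWef, Submodule.mem_span_pair] at h2
      obtain ⟨a, b, hab⟩ := h2
      have : pol Q x y' = 0 := by
        rw [← hab, pol_add_right hq', pol_smul_right hq', pol_smul_right hq', hxe, hxf]; ring
      rw [hxy'] at this
      exact one_ne_zero this
  · -- second strict inclusion
    rw [lt_iff_le_and_ne]
    refine ⟨inf_le_right, fun heq => ?_⟩
    have hg₂K : g₂ ∈ Cfsg.Geo.subspaceStabilizer (Submodule.span F {w}) ⊓ Cfsg.Geo.omegaGL Q := by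
      rw [heq]; exact hg₂Ω
    have h1 := ((mem_subspaceStabilizer _ g₂).1 hg₂K.1 w).1 (Submodule.mem_span_singleton_self w)
    rw [hg₂w] at h1
    obtain ⟨c, hc⟩ := Submodule.mem_span_singleton.1 h1
    have h2 : pol Q (x - e) f = -1 := by
      rw [pol_sub_left hq', hxf, hef]; ring
    have h3 : pol Q (x - e) e = 0 := by
      rw [pol_sub_left hq', hxe, pol_self hq', hqe]; ring
    rw [← hc, pol_smul_left hq', hw, pol_add_left hq'] at h2 h3
    rw [hef, pol_self hq', hqf] at h2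
    rw [hfe, pol_self hq', hqe] at h3
    have hc0 : c = 0 := by linear_combination h3
    rw [hc0] at h2
    have : (0 : F) = -1 := by linear_combination h2
    exact one_ne_zero (by linear_combination this)

end Main

end Cfsg.Agent.Lib.Helper5.Orth
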