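import Mathlib
import Cfsg.Prelude.Def_GeometricClasses
import Cfsg.Agent.Lib.Helper5.Orth.QBasic
import Cfsg.Agent.Lib.Helper5.Orth.PlusPlane

set_option autoImplicit false
set_option linter.unusedSectionVars false
open Cfsg Matrix

/-!
Over the field with three elements: if the members of an orthogonal decomposition `D` carry a
common "frame" (pairwise orthogonal vectors of one non-zero norm `c` which, up to sign, are the
only vectors of norm `c` in the member), then the stabiliser of `D` in `Ω` is not maximal: it lies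
strictly inside the stabiliser in `Ω` of the set of all vectors of norm `c` lying in a member.
-/

namespace Cfsg.Agent.Lib.Helper5.Orth

variable {ι : Type} [Fintype ι] [DecidableEq ι] {F : Type*} [Field F]

lemma mem_stabilizing (S : Set (ι → F)) (g : GL ι F) :
    g ∈ Cfsg.stabilizing (Cfsg.glToMat ι F) S ↔ ∀ v, v ∈ S ↔ (g : Matrix ι ι F) *ᵥ v ∈ S :=
  Iff.rfl

/-- a subgroup all of whose elements map `S` into itself lies in the stabiliser of `S` -/
lemma le_stabilizing (H : Subgroup (GL ι F)) (S : Set (ι → F))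
    (h : ∀ g ∈ H, ∀ v ∈ S, (g : Matrix ι ι F) *ᵥ v ∈ S) :
    H ≤ Cfsg.stabilizing (Cfsg.glToMat ι F) S := by
  intro g hg
  rw [mem_stabilizing]
  intro v
  refine ⟨h g hg v, fun hv => ?_⟩
  have := h g⁻¹ (H.inv_mem hg) _ hv
  rwa [gl_inv_mulVec_mulVec] at this

lemma gl_mulVec_injective (g : GL ι F) :
    Function.Injective (fun v : ι → F => (g : Matrix ι ι F) *ᵥ v) := by
  intro a b hab
  have := congrArg (fun v => ((g⁻¹ : GL ι F) : Matrix ι ι F) *ᵥ v) hab
  simpa [gl_inv_mulVec_mulVec] using this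

/-- over a finite field, an invertible matrix mapping `S` into itself stabilises `S` -/
lemma mem_stabilizing_of_mapsTo [Finite F] (g : GL ι F) (S : Set (ι → F))
    (h : ∀ v ∈ S, (g : Matrix ι ι F) *ᵥ v ∈ S) : g ∈ Cfsg.stabilizing (Cfsg.glToMat ι F) S := by
  rw [mem_stabilizing]
  intro v
  refine ⟨h v, fun hv => ?_⟩
  let φ : S → S := fun s => ⟨(g : Matrix ι ι F) *ᵥ s.1, h s.1 s.2⟩
  have hinj : Function.Injective φ := by
    intro a b hab
    apply Subtype.ext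
    exact gl_mulVec_injective g (congrArg Subtype.val hab)
  have hsurj := Finite.injective_iff_surjective.1 hinj
  obtain ⟨⟨s, hs⟩, hs'⟩ := hsurj ⟨_, hv⟩
  have : (g : Matrix ι ι F) *ᵥ s = (g : Matrix ι ι F) *ᵥ v := congrArg Subtype.val hs'
  rw [← gl_mulVec_injective g this]
  exact hs

lemma mulVec_neg' (g : GL ι F) (v : ι → F) :
    (g : Matrix ι ι F) *ᵥ (-v) = -((g : Matrix ι ι F) *ᵥ v) := Matrix.mulVec_neg _ _

lemma mem_decompositionStabilizer {t : ℕ} (D : Fin t → Submodule F (ι → F)) (g : GL ι F) :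
    g ∈ Cfsg.Geo.decompositionStabilizer D ↔
      ∃ σ : Equiv.Perm (Fin t), ∀ i, (D i).map (Matrix.toLin' (g : Matrix ι ι F)) = D (σ i) :=
  Iff.rfl

section Three

variable [Fintype F]

lemma three_eq_zero (hq3 : Fintype.card F = 3) : (3 : F) = 0 := by
  have : ((Fintype.card F : ℕ) : F) = 0 := Nat.cast_card_eq_zero F
  rw [hq3] at this
  exact_mod_cast this

lemma two_ne_zero_of_card_three (hq3 : Fintype.card F = 3) : (2 : F) ≠ 0 := by
  intro h
  have h3 := three_eq_zero hq3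
  have : (1 : F) = 0 := by linear_combination h3 - h
  exact one_ne_zero this

end Three

section Main

variable [Fintype F] {Q : (ι → F) → F}

theorem frame_not_maximal (hq3 : Fintype.card F = 3) (hQ : IsQuad Q) {t k : ℕ}
    (D : Fin t → Submodule F (ι → F))
    (horthD : ∀ i j, i ≠ j → ∀ a ∈ D i, ∀ b ∈ D j, pol Q a b = 0)
    (ht : 3 ≤ t) (hk : 2 ≤ k) (c : F) (hc : c ≠ 0) (u : Fin t → Fin k → (ι → F))
    (hmem : ∀ i j, u i j ∈ D i) (hnorm : ∀ i j, Q (u i j) = c)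
    (horth : ∀ i j j', j ≠ j' → pol Q (u i j) (u i j') = 0)
    (hclass : ∀ i, ∀ v ∈ D i, Q v = c → ∃ j, v = u i j ∨ v = - u i j) :
    ∃ K : Subgroup (GL ι F), Cfsg.Geo.decompositionStabilizer D ⊓ Cfsg.Geo.omegaGL Q < K ∧
      K < Cfsg.Geo.omegaGL Q := by
  have h3 := three_eq_zero hq3
  have h2 := two_ne_zero_of_card_three hq3
  have h2c : 2 * c ≠ 0 := mul_ne_zero h2 hc
  -- polar form on frame vectors
  have hpol_self : ∀ i j, pol Q (u i j) (u i j) = 2 * c := fun i j => by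
    rw [pol_self hQ, hnorm]
  have hpol_ne : ∀ i j i' j', (i ≠ i' ∨ j ≠ j') → pol Q (u i j) (u i' j') = 0 := by
    intro i j i' j' h
    by_cases hi : i = i'
    · subst hi
      exact horth i j j' (h.resolve_left (fun h => h rfl))
    · exact horthD i i' hi _ (hmem i j) _ (hmem i' j')
  let i0 : Fin t := ⟨0, by omega⟩
  let i1 : Fin t := ⟨1, by omega⟩
  let i2 : Fin t := ⟨2, by omega⟩
  let j0 : Fin k := ⟨0, by omega⟩
  let j1 : Fin k := ⟨1, by omega⟩
  have hi01 : i0 ≠ i1 := by simp [i0, i1, Fin.ext_iff]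
  have hi02 : i0 ≠ i2 := by simp [i0, i2, Fin.ext_iff]
  have hi12 : i1 ≠ i2 := by simp [i1, i2, Fin.ext_iff]
  have hj01 : j0 ≠ j1 := by simp [j0, j1, Fin.ext_iff]
  set A0 := u i0 j0 with hA0
  set A1 := u i1 j0 with hA1
  set A2 := u i2 j0 with hA2
  set B := u i0 j1 with hB
  set E := u i1 j1 with hE
  -- the set of vectors of norm c in a member
  let S₀ : Set (ι → F) := {v | ∃ i, v ∈ D i ∧ Q v = c}
  have hS₀u : ∀ i j, u i j ∈ S₀ := fun i j => ⟨i, hmem i j, hnorm i j⟩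
  have hS₀neg : ∀ v ∈ S₀, -v ∈ S₀ := by
    rintro v ⟨i, hv, hqv⟩
    exact ⟨i, (D i).neg_mem hv, by rw [Q_neg hQ, hqv]⟩
  -- first element: a 3-cycle on A0, A1, A2
  set x := A0 - A1 with hx
  set y := A2 - A1 with hy
  have hqx : Q x = 2 * c := by
    rw [hx, Q_sub hQ, hnorm, hnorm, hpol_ne _ _ _ _ (Or.inl hi01)]; ring
  have hqy : Q y = 2 * c := by
    rw [hy, Q_sub hQ, hnorm, hnorm, hpol_ne _ _ _ _ (Or.inl hi12.symm)]; ring
  have hxy : pol Q x y = 2 * c := by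
    rw [hx, hy]
    simp only [pol_sub_left hQ, pol_sub_right hQ]
    rw [hpol_ne i0 j0 i2 j0 (Or.inl hi02), hpol_ne i0 j0 i1 j0 (Or.inl hi01),
      hpol_ne i1 j0 i2 j0 (Or.inl hi12), hpol_self]
    ring
  set g₁ := a2 hQ x y (hqx ▸ h2c) (hqy ▸ h2c) with hg₁
  have hg₁Ω : g₁ ∈ Cfsg.Geo.omegaGL Q := a2_mem hQ _ _ _ _
  have hg₁v : ∀ v, (g₁ : Matrix ι ι F) *ᵥ v =
      v - ((2 * c)⁻¹ * pol Q v x) • x + ((2 * c)⁻¹ * (pol Q v x - pol Q v y)) • y :=
    fun v => a2_mulVec hQ x y (2 * c) h2c hqx hqy hxy v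
  have hinv : (2 * c)⁻¹ * (2 * c) = 1 := inv_mul_cancel₀ h2c
  have hpx : ∀ i j, pol Q (u i j) x =
      (if i = i0 ∧ j = j0 then 2 * c else 0) - (if i = i1 ∧ j = j0 then 2 * c else 0) := by
    intro i j
    rw [hx, pol_sub_right hQ]
    congr 1
    · split_ifs with h
      · rw [h.1, h.2]; exact hpol_self _ _
      · exact hpol_ne _ _ _ _ (by tauto)
    · split_ifs with h
      · rw [h.1, h.2]; exact hpol_self _ _
      · exact hpol_ne _ _ _ _ (by tauto)
  have hpy : ∀ i j, pol Q (u i j) y =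
      (if i = i2 ∧ j = j0 then 2 * c else 0) - (if i = i1 ∧ j = j0 then 2 * c else 0) := by
    intro i j
    rw [hy, pol_sub_right hQ]
    congr 1
    · split_ifs with h
      · rw [h.1, h.2]; exact hpol_self _ _
      · exact hpol_ne _ _ _ _ (by tauto)
    · split_ifs with h
      · rw [h.1, h.2]; exact hpol_self _ _
      · exact hpol_ne _ _ _ _ (by tauto)
  have hg₁A0 : (g₁ : Matrix ι ι F) *ᵥ A0 = A2 := by
    rw [hg₁v, hA0, hpx, hpy]
    simp only [true_and, if_true, hi01, hi02, false_and, if_false, sub_zero, hinv, one_smul]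
    rw [hx, hy]; abel
  have hg₁A1 : (g₁ : Matrix ι ι F) *ᵥ A1 = A0 := by
    rw [hg₁v, hA1, hpx, hpy]
    simp only [true_and, if_true, hi01.symm, hi12, false_and, if_false, zero_sub, sub_self,
      mul_zero, zero_smul, add_zero, mul_neg, hinv, neg_smul, one_smul, sub_neg_eq_add]
    rw [hx]; abel
  have hg₁A2 : (g₁ : Matrix ι ι F) *ᵥ A2 = A1 := by
    rw [hg₁v, hA2, hpx, hpy]
    simp only [true_and, if_true, hi02.symm, hi12.symm, false_and, if_false, sub_zero, sub_self,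
      mul_zero, zero_smul, zero_sub, mul_neg, hinv, neg_smul, one_smul]
    rw [hy]; abel
  have hg₁fix : ∀ i j, ¬ (i = i0 ∧ j = j0) → ¬ (i = i1 ∧ j = j0) → ¬ (i = i2 ∧ j = j0) →
      (g₁ : Matrix ι ι F) *ᵥ (u i j) = u i j := by
    intro i j n0 n1 n2
    rw [hg₁v, hpx, hpy, if_neg n0, if_neg n1, if_neg n2]
    simp
  have hg₁S : ∀ v ∈ S₀, (g₁ : Matrix ι ι F) *ᵥ v ∈ S₀ := by
    have hu : ∀ i j, (g₁ : Matrix ι ι F) *ᵥ (u i j) ∈ S₀ := by
      intro i j
      by_cases n0 : i = i0 ∧ j = j0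
      · rw [n0.1, n0.2]
        have : (g₁ : Matrix ι ι F) *ᵥ (u i0 j0) = A2 := hg₁A0
        rw [this]; exact hS₀u _ _
      by_cases n1 : i = i1 ∧ j = j0
      · rw [n1.1, n1.2]
        have : (g₁ : Matrix ι ι F) *ᵥ (u i1 j0) = A0 := hg₁A1
        rw [this]; exact hS₀u _ _
      by_cases n2 : i = i2 ∧ j = j0
      · rw [n2.1, n2.2]
        have : (g₁ : Matrix ι ι F) *ᵥ (u i2 j0) = A1 := hg₁A2
        rw [this]; exact hS₀u _ _
      rw [hg₁fix i j n0 n1 n2]; exact hS₀u _ _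
    rintro v ⟨i, hv, hqv⟩
    obtain ⟨j, rfl | rfl⟩ := hclass i v hv hqv
    · exact hu i j
    · rw [mulVec_neg']; exact hS₀neg _ (hu i j)
  have hg₁B : (g₁ : Matrix ι ι F) *ᵥ B = B := by
    apply hg₁fix
    · rintro ⟨-, h⟩; exact hj01 h.symm
    · rintro ⟨-, h⟩; exact hj01 h.symm
    · rintro ⟨-, h⟩; exact hj01 h.symm
  -- second element
  set y₂ := -A0 + B + A1 + E with hy₂
  have hqy₂ : Q y₂ = c := by
    have hqA0' : Q A0 = c := hnorm _ _
    have hqA1' : Q A1 = c := hnorm _ _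
    have hqB' : Q B = c := hnorm _ _
    have hqE' : Q E = c := hnorm _ _
    rw [hy₂, Q_add Q, Q_add Q, Q_add Q, Q_neg hQ]
    simp only [pol_add_left hQ, pol_neg_left hQ]
    rw [hqA0', hqA1', hqB', hqE']
    rw [hpol_ne i0 j0 i0 j1 (Or.inr hj01), hpol_ne i0 j0 i1 j0 (Or.inl hi01),
      hpol_ne i0 j1 i1 j0 (Or.inl hi01), hpol_ne i0 j0 i1 j1 (Or.inl hi01),
      hpol_ne i0 j1 i1 j1 (Or.inl hi01), hpol_ne i1 j0 i1 j1 (Or.inr hj01)]
    linear_combination c * h3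
  have hA0y₂ : pol Q A0 y₂ = c := by
    rw [hy₂]
    simp only [pol_add_right hQ, pol_neg_right hQ]
    rw [hpol_self, hpol_ne i0 j0 i0 j1 (Or.inr hj01), hpol_ne i0 j0 i1 j0 (Or.inl hi01),
      hpol_ne i0 j0 i1 j1 (Or.inl hi01)]
    linear_combination (-c) * h3
  have hqA0 : Q A0 = c := hnorm _ _
  set g₂ := a2 hQ A0 y₂ (hqA0 ▸ hc) (hqy₂ ▸ hc) with hg₂
  have hg₂Ω : g₂ ∈ Cfsg.Geo.omegaGL Q := a2_mem hQ _ _ _ _
  have hg₂v : ∀ v, (g₂ : Matrix ι ι F) *ᵥ v =
      v - (c⁻¹ * pol Q v A0) • A0 + (c⁻¹ * (pol Q v A0 - pol Q v y₂)) • y₂ :=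
    fun v => a2_mulVec hQ A0 y₂ c hc hqA0 hqy₂ hA0y₂ v
  have hg₂A0 : (g₂ : Matrix ι ι F) *ᵥ A0 = A0 + B + A1 + E := by
    rw [hg₂v, hA0y₂, hpol_self]
    have e1 : c⁻¹ * (2 * c) = 2 := by field_simp
    have e2 : c⁻¹ * (2 * c - c) = 1 := by field_simp; ring
    rw [e1, e2, hy₂, one_smul]
    have : (2 : F) • A0 = -A0 := by
      have : (2 : F) = -1 := by linear_combination h3
      rw [this, neg_one_smul]
    rw [this]; abel
  refine ⟨Cfsg.stabilizing (Cfsg.glToMat ι F) S₀ ⊓ Cfsg.Geo.omegaGL Q, ?_, ?_⟩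
  · rw [lt_iff_le_and_ne]
    constructor
    · refine le_inf ?_ inf_le_right
      apply le_stabilizing
      rintro g hg v ⟨i, hv, hqv⟩
      obtain ⟨σ, hσ⟩ := (mem_decompositionStabilizer D g).1 hg.1
      refine ⟨σ i, ?_, by rw [omegaGL_Q g hg.2, hqv]⟩
      rw [← hσ i]
      exact ⟨v, hv, Matrix.toLin'_apply _ _⟩
    · intro heq
      have hg₁K : g₁ ∈ Cfsg.stabilizing (Cfsg.glToMat ι F) S₀ ⊓ Cfsg.Geo.omegaGL Q :=
        ⟨mem_stabilizing_of_mapsTo g₁ S₀ hg₁S, hg₁Ω⟩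
      rw [← heq] at hg₁K
      obtain ⟨σ, hσ⟩ := (mem_decompositionStabilizer D g₁).1 hg₁K.1
      have hB1 : B ∈ D (σ i0) := by
        rw [← hσ i0]
        exact ⟨B, hmem _ _, by rw [Matrix.toLin'_apply, hg₁B]⟩
      have hσ0 : σ i0 = i0 := by
        by_contra hne
        have := horthD (σ i0) i0 hne B hB1 B (hmem _ _)
        rw [hB, hpol_self] at this
        exact h2c this
      have hA2' : A2 ∈ D i0 := by
        rw [← hσ0, ← hσ i0]
        exact ⟨A0, hmem _ _, by rw [Matrix.toLin'_apply, hg₁A0]⟩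
      have := horthD i0 i2 hi02 A2 hA2' A2 (hmem _ _)
      rw [hA2, hpol_self] at this
      exact h2c this
  · rw [lt_iff_le_and_ne]
    refine ⟨inf_le_right, fun heq => ?_⟩
    have hg₂K : g₂ ∈ Cfsg.stabilizing (Cfsg.glToMat ι F) S₀ ⊓ Cfsg.Geo.omegaGL Q := by
      rw [heq]; exact hg₂Ω
    have h1 := ((mem_stabilizing S₀ g₂).1 hg₂K.1 A0).1 (hS₀u _ _)
    rw [hg₂A0] at h1
    obtain ⟨i, hi, -⟩ := h1
    by_cases hii : i = i0
    · have := horthD i i1 (by rw [hii]; exact hi01) _ hi A1 (hmem _ _)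
      simp only [pol_add_left hQ] at this
      rw [hpol_ne i0 j0 i1 j0 (Or.inl hi01), hpol_ne i0 j1 i1 j0 (Or.inl hi01), hpol_self,
        hpol_ne i1 j1 i1 j0 (Or.inr hj01.symm)] at this
      apply h2c
      linear_combination this
    · have := horthD i i0 hii _ hi A0 (hmem _ _)
      simp only [pol_add_left hQ] at this
      rw [hpol_self, hpol_ne i0 j1 i0 j0 (Or.inr hj01.symm), hpol_ne i1 j0 i0 j0 (Or.inl hi01.symm),
        hpol_ne i1 j1 i0 j0 (Or.inl hi01.symm)] at this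
      apply h2c
      linear_combination this

end Main

end Cfsg.Agent.Lib.Helper5.Orth
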