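import Mathlib
import Cfsg.Agent.H9.OrthK
import Cfsg.Prelude.Def_SporadicB
import Cfsg.Prelude.Def_Classical

set_option autoImplicit false
set_option linter.unusedSectionVars false
open Cfsg

/-!
Orthogonal transvections (reflections): the isometries `g` with `rank (g - 1) = 1` are exactly the
reflections in nonsingular vectors; the isometry group is generated by reflections (dimension at
least five); over the field with two elements they form a class of 3-transpositions.
-/

namespace Cfsg.Agent.Lib.Helper5.OrthTv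

open Matrix Cfsg.Agent.H9.Orth

section General

variable {ι : Type} [Fintype ι] [DecidableEq ι] {F : Type*} [Field F] {Q : (ι → F) → F}
variable (hQ : Cfsg.Geo.IsNondegenerateQuadraticForm Q)

omit [Fintype ι] [DecidableEq ι] in
lemma sub_one_mulVec' [Fintype ι] [DecidableEq ι] (g : GL ι F) (y : ι → F) :
    ((g : Matrix ι ι F) - 1) *ᵥ y = act g y - y := by
  rw [Matrix.sub_mulVec, Matrix.one_mulVec]

include hQ

lemma rank_rf (x : ι → F) (hx : Q x ≠ 0) :
    (((rf hQ x : GL ι F) : Matrix ι ι F) - 1).rank = 1 := by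
  have hx0 := ne_zero_of_Q_ne hQ x hx
  have hrange : LinearMap.range (((rf hQ x : GL ι F) : Matrix ι ι F) - 1).mulVecLin
      = Submodule.span F {x} := by
    apply le_antisymm
    · rintro _ ⟨y, rfl⟩
      rw [Matrix.mulVecLin_apply, sub_one_mulVec', act_rf hQ x hx, Submodule.mem_span_singleton]
      exact ⟨-((Q x)⁻¹ * pol Q y x), by module⟩
    · rw [Submodule.span_singleton_le_iff_mem]
      obtain ⟨⟨y, hy⟩, -⟩ := hQ.nondegenerate x hx0
      refine ⟨(-(Q x) * (pol Q y x)⁻¹) • y, ?_⟩
      rw [Matrix.mulVecLin_apply, sub_one_mulVec', act_rf hQ x hx, pol_smul_left hQ]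
      have hy' : pol Q y x ≠ 0 := hy
      have : (Q x)⁻¹ * (-(Q x) * (pol Q y x)⁻¹ * pol Q y x) = -1 := by
        field_simp
      rw [this]
      module
  rw [Matrix.rank, hrange, finrank_span_singleton hx0]

lemma eq_rf_of_rank (g : GL ι F) (hg : g ∈ Cfsg.isometryGroup F Q)
    (h : ((g : Matrix ι ι F) - 1).rank = 1) : ∃ x, Q x ≠ 0 ∧ g = rf hQ x := by
  rw [Matrix.rank, finrank_eq_one_iff'] at h
  obtain ⟨⟨x, ⟨y0, hy0⟩⟩, hx0, hall⟩ := h
  have hx0' : x ≠ 0 := fun h0 => hx0 (Subtype.ext h0)
  have hall' : ∀ y, ∃ c : F, act g y - y = c • x := by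
    intro y
    obtain ⟨c, hc⟩ := hall ⟨_, ⟨y, rfl⟩⟩
    refine ⟨c, ?_⟩
    have h1 := congrArg Subtype.val hc
    rw [← sub_one_mulVec']
    exact h1.symm
  have hy0' : act g y0 - y0 = x := by rw [← sub_one_mulVec']; exact hy0
  have key : ∀ y c, act g y - y = c • x → c * (c * Q x + pol Q y x) = 0 := by
    intro y c hyc
    have hgy : act g y = y + c • x := by rw [← hyc]; abel
    have h1 := Q_act g hg y
    rw [hgy, Q_add_smul hQ] at h1
    linear_combination h1
  have key1 : Q x + pol Q y0 x = 0 := by
    have := key y0 1 (by rw [hy0', one_smul])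
    linear_combination this
  have key2 : ∀ y c, act g y - y = c • x → c * Q x = - pol Q y x := by
    intro y c hyc
    by_cases hc : c = 0
    · subst hc
      have h0 : act g y - y = 0 := by rw [hyc, zero_smul]
      have h2 : act g (y + y0) - (y + y0) = (1 : F) • x := by
        rw [act_add, one_smul, ← hy0']
        have : act g y + act g y0 - (y + y0) = (act g y - y) + (act g y0 - y0) := by abel
        rw [this, h0, zero_add]
      have h3 := key (y + y0) 1 h2
      rw [pol_add_left hQ] at h3
      linear_combination h3 - key1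
    · have := key y c hyc
      have h4 : c * Q x + pol Q y x = 0 := (mul_eq_zero.1 this).resolve_left hc
      linear_combination h4
  have hqx : Q x ≠ 0 := by
    intro hq
    obtain ⟨⟨y, hy⟩, -⟩ := hQ.nondegenerate x hx0'
    obtain ⟨c, hc⟩ := hall' y
    have := key2 y c hc
    rw [hq, mul_zero] at this
    apply hy
    show pol Q y x = 0
    linear_combination this
  refine ⟨x, hqx, ?_⟩
  apply gl_ext
  intro y
  obtain ⟨c, hc⟩ := hall' y
  have h5 := key2 y c hc
  rw [act_rf hQ x hqx]
  have hc' : c = -((Q x)⁻¹ * pol Q y x) := by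
    field_simp
    linear_combination h5
  have : act g y = y + c • x := by rw [← hc]; abel
  rw [this, hc']
  module

/-- a Siegel transformation with nonsingular second vector is a product of two reflections -/
lemma sg_eq_rf_mul_rf (u a : ι → F) (hu : Q u = 0) (hua : pol Q u a = 0) (ha : Q a ≠ 0) :
    sg hQ u a = rf hQ a * rf hQ (a - Q a • u) := by
  have hb : Q (a - Q a • u) = Q a := by
    rw [Q_sub hQ, hQ.smul, hu, pol_smul_right hQ, pol_comm, hua]; ring
  have hb' : Q (a - Q a • u) ≠ 0 := by rw [hb]; exact ha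
  apply gl_ext
  intro x
  rw [act_mul, act_sg hQ u a hu hua, act_rf hQ _ hb', act_rf hQ a ha, hb]
  simp only [pol_sub_left hQ, pol_sub_right hQ, pol_smul_left hQ, pol_smul_right hQ, pol_self hQ]
  rw [hua]
  match_scalars <;> field_simp <;> ring

/-- a nonsingular vector perpendicular to a totally singular pair -/
lemma exists_nonsing_perp2 (hn : 5 ≤ Fintype.card ι) (u w : ι → F) :
    ∃ a, pol Q u a = 0 ∧ pol Q w a = 0 ∧ Q a ≠ 0 := by
  by_contra hcon
  push Not at hcon
  set P := perp hQ (Submodule.span F {u, w}) with hP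
  have hPQ : ∀ a ∈ P, Q a = 0 := by
    intro a ha
    rw [hP, mem_perp_span_pair] at ha
    exact hcon a ha.1 ha.2
  have hle : P ≤ perp hQ P := by
    intro a ha
    rw [mem_perp]
    intro b hb
    have h1 := Q_add Q b a
    rw [hPQ _ (P.add_mem hb ha), hPQ a ha, hPQ b hb] at h1
    linear_combination -h1
  have h1 := Submodule.finrank_mono hle
  have h2 := finrank_perp hQ P
  have h3 := finrank_perp hQ (Submodule.span F {u, w})
  have h4 : Module.finrank F (Submodule.span F {u, w}) ≤ 2 := by
    classical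
    have h5 := finrank_span_le_card (R := F) ({u, w} : Set (ι → F))
    have h6 : ({u, w} : Set (ι → F)).toFinset.card ≤ 2 := by
      rw [Set.toFinset_insert, Set.toFinset_singleton]
      exact Finset.card_le_two
    omega
  rw [← hP] at h3
  omega

/-- long root elements are products of reflections -/
lemma NN_le_RR (hn : 5 ≤ Fintype.card ι) : NN hQ ≤ RR hQ := by
  rw [NN, Subgroup.closure_le]
  rintro g ⟨u, w, hu, hw, huw, rfl⟩
  obtain ⟨a, hua, hwa, ha⟩ := exists_nonsing_perp2 hQ hn u w
  have hwa' : Q (w - a) ≠ 0 := by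
    rw [Q_sub hQ, hw, hwa]
    simpa using ha
  have huwa : pol Q u (w - a) = 0 := by rw [pol_sub_right hQ, huw, hua, sub_zero]
  have h1 : sg hQ u w = sg hQ u a * sg hQ u (w - a) := by
    rw [sg_mul hQ u a (w - a) hua huwa]
    congr 1
    abel
  rw [h1, sg_eq_rf_mul_rf hQ u a hu hua ha, sg_eq_rf_mul_rf hQ u (w - a) hu huwa hwa']
  exact (RR hQ).mul_mem ((RR hQ).mul_mem (rf_mem_RR hQ _) (rf_mem_RR hQ _))
    ((RR hQ).mul_mem (rf_mem_RR hQ _) (rf_mem_RR hQ _))

/-- the isometry group is generated by reflections -/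
theorem iso_le_RR [Fintype F] (hn : 5 ≤ Fintype.card ι) : Cfsg.isometryGroup F Q ≤ RR hQ := by
  refine (iso_le_GG hQ hn).trans ?_
  rw [GG]
  exact sup_le (NN_le_RR hQ hn) le_rfl

end General

end Cfsg.Agent.Lib.Helper5.OrthTv
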