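import Mathlib
import Cfsg.Agent.Lib.Helper5.Orth.Transv

set_option autoImplicit false
set_option linter.unusedSectionVars false
open Cfsg

/-!
The parity of `rank (g - 1)` (Dickson's invariant in characteristic two, the determinant in odd
characteristic) is a homomorphism on the isometry group of a nondegenerate quadratic form:
multiplying by a reflection changes `rank (g - 1)` by exactly one.
-/

namespace Cfsg.Agent.Lib.Helper5.OrthPar

open Matrix Cfsg.Agent.H9.Orth Cfsg.Agent.Lib.Helper5.OrthTv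
open scoped commutatorElement

section General

variable {ι : Type} [Fintype ι] [DecidableEq ι] {F : Type*} [Field F] {Q : (ι → F) → F}

/-- the image of `g - 1` -/
def imS (g : GL ι F) : Submodule F (ι → F) :=
  LinearMap.range ((g : Matrix ι ι F) - 1).mulVecLin

lemma mem_imS (g : GL ι F) (v : ι → F) : v ∈ imS g ↔ ∃ u, act g u - u = v := by
  unfold imS
  constructor
  · rintro ⟨u, hu⟩
    refine ⟨u, ?_⟩
    rw [← sub_one_mulVec']
    exact hu
  · rintro ⟨u, hu⟩
    refine ⟨u, ?_⟩
    rw [Matrix.mulVecLin_apply, sub_one_mulVec']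
    exact hu

lemma rank_eq (g : GL ι F) : ((g : Matrix ι ι F) - 1).rank = Module.finrank F (imS g) := rfl

lemma rank_le (g : GL ι F) : ((g : Matrix ι ι F) - 1).rank ≤ Fintype.card ι :=
  Matrix.rank_le_card_width _

/-- the parity predicate -/
def par (g : GL ι F) : Prop := Even ((g : Matrix ι ι F) - 1).rank

lemma par_one : par (1 : GL ι F) := by
  unfold par
  have : ((1 : GL ι F) : Matrix ι ι F) - 1 = 0 := by simp
  rw [this, Matrix.rank_zero]
  exact Even.zero

variable (hQ : Cfsg.Geo.IsNondegenerateQuadraticForm Q)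
include hQ

lemma fixS_eq_perp (g : GL ι F) (hg : g ∈ Cfsg.isometryGroup F Q) :
    fixS g = perp hQ (imS g) := by
  have key : ∀ u v, pol Q (act g u - u) v = - pol Q (act g u) (act g v - v) := by
    intro u v
    rw [pol_sub_left hQ, pol_sub_right hQ, pol_act g hg]
    ring
  ext v
  rw [mem_fixS, mem_perp]
  constructor
  · intro hv w hw
    obtain ⟨u, rfl⟩ := (mem_imS g w).1 hw
    rw [key, hv, sub_self, pol_zero_right hQ, neg_zero]
  · intro hv
    have h1 : ∀ y, pol Q y (act g v - v) = 0 := by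
      intro y
      have h2 := key (act g⁻¹ y) v
      have hm : y - act g⁻¹ y ∈ imS g := (mem_imS g _).2 ⟨act g⁻¹ y, by rw [act_act_inv]⟩
      rw [act_act_inv, hv _ hm] at h2
      linear_combination h2
    by_contra hne
    have hne' : act g v - v ≠ 0 := fun h => hne (sub_eq_zero.1 h)
    obtain ⟨⟨y, hy⟩, -⟩ := hQ.nondegenerate _ hne'
    exact hy (h1 y)

lemma finrank_fixS (g : GL ι F) (hg : g ∈ Cfsg.isometryGroup F Q) :
    Module.finrank F (fixS g) = Fintype.card ι - ((g : Matrix ι ι F) - 1).rank := by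
  rw [fixS_eq_perp hQ g hg, finrank_perp, rank_eq]

/-- Wall's identity -/
lemma wall (g : GL ι F) (hg : g ∈ Cfsg.isometryGroup F Q) (u : ι → F) :
    Q (act g u - u) = - pol Q (act g u - u) u := by
  rw [Q_sub hQ, Q_act g hg, pol_sub_left hQ, pol_self hQ]
  ring

lemma mem_perp_sup (A B : Submodule F (ι → F)) (v : ι → F) :
    v ∈ perp hQ (A ⊔ B) ↔ v ∈ perp hQ A ∧ v ∈ perp hQ B := by
  constructor
  · intro h
    exact ⟨perp_anti hQ le_sup_left h, perp_anti hQ le_sup_right h⟩
  · rintro ⟨h1, h2⟩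
    rw [mem_perp] at h1 h2 ⊢
    intro w hw
    obtain ⟨a, ha, b, hb, rfl⟩ := Submodule.mem_sup.1 hw
    rw [pol_add_left hQ, h1 a ha, h2 b hb, add_zero]

lemma fixS_rf_mul (g : GL ι F) (hg : g ∈ Cfsg.isometryGroup F Q) (x : ι → F) (hx : Q x ≠ 0)
    (hxi : x ∉ imS g) :
    fixS (rf hQ x * g) = perp hQ (imS g ⊔ Submodule.span F {x}) := by
  ext v
  rw [mem_perp_sup, ← fixS_eq_perp hQ g hg, mem_perp_span_singleton, mem_fixS, mem_fixS, act_mul]
  constructor
  · intro hv
    have h1 : act g v = act (rf hQ x) v := by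
      have := congrArg (act (rf hQ x)) hv
      rw [← act_mul, rf_mul_self, act_one] at this
      exact this
    rw [act_rf hQ x hx] at h1
    have hc : (Q x)⁻¹ * pol Q v x = 0 := by
      by_contra hc
      apply hxi
      rw [mem_imS]
      refine ⟨(-((Q x)⁻¹ * pol Q v x))⁻¹ • v, ?_⟩
      rw [act_smul, h1, ← smul_sub]
      have : v - ((Q x)⁻¹ * pol Q v x) • x - v = (-((Q x)⁻¹ * pol Q v x)) • x := by module
      rw [this, smul_smul, inv_mul_cancel₀ (neg_ne_zero.2 hc), one_smul]
    have hpol : pol Q v x = 0 := by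
      rcases mul_eq_zero.1 hc with h | h
      · exact absurd (inv_eq_zero.1 h) hx
      · exact h
    refine ⟨?_, by rw [pol_comm]; exact hpol⟩
    rw [h1, hpol]
    module
  · rintro ⟨hv, hpol⟩
    rw [hv]
    exact act_rf_perp hQ x v (by rw [pol_comm]; exact hpol)

lemma rank_rf_mul_of_notMem (g : GL ι F) (hg : g ∈ Cfsg.isometryGroup F Q) (x : ι → F)
    (hx : Q x ≠ 0) (hxi : x ∉ imS g) :
    (((rf hQ x * g : GL ι F) : Matrix ι ι F) - 1).rank = ((g : Matrix ι ι F) - 1).rank + 1 := by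
  have hrg : rf hQ x * g ∈ Cfsg.isometryGroup F Q := mul_mem (rf_mem hQ x) hg
  have h1 := finrank_fixS hQ (rf hQ x * g) hrg
  rw [fixS_rf_mul hQ g hg x hx hxi, finrank_perp] at h1
  have hx0 := ne_zero_of_Q_ne hQ x hx
  have hinf : imS g ⊓ Submodule.span F {x} = ⊥ := by
    rw [eq_bot_iff]
    intro v hv
    obtain ⟨hv1, hv2⟩ := Submodule.mem_inf.1 hv
    obtain ⟨c, rfl⟩ := Submodule.mem_span_singleton.1 hv2
    by_cases hc : c = 0
    · rw [hc, zero_smul]; exact Submodule.zero_mem _
    · exfalso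
      apply hxi
      have := (imS g).smul_mem c⁻¹ hv1
      rwa [smul_smul, inv_mul_cancel₀ hc, one_smul] at this
  have h2 := Submodule.finrank_sup_add_finrank_inf_eq (imS g) (Submodule.span F {x})
  rw [hinf, finrank_bot, finrank_span_singleton hx0, add_zero] at h2
  have h3 := rank_le (rf hQ x * g)
  have h4 : Module.finrank F ↥(imS g ⊔ Submodule.span F {x}) ≤ Fintype.card ι := by
    have := (imS g ⊔ Submodule.span F {x}).finrank_le
    rwa [Module.finrank_fintype_fun_eq_card] at this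
  rw [← rank_eq] at h2
  omega

lemma notMem_imS_rf_mul (g : GL ι F) (hg : g ∈ Cfsg.isometryGroup F Q) (x : ι → F)
    (hx : Q x ≠ 0) (hxi : x ∈ imS g) : x ∉ imS (rf hQ x * g) := by
  intro hcon
  obtain ⟨u', hu'⟩ := (mem_imS _ _).1 hcon
  rw [act_mul] at hu'
  -- g u' = r (u' + x)
  have h1 : act g u' = act (rf hQ x) (u' + x) := by
    have : act (rf hQ x) (act g u') = u' + x := by
      rw [sub_eq_iff_eq_add] at hu'
      rw [hu', add_comm]
    have h2 := congrArg (act (rf hQ x)) this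
    rw [← act_mul, rf_mul_self, act_one] at h2
    exact h2
  rw [act_rf hQ x hx, pol_add_left hQ, pol_self hQ] at h1
  set lam : F := -(1 + (Q x)⁻¹ * pol Q u' x) with hlam
  have h3 : act g u' - u' = lam • x := by
    rw [h1, hlam]
    have : (Q x)⁻¹ * (pol Q u' x + 2 * Q x) = (Q x)⁻¹ * pol Q u' x + 2 := by
      field_simp
    rw [this]
    module
  have hw := wall hQ g hg u'
  rw [h3, hQ.smul, pol_smul_left hQ] at hw
  by_cases hl : lam = 0
  · -- u' fixed by g, so perpendicular to x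
    have hfix : u' ∈ fixS g := by
      rw [mem_fixS]
      have : act g u' - u' = 0 := by rw [h3, hl, zero_smul]
      exact sub_eq_zero.1 this
    rw [fixS_eq_perp hQ g hg, mem_perp] at hfix
    have h4 := hfix x hxi
    rw [pol_comm] at h4
    rw [h4, mul_zero, add_zero] at hlam
    rw [hl] at hlam
    exact one_ne_zero (neg_eq_zero.1 hlam.symm)
  · have h5 : lam * Q x = - pol Q x u' := by
      have : lam * (lam * Q x + pol Q x u') = 0 := by linear_combination hw
      have := (mul_eq_zero.1 this).resolve_left hl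
      linear_combination this
    have h6 : pol Q u' x = - (lam * Q x) := by rw [pol_comm, h5]; ring
    have h7 : lam = -(1 + (Q x)⁻¹ * -(lam * Q x)) := by rw [← h6]
    have h8 : (Q x)⁻¹ * -(lam * Q x) = -lam := by field_simp
    rw [h8] at h7
    have : (1 : F) = 0 := by linear_combination h7
    exact one_ne_zero this

lemma rank_rf_mul_of_mem (g : GL ι F) (hg : g ∈ Cfsg.isometryGroup F Q) (x : ι → F)
    (hx : Q x ≠ 0) (hxi : x ∈ imS g) :
    (((rf hQ x * g : GL ι F) : Matrix ι ι F) - 1).rank + 1 = ((g : Matrix ι ι F) - 1).rank := by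
  have hrg : rf hQ x * g ∈ Cfsg.isometryGroup F Q := mul_mem (rf_mem hQ x) hg
  have h1 := rank_rf_mul_of_notMem hQ (rf hQ x * g) hrg x hx (notMem_imS_rf_mul hQ g hg x hx hxi)
  rw [← mul_assoc, rf_mul_self, one_mul] at h1
  exact h1.symm

lemma par_rf_mul (g : GL ι F) (hg : g ∈ Cfsg.isometryGroup F Q) (x : ι → F) (hx : Q x ≠ 0) :
    par (rf hQ x * g) ↔ ¬ par g := by
  unfold par
  by_cases hxi : x ∈ imS g
  · have := rank_rf_mul_of_mem hQ g hg x hx hxi
    rw [← this, Nat.even_add_one]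
    tauto
  · have := rank_rf_mul_of_notMem hQ g hg x hx hxi
    rw [this, Nat.even_add_one]

lemma not_par_rf (x : ι → F) (hx : Q x ≠ 0) : ¬ par (rf hQ x) := by
  unfold par
  rw [rank_rf hQ x hx]
  decide

/-- the parity of `rank (g - 1)` is multiplicative -/
theorem par_mul [Fintype F] (hn : 5 ≤ Fintype.card ι) (g h : GL ι F)
    (hg : g ∈ Cfsg.isometryGroup F Q) (hh : h ∈ Cfsg.isometryGroup F Q) :
    par (g * h) ↔ (par g ↔ par h) := by
  have hgR : g ∈ RR hQ := iso_le_RR hQ hn hg
  have key : ∀ g (_ : g ∈ RR hQ), g ∈ Cfsg.isometryGroup F Q ∧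
      ∀ h ∈ Cfsg.isometryGroup F Q, (par (g * h) ↔ (par g ↔ par h)) := by
    intro g hgR
    have hone : (1 : GL ι F) ∈ Cfsg.isometryGroup F Q ∧
        ∀ h ∈ Cfsg.isometryGroup F Q, (par (1 * h) ↔ (par (1 : GL ι F) ↔ par h)) := by
      refine ⟨one_mem _, fun h _ => ?_⟩
      rw [one_mul]
      have := par_one (ι := ι) (F := F)
      tauto
    unfold RR at hgR
    induction hgR using Subgroup.closure_induction with
    | mem g hgm =>
      obtain ⟨x, rfl⟩ := hgm
      by_cases hx : Q x ≠ 0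
      · refine ⟨rf_mem hQ x, fun h hh => ?_⟩
        rw [par_rf_mul hQ h hh x hx]
        have := not_par_rf hQ x hx
        tauto
      · rw [rf_of_not hQ x hx]
        exact hone
    | one => exact hone
    | mul a b _ _ iha ihb =>
      obtain ⟨haO, ha⟩ := iha
      obtain ⟨hbO, hb⟩ := ihb
      refine ⟨mul_mem haO hbO, fun h hh => ?_⟩
      rw [mul_assoc, ha (b * h) (mul_mem hbO hh), hb h hh, ha b hbO]
      tauto
    | inv a _ iha =>
      obtain ⟨haO, ha⟩ := iha
      have hainv : par a⁻¹ ↔ par a := by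
        have h1 := ha a⁻¹ (inv_mem haO)
        rw [mul_inv_cancel] at h1
        have := par_one (ι := ι) (F := F)
        tauto
      refine ⟨inv_mem haO, fun h hh => ?_⟩
      have h1 := ha (a⁻¹ * h) (mul_mem (inv_mem haO) hh)
      rw [mul_inv_cancel_left] at h1
      rw [hainv]
      tauto
  exact (key g hgR).2 h hh

lemma par_inv [Fintype F] (hn : 5 ≤ Fintype.card ι) (g : GL ι F)
    (hg : g ∈ Cfsg.isometryGroup F Q) : par g⁻¹ ↔ par g := by
  have h1 := par_mul hQ hn g g⁻¹ hg (inv_mem hg)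
  rw [mul_inv_cancel] at h1
  have := par_one (ι := ι) (F := F)
  tauto

/-- the isometries with `rank (g - 1)` even form a subgroup -/
def evenS [Fintype F] (hn : 5 ≤ Fintype.card ι) : Subgroup (GL ι F) where
  carrier := {g | g ∈ Cfsg.isometryGroup F Q ∧ par g}
  mul_mem' {a b} ha hb := by
    refine ⟨mul_mem ha.1 hb.1, ?_⟩
    rw [par_mul hQ hn a b ha.1 hb.1]
    have := ha.2
    have := hb.2
    tauto
  one_mem' := ⟨one_mem _, par_one⟩
  inv_mem' {a} ha := ⟨inv_mem ha.1, (par_inv hQ hn a ha.1).2 ha.2⟩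

lemma mem_evenS [Fintype F] (hn : 5 ≤ Fintype.card ι) (g : GL ι F) :
    g ∈ evenS hQ hn ↔ g ∈ Cfsg.isometryGroup F Q ∧ par g := Iff.rfl

/-- elements of `Ω` have even `rank (g - 1)` -/
theorem omega_par [Fintype F] (hn : 5 ≤ Fintype.card ι)
    (g : ↥(Cfsg.isometryGroup F Q)) (hg : g ∈ Cfsg.Omega F Q) : par (g : GL ι F) := by
  have h1 : Cfsg.Omega F Q ≤ (evenS hQ hn).comap (Cfsg.isometryGroup F Q).subtype := by
    unfold Cfsg.Omega
    rw [commutator_def, Subgroup.commutator_le]
    intro a _ b _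
    rw [Subgroup.mem_comap, mem_evenS]
    refine ⟨(⁅a, b⁆).2, ?_⟩
    have hc : ((Cfsg.isometryGroup F Q).subtype ⁅a, b⁆ : GL ι F) =
        (a : GL ι F) * (b : GL ι F) * ((a : GL ι F)⁻¹ * (b : GL ι F)⁻¹) := by
      rw [commutatorElement_def]
      simp [mul_assoc]
    rw [hc, par_mul hQ hn _ _ (mul_mem a.2 b.2) (mul_mem (inv_mem a.2) (inv_mem b.2)),
      par_mul hQ hn _ _ a.2 b.2, par_mul hQ hn _ _ (inv_mem a.2) (inv_mem b.2),
      par_inv hQ hn _ a.2, par_inv hQ hn _ b.2]
  exact (h1 hg).2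

end General

end Cfsg.Agent.Lib.Helper5.OrthPar
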