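import Mathlib
import Cfsg.Agent.Lib.Helper5.Orth.Parity

set_option autoImplicit false
set_option linter.unusedSectionVars false
open Cfsg

/-!
In characteristic two (finite field, dimension at least five) the commutator subgroup `Ω` of the
isometry group consists exactly of the isometries `g` with `rank (g - 1)` even.
-/

namespace Cfsg.Agent.Lib.Helper5.OrthPar

open Matrix Cfsg.Agent.H9.Orth Cfsg.Agent.Lib.Helper5.OrthTv
open scoped commutatorElement

section General

variable {ι : Type} [Fintype ι] [DecidableEq ι] {F : Type*} [Field F] {Q : (ι → F) → F}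
variable (hQ : Cfsg.Geo.IsNondegenerateQuadraticForm Q)
include hQ

lemma rf_smul (c : F) (hc : c ≠ 0) (x : ι → F) : rf hQ (c • x) = rf hQ x := by
  by_cases hx : Q x ≠ 0
  · have hcx : Q (c • x) ≠ 0 := by
      rw [hQ.smul]
      exact mul_ne_zero (pow_ne_zero 2 hc) hx
    apply gl_ext
    intro y
    rw [act_rf hQ _ hcx, act_rf hQ x hx, hQ.smul, pol_smul_right hQ, smul_smul]
    congr 2
    field_simp
  · have hcx : ¬ Q (c • x) ≠ 0 := by
      rw [hQ.smul]
      push Not at hx ⊢
      rw [hx, mul_zero]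
    rw [rf_of_not hQ x hx, rf_of_not hQ _ hcx]

/-- the reflections generate the isometry group (as a group in its own right) -/
theorem closure_rf_eq_top [Fintype F] (hn : 5 ≤ Fintype.card ι) :
    Subgroup.closure {g : ↥(Cfsg.isometryGroup F Q) | ∃ x, Q x ≠ 0 ∧ (g : GL ι F) = rf hQ x} = ⊤ := by
  rw [eq_top_iff]
  intro g _
  have hRR : RR hQ ≤ (Subgroup.closure {g : ↥(Cfsg.isometryGroup F Q) |
      ∃ x, Q x ≠ 0 ∧ (g : GL ι F) = rf hQ x}).map (Cfsg.isometryGroup F Q).subtype := by
    rw [RR, Subgroup.closure_le]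
    rintro h ⟨x, rfl⟩
    by_cases hx : Q x ≠ 0
    · exact ⟨⟨rf hQ x, rf_mem hQ x⟩, Subgroup.subset_closure ⟨x, hx, rfl⟩, rfl⟩
    · rw [rf_of_not hQ x hx]
      exact Subgroup.one_mem _
  obtain ⟨g', hg', hgg'⟩ := hRR (iso_le_RR hQ hn g.2)
  have : g' = g := Subtype.ext hgg'
  rw [← this]
  exact hg'

/-- in characteristic two all reflections are conjugate -/
lemma rf_conj_two [Fintype F] [CharP F 2] (hn : 5 ≤ Fintype.card ι) (x y : ι → F)
    (hx : Q x ≠ 0) (hy : Q y ≠ 0) :
    ∃ h ∈ Cfsg.isometryGroup F Q, h * rf hQ x * h⁻¹ = rf hQ y := by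
  have hF : ringChar F = 2 := ringChar.eq F 2
  obtain ⟨a, ha⟩ := FiniteField.isSquare_of_char_two hF (Q x)⁻¹
  obtain ⟨b, hb⟩ := FiniteField.isSquare_of_char_two hF (Q y)⁻¹
  have ha0 : a ≠ 0 := by
    rintro rfl
    rw [mul_zero] at ha
    exact hx (inv_eq_zero.1 ha)
  have hb0 : b ≠ 0 := by
    rintro rfl
    rw [mul_zero] at hb
    exact hy (inv_eq_zero.1 hb)
  have hqa : Q (a • x) = 1 := by
    rw [hQ.smul, pow_two, ← ha, inv_mul_cancel₀ hx]
  have hqb : Q (b • y) = 1 := by
    rw [hQ.smul, pow_two, ← hb, inv_mul_cancel₀ hy]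
  obtain ⟨n, hn', hnx⟩ := NN_trans_norm hQ hn (a • x) (b • y) (by rw [hqa]; exact one_ne_zero)
    (by rw [hqa, hqb])
  refine ⟨n, NN_le_iso hQ hn', ?_⟩
  rw [← rf_smul hQ a ha0 x, conj_rf hQ n (NN_le_iso hQ hn'), hnx, rf_smul hQ b hb0 y]

/-- in characteristic two, `Ω` is exactly the set of isometries with `rank (g - 1)` even -/
theorem mem_omega_iff_even [Fintype F] [CharP F 2] (hn : 5 ≤ Fintype.card ι)
    (t : ↥(Cfsg.isometryGroup F Q)) :
    t ∈ Cfsg.Omega F Q ↔ Even (((t : GL ι F) : Matrix ι ι F) - 1).rank := by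
  constructor
  · exact omega_par hQ hn t
  · intro ht
    obtain ⟨x0, -, hx0⟩ := exists_perp_norm hQ hn 0 1
    have hx0' : Q x0 ≠ 0 := by rw [hx0]; exact one_ne_zero
    set r0 : ↥(Cfsg.isometryGroup F Q) := ⟨rf hQ x0, rf_mem hQ x0⟩ with hr0
    have hr0sq : r0 * r0 = 1 := Subtype.ext (rf_mul_self hQ x0)
    set π := Abelianization.of (G := ↥(Cfsg.isometryGroup F Q)) with hπ
    have hker : ∀ g : ↥(Cfsg.isometryGroup F Q), π g = 1 ↔ g ∈ Cfsg.Omega F Q := by
      intro g
      rw [← MonoidHom.mem_ker, hπ, Abelianization.ker_of]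
    have hρ : π r0 * π r0 = 1 := by rw [← map_mul, hr0sq, map_one]
    have key : ∀ g : ↥(Cfsg.isometryGroup F Q), π g = 1 ∨ π g = π r0 := by
      intro g
      have hg : g ∈ Subgroup.closure {g : ↥(Cfsg.isometryGroup F Q) |
          ∃ x, Q x ≠ 0 ∧ (g : GL ι F) = rf hQ x} := by
        rw [closure_rf_eq_top hQ hn]; exact Subgroup.mem_top g
      induction hg using Subgroup.closure_induction with
      | mem g hgm =>
        right
        obtain ⟨x, hx, hgx⟩ := hgm
        obtain ⟨h, hh, hconj⟩ := rf_conj_two hQ hn x0 x hx0' hx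
        have : g = ⟨h, hh⟩ * r0 * ⟨h, hh⟩⁻¹ := by
          apply Subtype.ext
          rw [hgx, ← hconj]
          rfl
        rw [this, map_mul, map_mul, map_inv, mul_comm, ← mul_assoc, inv_mul_cancel, one_mul]
      | one => left; exact map_one _
      | mul a b _ _ iha ihb =>
        rw [map_mul]
        rcases iha with ha | ha <;> rcases ihb with hb | hb <;> rw [ha, hb]
        · left; rw [one_mul]
        · right; rw [one_mul]
        · right; rw [mul_one]
        · left; exact hρ
      | inv a _ iha =>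
        rw [map_inv]
        rcases iha with ha | ha <;> rw [ha]
        · left; rw [inv_one]
        · right; exact inv_eq_of_mul_eq_one_left hρ
    rcases key t with h1 | h1
    · exact (hker t).1 h1
    · exfalso
      have h2 : π (r0 * t) = 1 := by rw [map_mul, h1, hρ]
      have h3 := omega_par hQ hn (r0 * t) ((hker _).1 h2)
      have h4 : ((r0 * t : ↥(Cfsg.isometryGroup F Q)) : GL ι F) = rf hQ x0 * (t : GL ι F) := rfl
      rw [h4, par_rf_mul hQ _ t.2 x0 hx0'] at h3
      exact h3 ht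

end General

end Cfsg.Agent.Lib.Helper5.OrthPar
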