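import Mathlib
import Cfsg.Agent.Lib.Helper5.Orth.ParityTwo
import Cfsg.Agent.H9.OrthP

set_option autoImplicit false
set_option linter.unusedSectionVars false
open Cfsg

/-!
The parity of `rank (g - 1)` is a homomorphism on the isometry group whenever the reflections
generate it (all dimensions, via helper9's `iso_le_RR`).
-/

namespace Cfsg.Agent.Lib.Helper5.OrthPar

open Matrix Cfsg.Agent.H9.Orth Cfsg.Agent.Lib.Helper5.OrthTv
open scoped commutatorElement

section General

variable {ι : Type} [Fintype ι] [DecidableEq ι] {F : Type*} [Field F] {Q : (ι → F) → F}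
variable (hQ : Cfsg.Geo.IsNondegenerateQuadraticForm Q)
include hQ

/-- the parity of `rank (g - 1)` is multiplicative, given generation by reflections -/
theorem par_mul_gen (hgen : Cfsg.isometryGroup F Q ≤ RR hQ) (g h : GL ι F)
    (hg : g ∈ Cfsg.isometryGroup F Q) (hh : h ∈ Cfsg.isometryGroup F Q) :
    par (g * h) ↔ (par g ↔ par h) := by
  have hgR : g ∈ RR hQ := hgen hg
  have key : ∀ g (_ : g ∈ RR hQ), g ∈ Cfsg.isometryGroup F Q ∧
      ∀ h ∈ Cfsg.isometryGroup F Q, (par (g * h) ↔ (par g ↔ par h)) := by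
    intro g hgR
    have hone : (1 : GL ι F) ∈ Cfsg.isometryGroup F Q ∧
        ∀ h ∈ Cfsg.isometryGroup F Q, (par (1 * h) ↔ (par (1 : GL ι F) ↔ par h)) := by
      refine ⟨one_mem _, fun h _ => ?_⟩
      rw [one_mul]
      have := par_one (ι := ι) (F := F)
      tauto
    unfold RR at hgR
    induction hgR using Subgroup.closure_induction with
    | mem g hgm =>
      obtain ⟨x, rfl⟩ := hgm
      by_cases hx : Q x ≠ 0
      · refine ⟨rf_mem hQ x, fun h hh => ?_⟩
        rw [par_rf_mul hQ h hh x hx]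
        have := not_par_rf hQ x hx
        tauto
      · rw [rf_of_not hQ x hx]
        exact hone
    | one => exact hone
    | mul a b _ _ iha ihb =>
      obtain ⟨haO, ha⟩ := iha
      obtain ⟨hbO, hb⟩ := ihb
      refine ⟨mul_mem haO hbO, fun h hh => ?_⟩
      rw [mul_assoc, ha (b * h) (mul_mem hbO hh), hb h hh, ha b hbO]
      tauto
    | inv a _ iha =>
      obtain ⟨haO, ha⟩ := iha
      have hainv : par a⁻¹ ↔ par a := by
        have h1 := ha a⁻¹ (inv_mem haO)
        rw [mul_inv_cancel] at h1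
        have := par_one (ι := ι) (F := F)
        tauto
      refine ⟨inv_mem haO, fun h hh => ?_⟩
      have h1 := ha (a⁻¹ * h) (mul_mem (inv_mem haO) hh)
      rw [mul_inv_cancel_left] at h1
      rw [hainv]
      tauto
  exact (key g hgR).2 h hh

lemma par_inv_gen (hgen : Cfsg.isometryGroup F Q ≤ RR hQ) (g : GL ι F)
    (hg : g ∈ Cfsg.isometryGroup F Q) : par g⁻¹ ↔ par g := by
  have h1 := par_mul_gen hQ hgen g g⁻¹ hg (inv_mem hg)
  rw [mul_inv_cancel] at h1
  have := par_one (ι := ι) (F := F)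
  tauto

/-- the isometries with `rank (g - 1)` even form a subgroup -/
def evenG (hgen : Cfsg.isometryGroup F Q ≤ RR hQ) : Subgroup (GL ι F) where
  carrier := {g | g ∈ Cfsg.isometryGroup F Q ∧ par g}
  mul_mem' {a b} ha hb := by
    refine ⟨mul_mem ha.1 hb.1, ?_⟩
    rw [par_mul_gen hQ hgen a b ha.1 hb.1]
    have := ha.2
    have := hb.2
    tauto
  one_mem' := ⟨one_mem _, par_one⟩
  inv_mem' {a} ha := ⟨inv_mem ha.1, (par_inv_gen hQ hgen a ha.1).2 ha.2⟩

lemma mem_evenG (hgen : Cfsg.isometryGroup F Q ≤ RR hQ) (g : GL ι F) :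
    g ∈ evenG hQ hgen ↔ g ∈ Cfsg.isometryGroup F Q ∧ par g := Iff.rfl

/-- elements of `Ω` have even `rank (g - 1)` -/
theorem omega_par_gen (hgen : Cfsg.isometryGroup F Q ≤ RR hQ)
    (g : ↥(Cfsg.isometryGroup F Q)) (hg : g ∈ Cfsg.Omega F Q) : par (g : GL ι F) := by
  have h1 : Cfsg.Omega F Q ≤ (evenG hQ hgen).comap (Cfsg.isometryGroup F Q).subtype := by
    unfold Cfsg.Omega
    rw [commutator_def, Subgroup.commutator_le]
    intro a _ b _
    rw [Subgroup.mem_comap, mem_evenG]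
    refine ⟨(⁅a, b⁆).2, ?_⟩
    have hc : ((Cfsg.isometryGroup F Q).subtype ⁅a, b⁆ : GL ι F) =
        (a : GL ι F) * (b : GL ι F) * ((a : GL ι F)⁻¹ * (b : GL ι F)⁻¹) := by
      rw [commutatorElement_def]
      simp [mul_assoc]
    rw [hc, par_mul_gen hQ hgen _ _ (mul_mem a.2 b.2) (mul_mem (inv_mem a.2) (inv_mem b.2)),
      par_mul_gen hQ hgen _ _ a.2 b.2, par_mul_gen hQ hgen _ _ (inv_mem a.2) (inv_mem b.2),
      par_inv_gen hQ hgen _ a.2, par_inv_gen hQ hgen _ b.2]
  exact (h1 hg).2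

/-- the reflections generate the isometry group (as a group in its own right) -/
theorem closure_rf_eq_top_gen (hgen : Cfsg.isometryGroup F Q ≤ RR hQ) :
    Subgroup.closure {g : ↥(Cfsg.isometryGroup F Q) | ∃ x, Q x ≠ 0 ∧ (g : GL ι F) = rf hQ x} = ⊤ := by
  rw [eq_top_iff]
  intro g _
  have hRR : RR hQ ≤ (Subgroup.closure {g : ↥(Cfsg.isometryGroup F Q) |
      ∃ x, Q x ≠ 0 ∧ (g : GL ι F) = rf hQ x}).map (Cfsg.isometryGroup F Q).subtype := by
    rw [RR, Subgroup.closure_le]
    rintro h ⟨x, rfl⟩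
    by_cases hx : Q x ≠ 0
    · exact ⟨⟨rf hQ x, rf_mem hQ x⟩, Subgroup.subset_closure ⟨x, hx, rfl⟩, rfl⟩
    · rw [rf_of_not hQ x hx]
      exact Subgroup.one_mem _
  obtain ⟨g', hg', hgg'⟩ := hRR (hgen g.2)
  have : g' = g := Subtype.ext hgg'
  rw [← this]
  exact hg'

/-- the reflection in `x` as an element of the isometry group -/
noncomputable def R (x : ι → F) : ↥(Cfsg.isometryGroup F Q) := ⟨rf hQ x, rf_mem hQ x⟩

lemma R_val (x : ι → F) : ((R hQ x : ↥(Cfsg.isometryGroup F Q)) : GL ι F) = rf hQ x := rfl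

lemma R_mul_self (x : ι → F) : R hQ x * R hQ x = 1 := Subtype.ext (rf_mul_self hQ x)

lemma R_inv (x : ι → F) : (R hQ x)⁻¹ = R hQ x := inv_eq_of_mul_eq_one_left (R_mul_self hQ x)

/-- if the reflection in `x - y` interchanges `x` and `y`, then `r_x r_y` is a commutator -/
lemma R_mul_R_mem_of_swap (x y : ι → F) (hxy : Q x = Q y) (h : Q (x - y) ≠ 0) :
    R hQ x * R hQ y ∈ Cfsg.Omega F Q := by
  have h1 : R hQ y = R hQ (x - y) * R hQ x * (R hQ (x - y))⁻¹ := by
    apply Subtype.ext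
    show rf hQ y = rf hQ (x - y) * rf hQ x * (rf hQ (x - y))⁻¹
    rw [conj_rf hQ _ (rf_mem hQ _), act_rf_sub hQ x y hxy h]
  have h2 : R hQ x * R hQ y = ⁅R hQ x, R hQ (x - y)⁆ := by
    rw [h1, commutatorElement_def, R_inv hQ x]
    simp only [mul_assoc]
  rw [h2]
  unfold Cfsg.Omega
  rw [commutator_def]
  exact Subgroup.commutator_mem_commutator (Subgroup.mem_top _) (Subgroup.mem_top _)

end General

end Cfsg.Agent.Lib.Helper5.OrthPar
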