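import Mathlib
import Cfsg.Agent.Lib.Helper5.Orth.Parity
import Cfsg.Agent.Lib.Helper5.AltRad

set_option autoImplicit false
set_option linter.unusedSectionVars false
open Cfsg

/-!
An isometry interchanging two complementary totally singular subspaces of dimension `k` has
`dim Fix ≡ k (mod 2)`; hence for `k` odd no element of `Ω` interchanges them, and the stabiliser in
`Ω` of such a pair is not maximal.
-/

namespace Cfsg.Agent.Lib.Helper5.OrthPar

open Matrix Cfsg.Agent.H9.Orth Cfsg.Agent.Lib.Helper5.OrthTv

section Swap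

variable {ι : Type} [Fintype ι] [DecidableEq ι] {F : Type*} [Field F] {Q : (ι → F) → F}
variable (hQ : Cfsg.Geo.IsNondegenerateQuadraticForm Q)
include hQ

/-- the alternating form attached to an isometry and a subspace -/
def swapForm (g : GL ι F) (D0 : Submodule F (ι → F)) : LinearMap.BilinForm F D0 :=
  LinearMap.mk₂ F (fun a a' => pol Q (act g (a : ι → F)) (a' : ι → F) -
      pol Q (act g (a' : ι → F)) (a : ι → F))
    (fun a b c => by
      simp only [Submodule.coe_add, act_add, pol_add_left hQ, pol_add_right hQ]; ring)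
    (fun c a b => by
      simp only [Submodule.coe_smul, act_smul, pol_smul_left hQ, pol_smul_right hQ, smul_eq_mul]
      ring)
    (fun a b c => by
      simp only [Submodule.coe_add, act_add, pol_add_left hQ, pol_add_right hQ]; ring)
    (fun c a b => by
      simp only [Submodule.coe_smul, act_smul, pol_smul_left hQ, pol_smul_right hQ, smul_eq_mul]
      ring)

lemma swapForm_apply (g : GL ι F) (D0 : Submodule F (ι → F)) (a a' : D0) :
    swapForm hQ g D0 a a' = pol Q (act g (a : ι → F)) (a' : ι → F) -
      pol Q (act g (a' : ι → F)) (a : ι → F) := rfl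

lemma swapForm_isAlt (g : GL ι F) (D0 : Submodule F (ι → F)) : (swapForm hQ g D0).IsAlt := by
  intro a
  rw [swapForm_apply, sub_self]

/-- an isometry interchanging two complementary totally singular subspaces: the dimension of its
fixed space has the parity of the dimension of the subspaces -/
theorem swap_fix_parity (g : GL ι F) (hg : g ∈ Cfsg.isometryGroup F Q)
    (D0 D1 : Submodule F (ι → F)) (hts0 : Cfsg.Geo.IsTotallySingularQuad Q D0)
    (hdisj : D0 ⊓ D1 = ⊥) (hsup : D0 ⊔ D1 = ⊤)
    (h01 : ∀ a ∈ D0, act g a ∈ D1) (h10 : ∀ b ∈ D1, act g b ∈ D0) :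
    ∃ j, Module.finrank F D0 = Module.finrank F (fixS g) + 2 * j := by
  -- every element of D1 is the image of an element of D0
  have hsurj : ∀ d ∈ D1, ∃ a ∈ D0, act g a = d := by
    intro d hd
    have hv : act g⁻¹ d ∈ D0 ⊔ D1 := by rw [hsup]; exact Submodule.mem_top
    obtain ⟨a, ha, b, hb, hab⟩ := Submodule.mem_sup.1 hv
    have h1 : act g a + act g b = d := by rw [← act_add, hab, act_act_inv]
    have h2 : act g b ∈ D0 ⊓ D1 := by
      refine Submodule.mem_inf.2 ⟨h10 b hb, ?_⟩
      have : act g b = d - act g a := by rw [← h1]; abel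
      rw [this]
      exact D1.sub_mem hd (h01 a ha)
    rw [hdisj, Submodule.mem_bot] at h2
    exact ⟨a, ha, by rw [← h1, h2, add_zero]⟩
  set R' : Submodule F (ι → F) := D0 ⊓ fixS (g * g) with hR'
  have hR'le : R' ≤ D0 := inf_le_left
  have hR'mem : ∀ v, v ∈ R' ↔ v ∈ D0 ∧ act g (act g v) = v := by
    intro v
    rw [hR', Submodule.mem_inf, mem_fixS, act_mul]
  set R : Submodule F D0 := R'.comap D0.subtype with hR
  have hRmem : ∀ a : D0, a ∈ R ↔ act g (act g (a : ι → F)) = (a : ι → F) := by
    intro a
    rw [hR, Submodule.mem_comap, hR'mem]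
    simp
  have hrad : ∀ a : D0, a ∈ R ↔ ∀ a' : D0, swapForm hQ g D0 a a' = 0 := by
    intro a
    rw [hRmem]
    constructor
    · intro ha a'
      rw [swapForm_apply]
      have h1 : pol Q (act g (a' : ι → F)) (a : ι → F) =
          pol Q (act g (a' : ι → F)) (act g (act g (a : ι → F))) := by rw [ha]
      rw [h1, pol_act g hg, pol_comm (Q := Q) (a' : ι → F), sub_self]
    · intro ha
      have hz : act g (act g (a : ι → F)) - (a : ι → F) ∈ D0 :=
        D0.sub_mem (h10 _ (h01 _ a.2)) a.2
      have hall : ∀ y, pol Q y (act g (act g (a : ι → F)) - (a : ι → F)) = 0 := by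
        intro y
        have hy : y ∈ D0 ⊔ D1 := by rw [hsup]; exact Submodule.mem_top
        obtain ⟨d0, hd0, d1, hd1, rfl⟩ := Submodule.mem_sup.1 hy
        obtain ⟨a', ha', rfl⟩ := hsurj d1 hd1
        rw [pol_add_left hQ, polar_eq_zero_of_ts D0 hts0 d0 _ hd0 hz, zero_add,
          pol_sub_right hQ, pol_act g hg]
        have := ha ⟨a', ha'⟩
        rw [swapForm_apply] at this
        rw [pol_comm (Q := Q) a']
        exact this
      by_contra hne
      have hne' : act g (act g (a : ι → F)) - (a : ι → F) ≠ 0 := fun h => hne (sub_eq_zero.1 h)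
      obtain ⟨⟨y, hy⟩, -⟩ := hQ.nondegenerate _ hne'
      exact hy (hall y)
  obtain ⟨j, hj⟩ := Cfsg.Agent.Lib.Helper5.AltEven.finrank_eq_rad_add_even D0 (swapForm hQ g D0)
    (swapForm_isAlt hQ g D0) R hrad
  refine ⟨j, ?_⟩
  rw [hj]
  congr 1
  have e1 : Module.finrank F R = Module.finrank F R' :=
    LinearEquiv.finrank_eq (Submodule.comapSubtypeEquivOfLe hR'le)
  rw [e1]
  -- the map a ↦ a + g a from R' to Fix g
  let L : (ι → F) →ₗ[F] (ι → F) := LinearMap.id + Matrix.toLin' (g : Matrix ι ι F)
  have hL : ∀ v, L v = v + act g v := fun v => by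
    simp [L, Matrix.toLin'_apply]
  have hmaps : ∀ a : R', (L.comp R'.subtype) a ∈ fixS g := by
    intro a
    have ha := (hR'mem _).1 a.2
    rw [LinearMap.comp_apply, Submodule.subtype_apply, hL, mem_fixS, act_add, ha.2]
    abel
  let ψ : R' →ₗ[F] fixS g := LinearMap.codRestrict (fixS g) (L.comp R'.subtype) hmaps
  have hψ : ∀ a : R', ((ψ a : fixS g) : ι → F) = (a : ι → F) + act g (a : ι → F) := by
    intro a
    show (L.comp R'.subtype) a = _
    rw [LinearMap.comp_apply, Submodule.subtype_apply, hL]
  have hinj : Function.Injective ψ := by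
    rw [injective_iff_map_eq_zero]
    intro a ha
    have h1 := hψ a
    rw [ha] at h1
    have h2 : (a : ι → F) ∈ D0 ⊓ D1 := by
      refine Submodule.mem_inf.2 ⟨hR'le a.2, ?_⟩
      have : (a : ι → F) = - act g (a : ι → F) := by
        have h3 : (a : ι → F) + act g (a : ι → F) = 0 := h1.symm
        exact eq_neg_of_add_eq_zero_left h3
      rw [this]
      exact D1.neg_mem (h01 _ (hR'le a.2))
    rw [hdisj, Submodule.mem_bot] at h2
    exact Subtype.ext h2
  have hsurjψ : Function.Surjective ψ := by
    intro v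
    have hv : (v : ι → F) ∈ D0 ⊔ D1 := by rw [hsup]; exact Submodule.mem_top
    obtain ⟨a, ha, b, hb, hab⟩ := Submodule.mem_sup.1 hv
    have hfix : act g (v : ι → F) = (v : ι → F) := v.2
    rw [← hab, act_add] at hfix
    have h1 : act g b - a ∈ D0 ⊓ D1 := by
      refine Submodule.mem_inf.2 ⟨D0.sub_mem (h10 b hb) ha, ?_⟩
      have : act g b - a = b - act g a := by
        have := hfix
        rw [add_comm] at this
        rw [sub_eq_sub_iff_add_eq_add]
        rw [this]
        abel
      rw [this]
      exact D1.sub_mem hb (h01 a ha)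
    rw [hdisj, Submodule.mem_bot] at h1
    have hgb : act g b = a := sub_eq_zero.1 h1
    have hga : act g a = b := by
      rw [hgb] at hfix
      have : act g a + a = a + b := hfix
      rw [add_comm] at this
      exact add_left_cancel this
    have haR : a ∈ R' := by
      rw [hR'mem, hga, hgb]
      exact ⟨ha, rfl⟩
    refine ⟨⟨a, haR⟩, ?_⟩
    apply Subtype.ext
    rw [hψ]
    show a + act g a = (v : ι → F)
    rw [hga, hab]
  exact (LinearEquiv.finrank_eq (LinearEquiv.ofBijective ψ ⟨hinj, hsurjψ⟩))

end Swap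

end Cfsg.Agent.Lib.Helper5.OrthPar
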