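import Mathlib
import Cfsg.Agent.Lib.Helper5.Orth.Swap

set_option autoImplicit false
set_option linter.unusedSectionVars false
open Cfsg

/-!
The stabiliser in `Ω` of a pair of complementary totally singular subspaces of odd dimension is not
maximal: it lies in the stabiliser of the first subspace.
-/

namespace Cfsg.Agent.Lib.Helper5.OrthPar

open Matrix Cfsg.Agent.H9.Orth Cfsg.Agent.Lib.Helper5.OrthTv

section Main

variable {ι : Type} [Fintype ι] [DecidableEq ι] {F : Type*} [Field F] {Q : (ι → F) → F}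
variable (hQ : Cfsg.Geo.IsNondegenerateQuadraticForm Q)

omit [Fintype ι] [DecidableEq ι] in
lemma exists_pair (D : Submodule F (ι → F)) [Fintype ι] (h : 2 ≤ Module.finrank F D) :
    ∃ u ∈ D, ∃ w ∈ D, u ≠ 0 ∧ w ∉ Submodule.span F {u} := by
  have hne : D ≠ ⊥ := by
    rintro rfl
    rw [finrank_bot] at h
    omega
  obtain ⟨u, hu, hu0⟩ := Submodule.exists_mem_ne_zero_of_ne_bot hne
  refine ⟨u, hu, ?_⟩
  by_contra hcon
  push Not at hcon
  have hle : D ≤ Submodule.span F {u} := fun w hw => hcon w hw hu0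
  have h1 := Submodule.finrank_mono hle
  rw [finrank_span_singleton hu0] at h1
  omega

lemma map_toLin_mem (g : GL ι F) (W : Submodule F (ι → F)) (v : ι → F) :
    v ∈ W.map (Matrix.toLin' (g : Matrix ι ι F)) ↔ ∃ w ∈ W, act g w = v := by
  rw [Submodule.mem_map]
  simp only [Matrix.toLin'_apply]

lemma stab_of_map_eq (g : GL ι F) (W : Submodule F (ι → F))
    (h : W.map (Matrix.toLin' (g : Matrix ι ι F)) = W) :
    g ∈ Cfsg.Geo.subspaceStabilizer W := by
  rw [mem_stab_iff]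
  intro v
  constructor
  · intro hv
    rw [← h, map_toLin_mem]
    exact ⟨v, hv, rfl⟩
  · intro hv
    rw [← h, map_toLin_mem] at hv
    obtain ⟨w, hw, hwv⟩ := hv
    rw [← act_injective g hwv]
    exact hw

lemma map_eq_of_stab (g : GL ι F) (W : Submodule F (ι → F))
    (h : g ∈ Cfsg.Geo.subspaceStabilizer W) :
    W.map (Matrix.toLin' (g : Matrix ι ι F)) = W := by
  rw [mem_stab_iff] at h
  ext v
  rw [map_toLin_mem]
  constructor
  · rintro ⟨w, hw, rfl⟩
    exact (h w).1 hw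
  · intro hv
    refine ⟨act g⁻¹ v, ?_, act_act_inv g v⟩
    rw [h, act_act_inv]
    exact hv

include hQ

/-- a root element centred in `D` moves some vector of the complementary totally singular
subspace `D'` out of `D'` -/
lemma sg_moves (D D' : Submodule F (ι → F)) (hts : Cfsg.Geo.IsTotallySingularQuad Q D)
    (hdisj : D ⊓ D' = ⊥) (hsup : D ⊔ D' = ⊤) (u w : ι → F) (hu : u ∈ D) (hw : w ∈ D)
    (hu0 : u ≠ 0) (hwu : w ∉ Submodule.span F {u}) :
    ∃ b ∈ D', act (sg hQ u w) b ∉ D' := by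
  obtain ⟨⟨y, hy⟩, -⟩ := hQ.nondegenerate u hu0
  have hy' : y ∈ D ⊔ D' := by rw [hsup]; exact Submodule.mem_top
  obtain ⟨d, hd, b, hb, rfl⟩ := Submodule.mem_sup.1 hy'
  have hbu : pol Q b u ≠ 0 := by
    have h1 : QuadraticMap.polar Q (d + b) u = pol Q d u + pol Q b u := pol_add_left hQ d b u
    rw [h1, polar_eq_zero_of_ts D hts d u hd hu, zero_add] at hy
    exact hy
  refine ⟨b, hb, ?_⟩
  intro hcon
  have huw : pol Q u w = 0 := polar_eq_zero_of_ts D hts u w hu hw
  rw [act_sg hQ u w (hts u hu) huw, hts w hw, zero_mul, sub_zero] at hcon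
  have hz : pol Q b w • u - pol Q b u • w ∈ D ⊓ D' := by
    refine Submodule.mem_inf.2 ⟨D.sub_mem (D.smul_mem _ hu) (D.smul_mem _ hw), ?_⟩
    have : pol Q b w • u - pol Q b u • w = (b + pol Q b w • u - pol Q b u • w) - b := by abel
    rw [this]
    exact D'.sub_mem hcon hb
  rw [hdisj, Submodule.mem_bot] at hz
  apply hwu
  rw [Submodule.mem_span_singleton]
  refine ⟨(pol Q b u)⁻¹ * pol Q b w, ?_⟩
  have h2 : pol Q b u • w = pol Q b w • u := (sub_eq_zero.1 hz).symm
  rw [mul_smul, ← h2, smul_smul, inv_mul_cancel₀ hbu, one_smul]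

theorem ts_pair_not_maximal [Fintype F] (hn : 7 ≤ Fintype.card ι) (k : ℕ)
    (hk : 2 * k = Fintype.card ι) (hko : Odd k) (D : Fin 2 → Submodule F (ι → F))
    (hD : Cfsg.Geo.IsMDecomposition k D)
    (hts : ∀ i, Cfsg.Geo.IsTotallySingularQuad Q (D i)) :
    ∃ K : Subgroup (GL ι F),
      Cfsg.Geo.decompositionStabilizer D ⊓ Cfsg.Geo.omegaGL Q < K ∧ K < Cfsg.Geo.omegaGL Q := by
  have hn5 : 5 ≤ Fintype.card ι := by omega
  have hdisj : D 0 ⊓ D 1 = ⊥ :=
    disjoint_iff.1 (hD.indep.pairwiseDisjoint (show (0 : Fin 2) ≠ 1 by decide))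
  have hdisj' : D 1 ⊓ D 0 = ⊥ := by rw [inf_comm]; exact hdisj
  have hsup : D 0 ⊔ D 1 = ⊤ := by
    rw [eq_top_iff, ← hD.iSup_eq_top]
    apply iSup_le
    intro i
    fin_cases i
    · exact le_sup_left
    · exact le_sup_right
  have hsup' : D 1 ⊔ D 0 = ⊤ := by rw [sup_comm]; exact hsup
  have hk2 : 2 ≤ k := by omega
  have hΩ : Cfsg.Geo.omegaGL Q = NN hQ := omegaGL_eq_NN hQ hn
  -- D 0 ≠ D 1
  have hne01 : D 0 ≠ D 1 := by
    intro h
    rw [← h, inf_idem] at hdisj
    have := hD.finrank_eq 0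
    rw [hdisj, finrank_bot] at this
    omega
  -- the two root elements
  obtain ⟨u0, hu0, w0, hw0, hu00, hwu0⟩ := exists_pair (D 0) (by rw [hD.finrank_eq]; exact hk2)
  obtain ⟨u1, hu1, w1, hw1, hu10, hwu1⟩ := exists_pair (D 1) (by rw [hD.finrank_eq]; exact hk2)
  have hg0 : sg hQ u0 w0 ∈ Cfsg.Geo.omegaGL Q := by
    rw [hΩ]
    exact sg_mem_NN hQ u0 w0 (hts 0 u0 hu0) (hts 0 w0 hw0)
      (polar_eq_zero_of_ts (D 0) (hts 0) u0 w0 hu0 hw0)
  have hg1 : sg hQ u1 w1 ∈ Cfsg.Geo.omegaGL Q := by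
    rw [hΩ]
    exact sg_mem_NN hQ u1 w1 (hts 1 u1 hu1) (hts 1 w1 hw1)
      (polar_eq_zero_of_ts (D 1) (hts 1) u1 w1 hu1 hw1)
  refine ⟨Cfsg.Geo.subspaceStabilizer (D 0) ⊓ Cfsg.Geo.omegaGL Q, ?_, ?_⟩
  · -- the pair stabiliser lies strictly inside
    rw [lt_iff_le_and_ne]
    constructor
    · intro g hg
      obtain ⟨hgD, hgΩ⟩ := Subgroup.mem_inf.1 hg
      refine Subgroup.mem_inf.2 ⟨?_, hgΩ⟩
      obtain ⟨g', hg', rfl⟩ := hgΩ
      have hpar := omega_par hQ hn5 g' hg'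
      obtain ⟨σ, hσ⟩ := hgD
      by_cases hσ0 : σ 0 = 0
      · apply stab_of_map_eq
        have := hσ 0
        rw [hσ0] at this
        exact this
      · exfalso
        have hσ0' : σ 0 = 1 := by
          have : ∀ i : Fin 2, i ≠ 0 → i = 1 := by decide
          exact this _ hσ0
        have hσ1 : σ 1 = 0 := by
          have h1 : σ 1 ≠ 1 := by
            intro h
            have := σ.injective (h.trans hσ0'.symm)
            exact absurd this (by decide)
          have : ∀ i : Fin 2, i ≠ 1 → i = 0 := by decide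
          exact this _ h1
        have h01 : ∀ a ∈ D 0, act ((Cfsg.isometryGroup F Q).subtype g') a ∈ D 1 := by
          intro a ha
          rw [← hσ0', ← hσ 0, map_toLin_mem]
          exact ⟨a, ha, rfl⟩
        have h10 : ∀ b ∈ D 1, act ((Cfsg.isometryGroup F Q).subtype g') b ∈ D 0 := by
          intro b hb
          rw [← hσ1, ← hσ 1, map_toLin_mem]
          exact ⟨b, hb, rfl⟩
        obtain ⟨j, hj⟩ := swap_fix_parity hQ _ g'.2 (D 0) (D 1) (hts 0) hdisj hsup h01 h10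
        have h2 := finrank_fixS hQ _ g'.2
        have h3 := rank_le (g' : GL ι F)
        rw [hD.finrank_eq] at hj
        obtain ⟨l, hl⟩ := hko
        obtain ⟨r, hr⟩ := hpar
        omega
    · intro heq
      have hmem : sg hQ u0 w0 ∈ Cfsg.Geo.subspaceStabilizer (D 0) ⊓ Cfsg.Geo.omegaGL Q :=
        Subgroup.mem_inf.2 ⟨sg_mem_stab hQ (D 0) (hts 0) u0 w0 hu0
          (polar_eq_zero_of_ts (D 0) (hts 0) u0 w0 hu0 hw0), hg0⟩
      rw [← heq] at hmem
      obtain ⟨⟨σ, hσ⟩, -⟩ := Subgroup.mem_inf.1 hmem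
      have hst := map_eq_of_stab _ _ (sg_mem_stab hQ (D 0) (hts 0) u0 w0 hu0
          (polar_eq_zero_of_ts (D 0) (hts 0) u0 w0 hu0 hw0))
      have hσ0 : σ 0 = 0 := by
        by_contra hσ0
        have hσ0' : σ 0 = 1 := by
          have : ∀ i : Fin 2, i ≠ 0 → i = 1 := by decide
          exact this _ hσ0
        have := hσ 0
        rw [hst, hσ0'] at this
        exact hne01 this
      have hσ1 : σ 1 = 1 := by
        by_contra hσ1
        have hσ1' : σ 1 = 0 := by
          have : ∀ i : Fin 2, i ≠ 1 → i = 0 := by decide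
          exact this _ hσ1
        have := σ.injective (hσ1'.trans hσ0.symm)
        exact absurd this (by decide)
      obtain ⟨b, hb, hbn⟩ := sg_moves hQ (D 0) (D 1) (hts 0) hdisj hsup u0 w0 hu0 hw0 hu00 hwu0
      apply hbn
      have := hσ 1
      rw [hσ1] at this
      rw [← this, map_toLin_mem]
      exact ⟨b, hb, rfl⟩
  · rw [lt_iff_le_and_ne]
    refine ⟨inf_le_right, ?_⟩
    intro heq
    have hmem : sg hQ u1 w1 ∈ Cfsg.Geo.subspaceStabilizer (D 0) ⊓ Cfsg.Geo.omegaGL Q := by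
      rw [heq]; exact hg1
    obtain ⟨hst, -⟩ := Subgroup.mem_inf.1 hmem
    rw [mem_stab_iff] at hst
    obtain ⟨b, hb, hbn⟩ := sg_moves hQ (D 1) (D 0) (hts 1) hdisj' hsup' u1 w1 hu1 hw1 hu10 hwu1
    exact hbn ((hst b).1 hb)

end Main

end Cfsg.Agent.Lib.Helper5.OrthPar
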