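import Mathlib
import Cfsg.Agent.Lib.Helper5.Orth.ParityAll
import Cfsg.Agent.Lib.Helper5.Orth.SwapMain

set_option autoImplicit false
set_option linter.unusedSectionVars false
open Cfsg

/-!
The two families of maximal totally singular subspaces: for an isometry `g` and a maximal totally
singular subspace `U` (of half the dimension), `dim U - dim (U ∩ gU)` has the parity of
`rank (g - 1)`.
-/

namespace Cfsg.Agent.Lib.Helper5.OrthPar

open Matrix Cfsg.Agent.H9.Orth Cfsg.Agent.Lib.Helper5.OrthTv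

section Family

variable {ι : Type} [Fintype ι] [DecidableEq ι] {F : Type*} [Field F] {Q : (ι → F) → F}
variable (hQ : Cfsg.Geo.IsNondegenerateQuadraticForm Q)

/-- the image of a subspace under a matrix -/
abbrev mapS (g : GL ι F) (U : Submodule F (ι → F)) : Submodule F (ι → F) :=
  U.map (Matrix.toLin' (g : Matrix ι ι F))

lemma mem_mapS (g : GL ι F) (U : Submodule F (ι → F)) (v : ι → F) :
    v ∈ mapS g U ↔ ∃ w ∈ U, act g w = v := map_toLin_mem g U v

lemma mem_mapS' (g : GL ι F) (U : Submodule F (ι → F)) (v : ι → F) :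
    v ∈ mapS g U ↔ act g⁻¹ v ∈ U := by
  rw [mem_mapS]
  constructor
  · rintro ⟨w, hw, rfl⟩
    rwa [act_inv_act]
  · intro h
    exact ⟨_, h, act_act_inv g v⟩

lemma finrank_mapS (g : GL ι F) (U : Submodule F (ι → F)) :
    Module.finrank F (mapS g U) = Module.finrank F U := by
  have hinj : Function.Injective (Matrix.toLin' (g : Matrix ι ι F)) := by
    intro a b hab
    rw [Matrix.toLin'_apply, Matrix.toLin'_apply] at hab
    exact act_injective g hab
  exact (LinearEquiv.finrank_eq (Submodule.equivMapOfInjective _ hinj U)).symm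

lemma mapS_mul (g h : GL ι F) (U : Submodule F (ι → F)) : mapS (g * h) U = mapS g (mapS h U) := by
  ext v
  rw [mem_mapS', mem_mapS', mem_mapS', _root_.mul_inv_rev, act_mul]

lemma mapS_one (U : Submodule F (ι → F)) : mapS (1 : GL ι F) U = U := by
  ext v
  rw [mem_mapS', inv_one, act_one]

lemma mapS_inf (g : GL ι F) (U W : Submodule F (ι → F)) :
    mapS g (U ⊓ W) = mapS g U ⊓ mapS g W := by
  ext v
  simp only [mem_mapS', Submodule.mem_inf]

/-- maximal totally singular subspaces (half the dimension) -/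
def IsMaxTS (Q : (ι → F) → F) (U : Submodule F (ι → F)) : Prop :=
  Cfsg.Geo.IsTotallySingularQuad Q U ∧ 2 * Module.finrank F U = Fintype.card ι

include hQ

lemma perp_sup (A B : Submodule F (ι → F)) : perp hQ (A ⊔ B) = perp hQ A ⊓ perp hQ B := by
  ext v
  rw [mem_perp_sup, Submodule.mem_inf]

lemma ts_le_perp (U : Submodule F (ι → F)) (hU : Cfsg.Geo.IsTotallySingularQuad Q U) :
    U ≤ perp hQ U := by
  intro v hv
  rw [mem_perp]
  intro w hw
  exact polar_eq_zero_of_ts U hU w v hw hv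

lemma maxTS_perp (U : Submodule F (ι → F)) (hU : IsMaxTS Q U) : perp hQ U = U := by
  symm
  apply Submodule.eq_of_le_of_finrank_eq (ts_le_perp hQ U hU.1)
  have := finrank_perp hQ U
  have := hU.2
  omega

lemma maxTS_mapS (g : GL ι F) (hg : g ∈ Cfsg.isometryGroup F Q) (U : Submodule F (ι → F))
    (hU : IsMaxTS Q U) : IsMaxTS Q (mapS g U) := by
  refine ⟨?_, by rw [finrank_mapS]; exact hU.2⟩
  intro v hv
  obtain ⟨w, hw, rfl⟩ := (mem_mapS g U v).1 hv
  rw [Q_act g hg]
  exact hU.1 w hw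

/-- sum of two totally singular subspaces that are perpendicular -/
lemma ts_sup (A B : Submodule F (ι → F)) (hA : Cfsg.Geo.IsTotallySingularQuad Q A)
    (hB : Cfsg.Geo.IsTotallySingularQuad Q B) (hAB : A ≤ perp hQ B) :
    Cfsg.Geo.IsTotallySingularQuad Q (A ⊔ B) := by
  intro v hv
  obtain ⟨a, ha, b, hb, rfl⟩ := Submodule.mem_sup.1 hv
  rw [Q_add Q, hA a ha, hB b hb, pol_comm a b, (mem_perp hQ B a).1 (hAB ha) b hb]
  ring

/-- the only maximal totally singular subspaces containing `U₁ ∩ U₂` (of codimension one in both)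
are `U₁` and `U₂` -/
lemma maxTS_of_contains (U₁ U₂ M : Submodule F (ι → F)) (m : ℕ) (hm : Fintype.card ι = 2 * m)
    (h1 : IsMaxTS Q U₁) (h2 : IsMaxTS Q U₂) (hM : IsMaxTS Q M)
    (h12 : Module.finrank F ↥(U₁ ⊓ U₂) + 1 = m) (hle : U₁ ⊓ U₂ ≤ M) : M = U₁ ∨ M = U₂ := by
  have hd1 : Module.finrank F U₁ = m := by have := h1.2; omega
  have hd2 : Module.finrank F U₂ = m := by have := h2.2; omega
  have hdM : Module.finrank F M = m := by have := hM.2; omega
  set H := U₁ ⊓ U₂ with hH
  -- pick u₁ ∈ U₁ \ H, u₂ ∈ U₂ \ H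
  have hlt1 : H < U₁ := by
    refine lt_of_le_of_ne inf_le_left ?_
    intro h
    rw [h] at h12
    omega
  have hlt2 : H < U₂ := by
    refine lt_of_le_of_ne inf_le_right ?_
    intro h
    rw [h] at h12
    omega
  obtain ⟨u₁, hu₁, hu₁H⟩ := SetLike.exists_of_lt hlt1
  obtain ⟨u₂, hu₂, hu₂H⟩ := SetLike.exists_of_lt hlt2
  have hU1 : U₁ = H ⊔ Submodule.span F {u₁} := by
    symm
    apply Submodule.eq_of_le_of_finrank_le
    · exact sup_le inf_le_left ((Submodule.span_singleton_le_iff_mem _ _).2 hu₁)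
    · have hlt : H < H ⊔ Submodule.span F {u₁} := by
        refine lt_of_le_of_ne le_sup_left ?_
        intro h
        apply hu₁H
        rw [h]
        exact Submodule.mem_sup_right (Submodule.mem_span_singleton_self _)
      have := Submodule.finrank_lt_finrank_of_lt hlt
      omega
  have hU2 : U₂ = H ⊔ Submodule.span F {u₂} := by
    symm
    apply Submodule.eq_of_le_of_finrank_le
    · exact sup_le inf_le_right ((Submodule.span_singleton_le_iff_mem _ _).2 hu₂)
    · have hlt : H < H ⊔ Submodule.span F {u₂} := by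
        refine lt_of_le_of_ne le_sup_left ?_
        intro h
        apply hu₂H
        rw [h]
        exact Submodule.mem_sup_right (Submodule.mem_span_singleton_self _)
      have := Submodule.finrank_lt_finrank_of_lt hlt
      omega
  -- pol u₁ u₂ ≠ 0
  have hpol : pol Q u₁ u₂ ≠ 0 := by
    intro h0
    apply hu₁H
    refine Submodule.mem_inf.2 ⟨hu₁, ?_⟩
    rw [← maxTS_perp hQ U₂ h2, mem_perp]
    intro w hw
    rw [hU2] at hw
    obtain ⟨a, ha, b, hb, rfl⟩ := Submodule.mem_sup.1 hw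
    obtain ⟨c, rfl⟩ := Submodule.mem_span_singleton.1 hb
    rw [pol_add_left hQ, pol_smul_left hQ, pol_comm u₂ u₁, h0, mul_zero, add_zero]
    exact polar_eq_zero_of_ts U₁ h1.1 a u₁ (inf_le_left (a := U₁) (b := U₂) ha) hu₁
  -- M ≤ perp H = H ⊔ span u₁ ⊔ span u₂
  have hMperp : M ≤ perp hQ H := by
    rw [← maxTS_perp hQ M hM]
    exact perp_anti hQ hle
  have hperpH : perp hQ H = U₁ ⊔ U₂ := by
    symm
    apply Submodule.eq_of_le_of_finrank_eq
    · apply sup_le
      · rw [← maxTS_perp hQ U₁ h1]; exact perp_anti hQ inf_le_left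
      · rw [← maxTS_perp hQ U₂ h2]; exact perp_anti hQ inf_le_right
    · have e1 := Submodule.finrank_sup_add_finrank_inf_eq U₁ U₂
      rw [← hH] at e1
      have e2 := finrank_perp hQ H
      omega
  -- pick w ∈ M \ H
  have hltM : H < M := by
    refine lt_of_le_of_ne hle ?_
    intro h
    rw [h] at h12
    omega
  obtain ⟨w, hw, hwH⟩ := SetLike.exists_of_lt hltM
  have hMeq : M = H ⊔ Submodule.span F {w} := by
    symm
    apply Submodule.eq_of_le_of_finrank_le
    · exact sup_le hle ((Submodule.span_singleton_le_iff_mem _ _).2 hw)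
    · have hlt : H < H ⊔ Submodule.span F {w} := by
        refine lt_of_le_of_ne le_sup_left ?_
        intro h
        apply hwH
        rw [h]
        exact Submodule.mem_sup_right (Submodule.mem_span_singleton_self _)
      have := Submodule.finrank_lt_finrank_of_lt hlt
      omega
  have hw' : w ∈ U₁ ⊔ U₂ := by rw [← hperpH]; exact hMperp hw
  obtain ⟨a, ha, b, hb, hab⟩ := Submodule.mem_sup.1 hw'
  -- Q w = pol a b = 0
  have hQw : pol Q a b = 0 := by
    have := hM.1 w hw
    rw [← hab, Q_add Q, h1.1 a ha, h2.1 b hb] at this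
    linear_combination this
  rw [hU1] at ha
  rw [hU2] at hb
  obtain ⟨a0, ha0, a1, ha1, rfl⟩ := Submodule.mem_sup.1 ha
  obtain ⟨b0, hb0, b1, hb1, rfl⟩ := Submodule.mem_sup.1 hb
  obtain ⟨s, rfl⟩ := Submodule.mem_span_singleton.1 ha1
  obtain ⟨t, rfl⟩ := Submodule.mem_span_singleton.1 hb1
  have ha0' : a0 ∈ U₁ ∧ a0 ∈ U₂ := Submodule.mem_inf.1 ha0
  have hb0' : b0 ∈ U₁ ∧ b0 ∈ U₂ := Submodule.mem_inf.1 hb0
  have hst : s * t = 0 := by
    have e1 : pol Q a0 b0 = 0 := polar_eq_zero_of_ts U₁ h1.1 a0 b0 ha0'.1 hb0'.1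
    have e2 : pol Q a0 u₂ = 0 := polar_eq_zero_of_ts U₂ h2.1 a0 u₂ ha0'.2 hu₂
    have e3 : pol Q u₁ b0 = 0 := polar_eq_zero_of_ts U₁ h1.1 u₁ b0 hu₁ hb0'.1
    rw [pol_add_left hQ, pol_add_right hQ, pol_add_right hQ, pol_smul_right hQ,
      pol_smul_left hQ, pol_smul_left hQ, pol_smul_right hQ, e1, e2, e3] at hQw
    have : s * t * pol Q u₁ u₂ = 0 := by linear_combination hQw
    exact (mul_eq_zero.1 this).resolve_right hpol
  rcases mul_eq_zero.1 hst with hs | ht
  · right
    rw [hMeq, hU2]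
    have hwU2 : w ∈ U₂ := by
      rw [← hab, hs, zero_smul, add_zero]
      exact U₂.add_mem ha0'.2 (U₂.add_mem hb0'.2 (U₂.smul_mem _ hu₂))
    apply Submodule.eq_of_le_of_finrank_eq
    · rw [← hU2]
      exact sup_le inf_le_right ((Submodule.span_singleton_le_iff_mem _ _).2 hwU2)
    · rw [← hMeq, ← hU2, hdM, hd2]
  · left
    rw [hMeq, hU1]
    have hwU1 : w ∈ U₁ := by
      rw [← hab, ht, zero_smul, add_zero]
      exact U₁.add_mem (U₁.add_mem ha0'.1 (U₁.smul_mem _ hu₁)) hb0'.1
    apply Submodule.eq_of_le_of_finrank_eq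
    · rw [← hU1]
      exact sup_le inf_le_left ((Submodule.span_singleton_le_iff_mem _ _).2 hwU1)
    · rw [← hMeq, ← hU1, hdM, hd1]

end Family

end Cfsg.Agent.Lib.Helper5.OrthPar
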