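import Mathlib
import Cfsg.Agent.Lib.Helper5.Orth.Family

set_option autoImplicit false
set_option linter.unusedSectionVars false
open Cfsg

/-!
The two families of maximal totally singular subspaces, continued: the bipartite lemma and the
parity theorem `Even (m - dim (U ∩ gU)) ↔ Even (rank (g - 1))`.
-/

namespace Cfsg.Agent.Lib.Helper5.OrthPar

open Matrix Cfsg.Agent.H9.Orth Cfsg.Agent.Lib.Helper5.OrthTv

section Family

variable {ι : Type} [Fintype ι] [DecidableEq ι] {F : Type*} [Field F] {Q : (ι → F) → F}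
variable (hQ : Cfsg.Geo.IsNondegenerateQuadraticForm Q)

omit [Fintype ι] [DecidableEq ι] in
lemma flip_parity (m d d' : ℕ) (hd : d ≤ m) (hd' : d' ≤ m) (h : d' = d + 1 ∨ d = d' + 1) :
    Even (m - d') ↔ ¬ Even (m - d) := by
  rcases h with h | h
  · subst h
    obtain ⟨k, rfl⟩ := Nat.exists_eq_add_of_le hd'
    have e1 : d + 1 + k - (d + 1) = k := by omega
    have e2 : d + 1 + k - d = k + 1 := by omega
    rw [e1, e2, Nat.even_add_one, not_not]
  · subst h
    obtain ⟨k, rfl⟩ := Nat.exists_eq_add_of_le hd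
    have e1 : d' + 1 + k - (d' + 1) = k := by omega
    have e2 : d' + 1 + k - d' = k + 1 := by omega
    rw [e1, e2, Nat.even_add_one]

include hQ

/-- the bipartite lemma -/
lemma bipartite (U₁ U₂ U₃ : Submodule F (ι → F)) (m : ℕ) (hm : Fintype.card ι = 2 * m)
    (h1 : IsMaxTS Q U₁) (h2 : IsMaxTS Q U₂) (h3 : IsMaxTS Q U₃)
    (h12 : Module.finrank F ↥(U₁ ⊓ U₂) + 1 = m) :
    Module.finrank F ↥(U₁ ⊓ U₃) = Module.finrank F ↥(U₂ ⊓ U₃) + 1 ∨
      Module.finrank F ↥(U₂ ⊓ U₃) = Module.finrank F ↥(U₁ ⊓ U₃) + 1 := by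
  have hd1 : Module.finrank F U₁ = m := by have := h1.2; omega
  have hd2 : Module.finrank F U₂ = m := by have := h2.2; omega
  have hd3 : Module.finrank F U₃ = m := by have := h3.2; omega
  set H := U₁ ⊓ U₂ with hH
  have hHts : Cfsg.Geo.IsTotallySingularQuad Q H := fun v hv => h1.1 v (inf_le_left (a := U₁) hv)
  have hHperp : H ≤ perp hQ H := ts_le_perp hQ H hHts
  set A := U₃ ⊓ perp hQ H with hA
  have hAeq : A = perp hQ (U₃ ⊔ H) := by
    rw [perp_sup, maxTS_perp hQ U₃ h3]
  have hAH : A ⊓ H = U₃ ⊓ H := by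
    rw [hA, inf_assoc, inf_eq_right.2 hHperp]
  -- dimensions
  have e1 := Submodule.finrank_sup_add_finrank_inf_eq U₃ H
  have e2 := finrank_perp hQ (U₃ ⊔ H)
  rw [← hAeq] at e2
  have e3 : Module.finrank F ↥(U₃ ⊓ H) ≤ Module.finrank F H := Submodule.finrank_mono inf_le_right
  have e4 : Module.finrank F ↥(U₃ ⊔ H) ≤ Fintype.card ι := by
    have := (U₃ ⊔ H).finrank_le
    rwa [Module.finrank_fintype_fun_eq_card] at this
  have hfA : Module.finrank F A = 1 + Module.finrank F ↥(U₃ ⊓ H) := by omega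
  -- M = A ⊔ H is maximal totally singular
  have hMts : Cfsg.Geo.IsTotallySingularQuad Q (A ⊔ H) :=
    ts_sup hQ A H (fun v hv => h3.1 v (inf_le_left (a := U₃) hv)) hHts inf_le_right
  have e5 := Submodule.finrank_sup_add_finrank_inf_eq A H
  rw [hAH] at e5
  have hM : IsMaxTS Q (A ⊔ H) := ⟨hMts, by omega⟩
  have hU1perp : U₁ ≤ perp hQ H := by
    rw [← maxTS_perp hQ U₁ h1]; exact perp_anti hQ inf_le_left
  have hU2perp : U₂ ≤ perp hQ H := by
    rw [← maxTS_perp hQ U₂ h2]; exact perp_anti hQ inf_le_right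
  rcases maxTS_of_contains hQ U₁ U₂ (A ⊔ H) m hm h1 h2 hM h12 le_sup_right with hMU | hMU
  · left
    have hAle : A ≤ U₁ := by rw [← hMU]; exact le_sup_left
    have i1 : U₁ ⊓ U₃ = A := by
      apply le_antisymm
      · exact le_inf inf_le_right (inf_le_left.trans hU1perp)
      · exact le_inf hAle inf_le_left
    have i2 : U₂ ⊓ U₃ = U₃ ⊓ H := by
      apply le_antisymm
      · intro v hv
        obtain ⟨hv2, hv3⟩ := Submodule.mem_inf.1 hv
        have hvA : v ∈ A := Submodule.mem_inf.2 ⟨hv3, hU2perp hv2⟩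
        exact Submodule.mem_inf.2 ⟨hv3, Submodule.mem_inf.2 ⟨hAle hvA, hv2⟩⟩
      · exact le_inf (inf_le_right.trans inf_le_right) inf_le_left
    rw [i1, i2, hfA, add_comm]
  · right
    have hAle : A ≤ U₂ := by rw [← hMU]; exact le_sup_left
    have i1 : U₂ ⊓ U₃ = A := by
      apply le_antisymm
      · exact le_inf inf_le_right (inf_le_left.trans hU2perp)
      · exact le_inf hAle inf_le_left
    have i2 : U₁ ⊓ U₃ = U₃ ⊓ H := by
      apply le_antisymm
      · intro v hv
        obtain ⟨hv1, hv3⟩ := Submodule.mem_inf.1 hv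
        have hvA : v ∈ A := Submodule.mem_inf.2 ⟨hv3, hU1perp hv1⟩
        exact Submodule.mem_inf.2 ⟨hv3, Submodule.mem_inf.2 ⟨hv1, hAle hvA⟩⟩
      · exact le_inf (inf_le_right.trans inf_le_left) inf_le_left
    rw [i1, i2, hfA, add_comm]

/-- a maximal totally singular subspace and its image under a reflection are adjacent -/
lemma adjacent_rf (U : Submodule F (ι → F)) (m : ℕ) (hm : Fintype.card ι = 2 * m)
    (hU : IsMaxTS Q U) (x : ι → F) (hx : Q x ≠ 0) :
    Module.finrank F ↥(U ⊓ mapS (rf hQ x) U) + 1 = m := by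
  have hd : Module.finrank F U = m := by have := hU.2; omega
  have hxU : x ∉ U := fun h => hx (hU.1 x h)
  have hx0 := ne_zero_of_Q_ne hQ x hx
  have heq : U ⊓ mapS (rf hQ x) U = perp hQ (U ⊔ Submodule.span F {x}) := by
    rw [perp_sup, maxTS_perp hQ U hU]
    ext v
    rw [Submodule.mem_inf, Submodule.mem_inf, mem_perp_span_singleton, mem_mapS', rf_inv]
    constructor
    · rintro ⟨hv, hrv⟩
      refine ⟨hv, ?_⟩
      rw [act_rf hQ x hx] at hrv
      by_contra hne
      apply hxU
      have h1 : ((Q x)⁻¹ * pol Q v x) • x ∈ U := by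
        have : ((Q x)⁻¹ * pol Q v x) • x = v - (v - ((Q x)⁻¹ * pol Q v x) • x) := by abel
        rw [this]
        exact U.sub_mem hv hrv
      have hc : (Q x)⁻¹ * pol Q v x ≠ 0 := by
        apply mul_ne_zero (inv_ne_zero hx)
        rw [pol_comm]; exact hne
      have := U.smul_mem ((Q x)⁻¹ * pol Q v x)⁻¹ h1
      rwa [smul_smul, inv_mul_cancel₀ hc, one_smul] at this
    · rintro ⟨hv, hpol⟩
      refine ⟨hv, ?_⟩
      rw [act_rf_perp hQ x v (by rw [pol_comm]; exact hpol)]
      exact hv
  rw [heq, finrank_perp]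
  have hinf : U ⊓ Submodule.span F {x} = ⊥ := by
    rw [eq_bot_iff]
    intro v hv
    obtain ⟨hv1, hv2⟩ := Submodule.mem_inf.1 hv
    obtain ⟨c, rfl⟩ := Submodule.mem_span_singleton.1 hv2
    by_cases hc : c = 0
    · rw [hc, zero_smul]; exact Submodule.zero_mem _
    · exfalso
      apply hxU
      have := U.smul_mem c⁻¹ hv1
      rwa [smul_smul, inv_mul_cancel₀ hc, one_smul] at this
  have e1 := Submodule.finrank_sup_add_finrank_inf_eq U (Submodule.span F {x})
  rw [hinf, finrank_bot, finrank_span_singleton hx0] at e1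
  have e2 : Module.finrank F ↥(U ⊔ Submodule.span F {x}) ≤ Fintype.card ι := by
    have := (U ⊔ Submodule.span F {x}).finrank_le
    rwa [Module.finrank_fintype_fun_eq_card] at this
  omega

/-- the parity theorem for the two families of maximal totally singular subspaces -/
theorem family_parity (hgen : Cfsg.isometryGroup F Q ≤ RR hQ) (U : Submodule F (ι → F)) (m : ℕ)
    (hm : Fintype.card ι = 2 * m) (hU : IsMaxTS Q U) (g : GL ι F)
    (hg : g ∈ Cfsg.isometryGroup F Q) :
    Even (m - Module.finrank F ↥(U ⊓ mapS g U)) ↔ par g := by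
  have hd : Module.finrank F U = m := by have := hU.2; omega
  have hgR : g ∈ RR hQ := hgen hg
  have key : ∀ g (_ : g ∈ RR hQ), g ∈ Cfsg.isometryGroup F Q ∧
      (Even (m - Module.finrank F ↥(U ⊓ mapS g U)) ↔ par g) := by
    intro g hgR
    have step : ∀ (x : ι → F) (y : GL ι F), (y ∈ Cfsg.isometryGroup F Q ∧
        (Even (m - Module.finrank F ↥(U ⊓ mapS y U)) ↔ par y)) →
        (rf hQ x * y ∈ Cfsg.isometryGroup F Q ∧
        (Even (m - Module.finrank F ↥(U ⊓ mapS (rf hQ x * y) U)) ↔ par (rf hQ x * y))) := by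
      intro x y ⟨hyO, hy⟩
      by_cases hx : Q x ≠ 0
      · refine ⟨mul_mem (rf_mem hQ x) hyO, ?_⟩
        rw [par_rf_mul hQ y hyO x hx, ← hy]
        have hfin : Module.finrank F ↥(U ⊓ mapS (rf hQ x * y) U) =
            Module.finrank F ↥(mapS (rf hQ x) U ⊓ mapS y U) := by
          have : U ⊓ mapS (rf hQ x * y) U = mapS (rf hQ x) (mapS (rf hQ x) U ⊓ mapS y U) := by
            rw [mapS_inf, ← mapS_mul, ← mapS_mul, rf_mul_self, mapS_one]
          rw [this, finrank_mapS]
        rw [hfin]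
        have hb := bipartite hQ U (mapS (rf hQ x) U) (mapS y U) m hm hU
          (maxTS_mapS hQ _ (rf_mem hQ x) U hU) (maxTS_mapS hQ _ hyO U hU)
          (adjacent_rf hQ U m hm hU x hx)
        have b1 : Module.finrank F ↥(U ⊓ mapS y U) ≤ m := by
          rw [← hd]; exact Submodule.finrank_mono inf_le_left
        have b2 : Module.finrank F ↥(mapS (rf hQ x) U ⊓ mapS y U) ≤ m := by
          rw [← hd, ← finrank_mapS (rf hQ x) U]; exact Submodule.finrank_mono inf_le_left
        apply flip_parity m _ _ b1 b2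
        rcases hb with hb | hb
        · right; exact hb
        · left; exact hb
      · rw [rf_of_not hQ x hx, one_mul]
        exact ⟨hyO, hy⟩
    unfold RR at hgR
    induction hgR using Subgroup.closure_induction_left with
    | one =>
      refine ⟨one_mem _, ?_⟩
      rw [mapS_one, inf_idem, hd, Nat.sub_self]
      have := par_one (ι := ι) (F := F)
      simp [this]
    | mul_left a ha y _ ih =>
      obtain ⟨x, rfl⟩ := ha
      exact step x y ih
    | inv_mul_cancel a ha y _ ih =>
      obtain ⟨x, rfl⟩ := ha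
      rw [rf_inv]
      exact step x y ih
  exact (key g hgR).2

end Family

end Cfsg.Agent.Lib.Helper5.OrthPar
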