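import Mathlib
import Cfsg.Agent.Lib.Helper5.Orth.ParityAll

set_option autoImplicit false
set_option linter.unusedSectionVars false
open Cfsg

/-!
Characteristic two, all dimensions (except `O₄(2)`): `Ω` is exactly the set of isometries `g` with
`rank (g - 1)` even; it has index two.
-/

namespace Cfsg.Agent.Lib.Helper5.OrthPar

open Matrix Cfsg.Agent.H9.Orth Cfsg.Agent.Lib.Helper5.OrthTv
open scoped commutatorElement

section CharTwo

variable {ι : Type} [Fintype ι] [DecidableEq ι] {F : Type*} [Field F] {Q : (ι → F) → F}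
variable (hQ : Cfsg.Geo.IsNondegenerateQuadraticForm Q)
include hQ

lemma pol_self_two [CharP F 2] (x : ι → F) : pol Q x x = 0 := by
  rw [pol_self hQ, CharTwo.two_eq_zero, zero_mul]

/-- a vector not perpendicular to either of two nonzero vectors -/
lemma exists_not_perp2 (x y : ι → F) (hx : x ≠ 0) (hy : y ≠ 0) :
    ∃ z, pol Q x z ≠ 0 ∧ pol Q y z ≠ 0 := by
  obtain ⟨-, ⟨a, ha⟩⟩ := hQ.nondegenerate x hx
  obtain ⟨-, ⟨b, hb⟩⟩ := hQ.nondegenerate y hy
  have ha' : pol Q x a ≠ 0 := ha
  have hb' : pol Q y b ≠ 0 := hb
  by_cases h1 : pol Q y a = 0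
  · by_cases h2 : pol Q x b = 0
    · refine ⟨a + b, ?_, ?_⟩
      · rw [pol_add_right hQ, h2, add_zero]; exact ha'
      · rw [pol_add_right hQ, h1, zero_add]; exact hb'
    · exact ⟨b, h2, hb'⟩
  · exact ⟨a, ha', h1⟩

/-- a nonsingular vector not perpendicular to either of two perpendicular independent nonsingular
vectors -/
lemma exists_nonsing_not_perp2 [Fintype F] [CharP F 2]
    (h : Fintype.card F ≠ 2 ∨ Fintype.card ι ≠ 4) (x y : ι → F) (hx : Q x ≠ 0) (hy : Q y ≠ 0)
    (hxy : pol Q x y = 0) (hind : y ∉ Submodule.span F {x}) :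
    ∃ z, Q z ≠ 0 ∧ pol Q x z ≠ 0 ∧ pol Q y z ≠ 0 := by
  classical
  have hx0 := ne_zero_of_Q_ne hQ x hx
  have hy0 := ne_zero_of_Q_ne hQ y hy
  obtain ⟨z0, hxz, hyz⟩ := exists_not_perp2 hQ x y hx0 hy0
  by_cases hz0 : Q z0 ≠ 0
  · exact ⟨z0, hz0, hxz, hyz⟩
  push Not at hz0
  by_cases hq : Fintype.card F = 2
  · -- the field with two elements: use the perp of the plane spanned by x, y
    have hn4 : Fintype.card ι ≠ 4 := h.resolve_left (fun h' => h' hq)
    set W := perp hQ (Submodule.span F {x, y}) with hW
    by_contra hcon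
    push Not at hcon
    -- every w ∈ W has Q w + pol z0 w = 0
    have hall : ∀ w ∈ W, Q w + pol Q z0 w = 0 := by
      intro w hw
      rw [hW, mem_perp_span_pair] at hw
      have h1 := hcon (z0 + w)
      have h2 : pol Q x (z0 + w) ≠ 0 := by rw [pol_add_right hQ, hw.1, add_zero]; exact hxz
      have h3 : pol Q y (z0 + w) ≠ 0 := by rw [pol_add_right hQ, hw.2, add_zero]; exact hyz
      by_contra h4
      have h5 : Q (z0 + w) ≠ 0 := by rw [Q_add Q, hz0, zero_add]; exact h4
      exact h3 (h1 h5 h2)
    have hle : W ≤ perp hQ W := by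
      intro a ha
      rw [mem_perp]
      intro b hb
      have h1 := hall a ha
      have h2 := hall b hb
      have h3 := hall (b + a) (W.add_mem hb ha)
      rw [Q_add Q, pol_add_right hQ] at h3
      linear_combination h3 - h1 - h2
    have hsub : Submodule.span F {x, y} ≤ W := by
      rw [Submodule.span_le]
      intro v hv
      rw [SetLike.mem_coe, hW, mem_perp_span_pair]
      rcases hv with rfl | rfl
      · exact ⟨pol_self_two hQ v, by rw [pol_comm]; exact hxy⟩
      · exact ⟨hxy, pol_self_two hQ v⟩
    have h2dim : Module.finrank F (Submodule.span F {x, y}) = 2 := by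
      have hli : LinearIndependent F ![x, y] := by
        rw [LinearIndependent.pair_iff]
        intro s t hst
        by_cases ht : t = 0
        · subst ht
          rw [zero_smul, add_zero] at hst
          rcases smul_eq_zero.1 hst with h' | h'
          · exact ⟨h', rfl⟩
          · exact absurd h' hx0
        · exfalso
          apply hind
          rw [Submodule.mem_span_singleton]
          refine ⟨-(t⁻¹ * s), ?_⟩
          have : t • y = -(s • x) := eq_neg_of_add_eq_zero_right hst
          have h5 : y = t⁻¹ • (t • y) := by rw [smul_smul, inv_mul_cancel₀ ht, one_smul]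
          rw [h5, this]
          module
      have h6 : Set.range ![x, y] = {x, y} := by
        ext v; simp [eq_comm, or_comm]
      have := finrank_span_eq_card hli
      rw [h6] at this
      simpa using this
    have h1 := Submodule.finrank_mono hle
    have h2 := finrank_perp hQ W
    have h3 := finrank_perp hQ (Submodule.span F {x, y})
    rw [← hW] at h3
    have h4 := Submodule.finrank_mono hsub
    have h5 : Module.finrank F W ≤ Fintype.card ι := by
      have := W.finrank_le
      rwa [Module.finrank_fintype_fun_eq_card] at this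
    omega
  · -- more than two elements: move z0 along x
    have hc : ∃ t : F, t ≠ 0 ∧ t * Q x + pol Q z0 x ≠ 0 := by
      by_contra hcon
      push Not at hcon
      have hsub : (Finset.univ : Finset F) ⊆ {0, -(Q x)⁻¹ * pol Q z0 x} := by
        intro t _
        by_cases ht : t = 0
        · simp [ht]
        · have := hcon t ht
          have : t = -(Q x)⁻¹ * pol Q z0 x := by
            field_simp
            linear_combination this
          simp [this]
      have h1 := Finset.card_le_card hsub
      rw [Finset.card_univ] at h1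
      have h2 : ({0, -(Q x)⁻¹ * pol Q z0 x} : Finset F).card ≤ 2 := Finset.card_le_two
      have h3 : 2 ≤ Fintype.card F := by
        have := Fintype.one_lt_card (α := F)
        omega
      omega
    obtain ⟨t, ht, htc⟩ := hc
    refine ⟨z0 + t • x, ?_, ?_, ?_⟩
    · rw [Q_add_smul hQ, hz0, zero_add]
      have : t ^ 2 * Q x + t * pol Q z0 x = t * (t * Q x + pol Q z0 x) := by ring
      rw [this]
      exact mul_ne_zero ht htc
    · rw [pol_add_right hQ, pol_smul_right hQ, pol_self_two hQ, mul_zero, add_zero]
      exact hxz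
    · rw [pol_add_right hQ, pol_smul_right hQ, pol_comm y x, hxy, mul_zero, add_zero]
      exact hyz

/-- in characteristic two the product of two reflections lies in `Ω` -/
theorem R_mul_R_mem [Fintype F] [CharP F 2]
    (h : Fintype.card F ≠ 2 ∨ Fintype.card ι ≠ 4) (x y : ι → F) (hx : Q x ≠ 0) (hy : Q y ≠ 0) :
    R hQ x * R hQ y ∈ Cfsg.Omega F Q := by
  have h2 : (2 : F) = 0 := CharTwo.two_eq_zero
  -- normalised version
  have key : ∀ x y : ι → F, Q x = 1 → Q y = 1 → pol Q x y ≠ 0 →
      R hQ x * R hQ y ∈ Cfsg.Omega F Q := by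
    intro x y hx hy hxy
    apply R_mul_R_mem_of_swap hQ x y (by rw [hx, hy])
    rw [Q_sub hQ, hx, hy]
    intro h0
    apply hxy
    linear_combination h2 - h0
  have hF : ringChar F = 2 := ringChar.eq F 2
  have norm : ∀ x : ι → F, Q x ≠ 0 → ∃ a : F, a ≠ 0 ∧ Q (a • x) = 1 := by
    intro x hx
    obtain ⟨a, ha⟩ := FiniteField.isSquare_of_char_two hF (Q x)⁻¹
    have ha0 : a ≠ 0 := by
      rintro rfl
      rw [mul_zero] at ha
      exact hx (inv_eq_zero.1 ha)
    exact ⟨a, ha0, by rw [hQ.smul, pow_two, ← ha, inv_mul_cancel₀ hx]⟩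
  have hR : ∀ (a : F) (x : ι → F), a ≠ 0 → R hQ (a • x) = R hQ x := by
    intro a x ha
    apply Subtype.ext
    exact rf_smul hQ a ha x
  obtain ⟨a, ha, hax⟩ := norm x hx
  obtain ⟨b, hb, hby⟩ := norm y hy
  rw [← hR a x ha, ← hR b y hb]
  set x' := a • x
  set y' := b • y
  by_cases hxy : pol Q x' y' ≠ 0
  · exact key x' y' hax hby hxy
  push Not at hxy
  by_cases hind : y' ∈ Submodule.span F {x'}
  · obtain ⟨c, hc⟩ := Submodule.mem_span_singleton.1 hind
    have hc0 : c ≠ 0 := by
      rintro rfl
      rw [zero_smul] at hc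
      rw [← hc, Q_zero hQ] at hby
      exact zero_ne_one hby
    rw [← hc, hR c x' hc0, R_mul_self]
    exact one_mem _
  · obtain ⟨z, hz, hxz, hyz⟩ := exists_nonsing_not_perp2 hQ h x' y'
      (by rw [hax]; exact one_ne_zero) (by rw [hby]; exact one_ne_zero) hxy hind
    obtain ⟨c, hc, hcz⟩ := norm z hz
    have h1 : R hQ x' * R hQ (c • z) ∈ Cfsg.Omega F Q := by
      apply key x' (c • z) hax hcz
      rw [pol_smul_right hQ]
      exact mul_ne_zero hc hxz
    have h3 : R hQ (c • z) * R hQ y' ∈ Cfsg.Omega F Q := by
      apply key (c • z) y' hcz hby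
      rw [pol_smul_left hQ, pol_comm]
      exact mul_ne_zero hc hyz
    have h4 : R hQ x' * R hQ y' = (R hQ x' * R hQ (c • z)) * (R hQ (c • z) * R hQ y') := by
      rw [mul_assoc, ← mul_assoc (R hQ (c • z)), R_mul_self, one_mul]
    rw [h4]
    exact mul_mem h1 h3

/-- in characteristic two, `Ω` is exactly the set of isometries with `rank (g - 1)` even -/
theorem mem_omega_iff_even_all [Fintype F] [CharP F 2]
    (h : Fintype.card F ≠ 2 ∨ Fintype.card ι ≠ 4) (t : ↥(Cfsg.isometryGroup F Q)) :
    t ∈ Cfsg.Omega F Q ↔ Even (((t : GL ι F) : Matrix ι ι F) - 1).rank := by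
  have hgen : Cfsg.isometryGroup F Q ≤ RR hQ := Cfsg.Agent.H9.Orth.iso_le_RR hQ h
  constructor
  · exact omega_par_gen hQ hgen t
  · intro ht
    set π := Abelianization.of (G := ↥(Cfsg.isometryGroup F Q)) with hπ
    have hker : ∀ g : ↥(Cfsg.isometryGroup F Q), π g = 1 ↔ g ∈ Cfsg.Omega F Q := by
      intro g
      rw [← MonoidHom.mem_ker, hπ, Abelianization.ker_of]
    by_cases hex : ∃ x0, Q x0 ≠ 0
    · obtain ⟨x0, hx0⟩ := hex
      have hρ : π (R hQ x0) * π (R hQ x0) = 1 := by rw [← map_mul, R_mul_self, map_one]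
      have key : ∀ g : ↥(Cfsg.isometryGroup F Q), π g = 1 ∨ π g = π (R hQ x0) := by
        intro g
        have hg : g ∈ Subgroup.closure {g : ↥(Cfsg.isometryGroup F Q) |
            ∃ x, Q x ≠ 0 ∧ (g : GL ι F) = rf hQ x} := by
          rw [closure_rf_eq_top_gen hQ hgen]; exact Subgroup.mem_top g
        induction hg using Subgroup.closure_induction with
        | mem g hgm =>
          right
          obtain ⟨x, hx, hgx⟩ := hgm
          have hg' : g = R hQ x := Subtype.ext hgx
          have h1 := (hker _).2 (R_mul_R_mem hQ h x0 x hx0 hx)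
          rw [map_mul] at h1
          rw [hg']
          have h2 : π (R hQ x) = (π (R hQ x0))⁻¹ := eq_inv_of_mul_eq_one_right h1
          rw [h2]
          exact inv_eq_of_mul_eq_one_left hρ
        | one => left; exact map_one _
        | mul a b _ _ iha ihb =>
          rw [map_mul]
          rcases iha with ha | ha <;> rcases ihb with hb | hb <;> rw [ha, hb]
          · left; rw [one_mul]
          · right; rw [one_mul]
          · right; rw [mul_one]
          · left; exact hρ
        | inv a _ iha =>
          rw [map_inv]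
          rcases iha with ha | ha <;> rw [ha]
          · left; rw [inv_one]
          · right; exact inv_eq_of_mul_eq_one_left hρ
      rcases key t with h1 | h1
      · exact (hker t).1 h1
      · exfalso
        have h2 : π (R hQ x0 * t) = 1 := by rw [map_mul, h1, hρ]
        have h3 := omega_par_gen hQ hgen (R hQ x0 * t) ((hker _).1 h2)
        have h4 : ((R hQ x0 * t : ↥(Cfsg.isometryGroup F Q)) : GL ι F) =
            rf hQ x0 * (t : GL ι F) := rfl
        rw [h4, par_rf_mul hQ _ t.2 x0 hx0] at h3
        exact h3 ht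
    · -- no nonsingular vectors: the group is trivial
      push Not at hex
      have htop : (⊤ : Subgroup ↥(Cfsg.isometryGroup F Q)) = ⊥ := by
        rw [← closure_rf_eq_top_gen hQ hgen, Subgroup.closure_eq_bot_iff]
        rintro g ⟨x, hx, -⟩
        exact absurd (hex x) hx
      have : t ∈ (⊥ : Subgroup ↥(Cfsg.isometryGroup F Q)) := by
        rw [← htop]; exact Subgroup.mem_top t
      rw [Subgroup.mem_bot] at this
      rw [this]
      exact one_mem _

end CharTwo

end Cfsg.Agent.Lib.Helper5.OrthPar
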