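import Mathlib
import Cfsg.Agent.Lib.Helper5.Orth.ParityTwoAll

set_option autoImplicit false
set_option linter.unusedSectionVars false
open Cfsg

/-!
Characteristic two, all dimensions (except `O₄(2)`): `Ω` has index two, is generated by the
products of two reflections, and is transitive on the vectors of a given nonzero norm.
-/

namespace Cfsg.Agent.Lib.Helper5.OrthPar

open Matrix Cfsg.Agent.H9.Orth Cfsg.Agent.Lib.Helper5.OrthTv
open scoped commutatorElement

section CharTwo

variable {ι : Type} [Fintype ι] [DecidableEq ι] {F : Type*} [Field F] {Q : (ι → F) → F}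
variable (hQ : Cfsg.Geo.IsNondegenerateQuadraticForm Q)
include hQ

lemma exists_nonsing [Nonempty ι] : ∃ x, Q x ≠ 0 := by
  obtain ⟨i⟩ := ‹Nonempty ι›
  have hv : (Pi.single i (1 : F) : ι → F) ≠ 0 := by
    intro h0
    have := congrFun h0 i
    simp at this
  obtain ⟨⟨y, hy⟩, -⟩ := hQ.nondegenerate _ hv
  by_contra hcon
  push Not at hcon
  apply hy
  rw [QuadraticMap.polar, hcon, hcon, hcon]
  ring

lemma par_mul_rf_right (hgen : Cfsg.isometryGroup F Q ≤ RR hQ) (g : GL ι F)
    (hg : g ∈ Cfsg.isometryGroup F Q) (x : ι → F) (hx : Q x ≠ 0) :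
    par (g * rf hQ x) ↔ ¬ par g := by
  rw [par_mul_gen hQ hgen g _ hg (rf_mem hQ x)]
  have := not_par_rf hQ x hx
  tauto

/-- in characteristic two `Ω` has index two in the isometry group -/
theorem omega_index_two [Fintype F] [CharP F 2] [Nonempty ι]
    (h : Fintype.card F ≠ 2 ∨ Fintype.card ι ≠ 4) : (Cfsg.Omega F Q).index = 2 := by
  have hgen : Cfsg.isometryGroup F Q ≤ RR hQ := Cfsg.Agent.H9.Orth.iso_le_RR hQ h
  obtain ⟨x0, hx0⟩ := exists_nonsing hQ
  rw [Subgroup.index_eq_two_iff]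
  refine ⟨R hQ x0, fun b => ?_⟩
  rw [mem_omega_iff_even_all hQ h, mem_omega_iff_even_all hQ h]
  have h1 : ((b * R hQ x0 : ↥(Cfsg.isometryGroup F Q)) : GL ι F) = (b : GL ι F) * rf hQ x0 := rfl
  have h2 := par_mul_rf_right hQ hgen (b : GL ι F) b.2 x0 hx0
  rw [h1]
  unfold par at h2
  unfold Xor
  tauto

/-- in characteristic two `Ω` is generated by the products of two reflections -/
theorem omega_eq_closure_pairs [Fintype F] [CharP F 2]
    (h : Fintype.card F ≠ 2 ∨ Fintype.card ι ≠ 4) :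
    Cfsg.Omega F Q = Subgroup.closure {g : ↥(Cfsg.isometryGroup F Q) |
      ∃ u v : ι → F, Q u ≠ 0 ∧ Q v ≠ 0 ∧ g = R hQ u * R hQ v} := by
  have hgen : Cfsg.isometryGroup F Q ≤ RR hQ := Cfsg.Agent.H9.Orth.iso_le_RR hQ h
  set C := Subgroup.closure {g : ↥(Cfsg.isometryGroup F Q) |
      ∃ u v : ι → F, Q u ≠ 0 ∧ Q v ≠ 0 ∧ g = R hQ u * R hQ v} with hC
  have hCle : C ≤ Cfsg.Omega F Q := by
    rw [hC, Subgroup.closure_le]
    rintro g ⟨u, v, hu, hv, rfl⟩
    exact R_mul_R_mem hQ h u v hu hv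
  apply le_antisymm _ hCle
  intro t ht
  by_cases hex : ∃ x0, Q x0 ≠ 0
  · obtain ⟨x0, hx0⟩ := hex
    have key : ∀ g : ↥(Cfsg.isometryGroup F Q), g ∈ C ∨ R hQ x0 * g ∈ C := by
      intro g
      have hg : g ∈ Subgroup.closure {g : ↥(Cfsg.isometryGroup F Q) |
          ∃ x, Q x ≠ 0 ∧ (g : GL ι F) = rf hQ x} := by
        rw [closure_rf_eq_top_gen hQ hgen]; exact Subgroup.mem_top g
      have step : ∀ x, Q x ≠ 0 → ∀ y : ↥(Cfsg.isometryGroup F Q),
          (y ∈ C ∨ R hQ x0 * y ∈ C) → (R hQ x * y ∈ C ∨ R hQ x0 * (R hQ x * y) ∈ C) := by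
        intro x hx y hy
        rcases hy with hy | hy
        · right
          rw [← mul_assoc]
          exact mul_mem (Subgroup.subset_closure ⟨x0, x, hx0, hx, rfl⟩) hy
        · left
          have : R hQ x * y = (R hQ x * R hQ x0) * (R hQ x0 * y) := by
            rw [mul_assoc, ← mul_assoc (R hQ x0), R_mul_self, one_mul]
          rw [this]
          exact mul_mem (Subgroup.subset_closure ⟨x, x0, hx, hx0, rfl⟩) hy
      induction hg using Subgroup.closure_induction_left with
      | one => left; exact one_mem _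
      | mul_left g hgm y _ ih =>
        obtain ⟨x, hx, hgx⟩ := hgm
        have hg' : g = R hQ x := Subtype.ext hgx
        rw [hg']
        exact step x hx y ih
      | inv_mul_cancel g hgm y _ ih =>
        obtain ⟨x, hx, hgx⟩ := hgm
        have hg' : g = R hQ x := Subtype.ext hgx
        rw [hg', R_inv]
        exact step x hx y ih
    rcases key t with h1 | h1
    · exact h1
    · exfalso
      have h3 := omega_par_gen hQ hgen (R hQ x0 * t) (hCle h1)
      have h4 : ((R hQ x0 * t : ↥(Cfsg.isometryGroup F Q)) : GL ι F) =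
          rf hQ x0 * (t : GL ι F) := rfl
      rw [h4, par_rf_mul hQ _ t.2 x0 hx0] at h3
      exact h3 (omega_par_gen hQ hgen t ht)
  · push Not at hex
    have htop : (⊤ : Subgroup ↥(Cfsg.isometryGroup F Q)) = ⊥ := by
      rw [← closure_rf_eq_top_gen hQ hgen, Subgroup.closure_eq_bot_iff]
      rintro g ⟨x, hx, -⟩
      exact absurd (hex x) hx
    have : t ∈ (⊥ : Subgroup ↥(Cfsg.isometryGroup F Q)) := by
      rw [← htop]; exact Subgroup.mem_top t
    rw [Subgroup.mem_bot] at this
    rw [this]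
    exact one_mem _

/-- in characteristic two `Ω` is transitive on the vectors of a given nonzero norm -/
theorem omega_trans_norm [Fintype F] [CharP F 2]
    (h : Fintype.card F ≠ 2 ∨ Fintype.card ι ≠ 4) (x y : ι → F) (hx : Q x ≠ 0)
    (hxy : Q y = Q x) :
    ∃ g : ↥(Cfsg.isometryGroup F Q), g ∈ Cfsg.Omega F Q ∧ act (g : GL ι F) x = y := by
  have h2 : (2 : F) = 0 := CharTwo.two_eq_zero
  have hy : Q y ≠ 0 := by rw [hxy]; exact hx
  -- the basic step
  have key : ∀ x y : ι → F, Q x ≠ 0 → Q y = Q x → pol Q x y ≠ 0 →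
      ∃ g : ↥(Cfsg.isometryGroup F Q), g ∈ Cfsg.Omega F Q ∧ act (g : GL ι F) x = y := by
    intro x y hx hxy hpol
    have hy : Q y ≠ 0 := by rw [hxy]; exact hx
    have hsub : Q (x - y) ≠ 0 := by
      rw [Q_sub hQ, hxy]
      intro h0
      apply hpol
      linear_combination (Q x) * h2 - h0
    refine ⟨R hQ y * R hQ (x - y), R_mul_R_mem hQ h _ _ hy hsub, ?_⟩
    show act (rf hQ y * rf hQ (x - y)) x = y
    rw [act_mul, act_rf_sub hQ x y hxy.symm hsub, act_rf hQ y hy, pol_self_two hQ, mul_zero,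
      zero_smul, sub_zero]
  by_cases hpol : pol Q x y ≠ 0
  · exact key x y hx hxy hpol
  push Not at hpol
  by_cases hind : y ∈ Submodule.span F {x}
  · obtain ⟨c, hc⟩ := Submodule.mem_span_singleton.1 hind
    have hc1 : c = 1 := by
      have h3 : c ^ 2 * Q x = Q x := by rw [← hQ.smul, hc, hxy]
      have h4 : c ^ 2 = 1 := by
        have := mul_right_cancel₀ hx (h3.trans (one_mul _).symm)
        exact this
      have h5 : (c - 1) ^ 2 = 0 := by
        have : (c - 1) ^ 2 = c ^ 2 - 2 * c + 1 := by ring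
        rw [this, h4, h2]; ring_nf
        linear_combination h2
      have := pow_eq_zero_iff (two_ne_zero) |>.1 h5
      exact sub_eq_zero.1 this
    refine ⟨1, one_mem _, ?_⟩
    rw [← hc, hc1, one_smul]
    exact act_one x
  · obtain ⟨z, hz, hxz, hyz⟩ := exists_nonsing_not_perp2 hQ h x y hx hy hpol hind
    -- rescale z to the norm of x
    have hF : ringChar F = 2 := ringChar.eq F 2
    obtain ⟨a, ha⟩ := FiniteField.isSquare_of_char_two hF (Q x * (Q z)⁻¹)
    have ha0 : a ≠ 0 := by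
      rintro rfl
      rw [mul_zero] at ha
      exact (mul_ne_zero hx (inv_ne_zero hz)) ha
    have hqz : Q (a • z) = Q x := by
      rw [hQ.smul, pow_two, ← ha]
      field_simp
    obtain ⟨g1, hg1, hg1x⟩ := key x (a • z) hx hqz (by
      rw [pol_smul_right hQ]; exact mul_ne_zero ha0 hxz)
    obtain ⟨g2, hg2, hg2z⟩ := key (a • z) y (by rw [hqz]; exact hx) (by rw [hqz, hxy]) (by
      rw [pol_smul_left hQ, pol_comm]; exact mul_ne_zero ha0 hyz)
    refine ⟨g2 * g1, mul_mem hg2 hg1, ?_⟩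
    show act ((g2 : GL ι F) * (g1 : GL ι F)) x = y
    rw [act_mul, hg1x, hg2z]

end CharTwo

end Cfsg.Agent.Lib.Helper5.OrthPar
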