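import Mathlib
import Cfsg.Prelude.Def_GeometricClasses
import Cfsg.Prelude.Def_Classical

set_option autoImplicit false
set_option linter.unusedSectionVars false
open Cfsg

/-!
The explicit quadratic forms `quadFormPlus` (any field) and `quadFormMinus` (when the binary part
has nonzero discriminant) are nondegenerate in the sense of `IsNondegenerateQuadraticForm`.
-/

namespace Cfsg.Agent.Lib.Helper5.OrthPM

open Matrix

section Plus

variable {F : Type*} [Field F] (m : ℕ)

lemma polar_quadFormPlus (v w : Fin m ⊕ Fin m → F) :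
    QuadraticMap.polar (Cfsg.quadFormPlus m F) v w =
        ∑ i : Fin m, (v (.inl i) * w (.inr i) + w (.inl i) * v (.inr i)) := by
  unfold QuadraticMap.polar Cfsg.quadFormPlus
  simp only [Pi.add_apply]
  have hs : ∑ i : Fin m, (v (.inl i) + w (.inl i)) *
      (v (.inr i) + w (.inr i)) =
      ∑ i : Fin m, v (.inl i) * v (.inr i) +
        ∑ i : Fin m, w (.inl i) * w (.inr i) +
          ∑ i : Fin m, (v (.inl i) * w (.inr i) +
            w (.inl i) * v (.inr i)) := by
    rw [← Finset.sum_add_distrib, ← Finset.sum_add_distrib]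
    apply Finset.sum_congr rfl; intro i _; ring
  rw [hs]; ring

lemma quadFormPlus_nondeg :
    Cfsg.Geo.IsNondegenerateQuadraticForm (Cfsg.quadFormPlus m F) := by
  refine ⟨fun c v => ?_, ⟨?_, ?_, ?_, ?_⟩, fun v hv => ?_⟩
  · unfold Cfsg.quadFormPlus
    simp only [Pi.smul_apply, smul_eq_mul]
    rw [Finset.mul_sum]
    apply Finset.sum_congr rfl; intro i _; ring
  · intro x y v
    simp only [polar_quadFormPlus, Pi.add_apply]
    rw [← Finset.sum_add_distrib]
    apply Finset.sum_congr rfl; intro i _; ring
  · intro c x v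
    simp only [polar_quadFormPlus, Pi.smul_apply, smul_eq_mul]
    rw [Finset.mul_sum]
    apply Finset.sum_congr rfl; intro i _; ring
  · intro v x y
    simp only [polar_quadFormPlus, Pi.add_apply]
    rw [← Finset.sum_add_distrib]
    apply Finset.sum_congr rfl; intro i _; ring
  · intro c v x
    simp only [polar_quadFormPlus, Pi.smul_apply, smul_eq_mul]
    rw [Finset.mul_sum]
    apply Finset.sum_congr rfl; intro i _; ring
  · have hex : ∃ j, v j ≠ 0 := by
      by_contra hcon
      push Not at hcon
      exact hv (funext hcon)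
    have key : ∃ x, QuadraticMap.polar (Cfsg.quadFormPlus m F) x v ≠ 0 := by
      obtain ⟨j, hj⟩ := hex
      rcases j with i | i
      · refine ⟨Pi.single (.inr i) 1, ?_⟩
        rw [polar_quadFormPlus]
        simp [Pi.single_apply, Finset.sum_ite_eq', hj]
      · refine ⟨Pi.single (.inl i) 1, ?_⟩
        rw [polar_quadFormPlus]
        simp [Pi.single_apply, Finset.sum_ite_eq', hj]
    obtain ⟨x, hx⟩ := key
    exact ⟨⟨x, hx⟩, ⟨x, by rw [QuadraticMap.polar_comm]; exact hx⟩⟩

end Plus

section Minus

variable {F : Type*} [Field F] (m : ℕ) (a b : F)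

lemma polar_quadFormMinus (v w : (Fin m ⊕ Fin m) ⊕ Fin 2 → F) :
    QuadraticMap.polar (Cfsg.quadFormMinus m F a b) v w =
        ∑ i : Fin m, (v (.inl (.inl i)) * w (.inl (.inr i)) + w (.inl (.inl i)) * v (.inl (.inr i)))
        + (2 * v (.inr 0) * w (.inr 0) + a * (v (.inr 0) * w (.inr 1) + w (.inr 0) * v (.inr 1))
          + 2 * b * v (.inr 1) * w (.inr 1)) := by
  unfold QuadraticMap.polar Cfsg.quadFormMinus
  simp only [Pi.add_apply]
  have hs : ∑ i : Fin m, (v (.inl (.inl i)) + w (.inl (.inl i))) *
      (v (.inl (.inr i)) + w (.inl (.inr i))) =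
      ∑ i : Fin m, v (.inl (.inl i)) * v (.inl (.inr i)) +
        ∑ i : Fin m, w (.inl (.inl i)) * w (.inl (.inr i)) +
          ∑ i : Fin m, (v (.inl (.inl i)) * w (.inl (.inr i)) +
            w (.inl (.inl i)) * v (.inl (.inr i))) := by
    rw [← Finset.sum_add_distrib, ← Finset.sum_add_distrib]
    apply Finset.sum_congr rfl; intro i _; ring
  rw [hs]; ring

lemma quadFormMinus_nondeg (hab : 4 * b - a ^ 2 ≠ 0) :
    Cfsg.Geo.IsNondegenerateQuadraticForm (Cfsg.quadFormMinus m F a b) := by
  refine ⟨fun c v => ?_, ⟨?_, ?_, ?_, ?_⟩, fun v hv => ?_⟩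
  · unfold Cfsg.quadFormMinus
    simp only [Pi.smul_apply, smul_eq_mul]
    rw [mul_add, Finset.mul_sum]
    congr 1
    · apply Finset.sum_congr rfl; intro i _; ring
    · ring
  · intro x y v
    simp only [polar_quadFormMinus, Pi.add_apply]
    rw [show ∀ p q r s : F, p + q + (r + s) = (p + r) + (q + s) from fun p q r s => by ring,
      ← Finset.sum_add_distrib]
    congr 1
    · apply Finset.sum_congr rfl; intro i _; ring
    · ring
  · intro c x v
    simp only [polar_quadFormMinus, Pi.smul_apply, smul_eq_mul]
    rw [mul_add c, Finset.mul_sum]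
    congr 1
    · apply Finset.sum_congr rfl; intro i _; ring
    · ring
  · intro v x y
    simp only [polar_quadFormMinus, Pi.add_apply]
    rw [show ∀ p q r s : F, p + q + (r + s) = (p + r) + (q + s) from fun p q r s => by ring,
      ← Finset.sum_add_distrib]
    congr 1
    · apply Finset.sum_congr rfl; intro i _; ring
    · ring
  · intro c v x
    simp only [polar_quadFormMinus, Pi.smul_apply, smul_eq_mul]
    rw [mul_add c, Finset.mul_sum]
    congr 1
    · apply Finset.sum_congr rfl; intro i _; ring
    · ring
  · have key : ∃ x, QuadraticMap.polar (Cfsg.quadFormMinus m F a b) x v ≠ 0 := by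
      by_contra hcon
      push Not at hcon
      apply hv
      have h0 := hcon (Pi.single (.inr 0) 1)
      have h1 := hcon (Pi.single (.inr 1) 1)
      rw [polar_quadFormMinus] at h0 h1
      simp [Pi.single_apply] at h0 h1
      have hv1 : v (.inr 1) = 0 := by
        have : (4 * b - a ^ 2) * v (.inr 1) = 0 := by linear_combination 2 * h1 - a * h0
        exact (mul_eq_zero.1 this).resolve_left hab
      have hv0 : v (.inr 0) = 0 := by
        have : (4 * b - a ^ 2) * v (.inr 0) = 0 := by linear_combination 2 * b * h0 - a * h1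
        exact (mul_eq_zero.1 this).resolve_left hab
      funext j
      rcases j with (i | i) | i
      · have := hcon (Pi.single (.inl (.inr i)) 1)
        rw [polar_quadFormMinus] at this
        simpa [Pi.single_apply, Finset.sum_ite_eq'] using this
      · have := hcon (Pi.single (.inl (.inl i)) 1)
        rw [polar_quadFormMinus] at this
        simpa [Pi.single_apply, Finset.sum_ite_eq'] using this
      · fin_cases i
        · exact hv0
        · exact hv1
    obtain ⟨x, hx⟩ := key
    exact ⟨⟨x, hx⟩, ⟨x, by rw [QuadraticMap.polar_comm]; exact hx⟩⟩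

lemma quadFormMinus_nondeg_two :
    Cfsg.Geo.IsNondegenerateQuadraticForm (Cfsg.quadFormMinus m (ZMod 2) 1 1) :=
  quadFormMinus_nondeg m 1 1 (by decide)

end Minus

end Cfsg.Agent.Lib.Helper5.OrthPM
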