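import Mathlib
import Cfsg.Agent.Lib.Helper5.Orth.Family2
import Cfsg.Agent.Lib.Helper5.Orth.ParityTwoMain
import Cfsg.Agent.Lib.Helper5.Orth.PlusMinusForm

set_option autoImplicit false
set_option linter.unusedSectionVars false
open Cfsg

/-!
The determinant of a reflection, `par g ↔ det g = 1` in odd characteristic, and the standard
maximal totally singular subspace of the hyperbolic form `Σ xᵢ yᵢ`.
-/

namespace Cfsg.Agent.Lib.Helper5.OrthPar

open Matrix Cfsg.Agent.H9.Orth Cfsg.Agent.Lib.Helper5.OrthTv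

section Det

variable {ι : Type} [Fintype ι] [DecidableEq ι] {F : Type*} [Field F] {Q : (ι → F) → F}
variable (hQ : Cfsg.Geo.IsNondegenerateQuadraticForm Q)
include hQ

lemma det_rf (x : ι → F) (hx : Q x ≠ 0) : ((rf hQ x : GL ι F) : Matrix ι ι F).det = -1 := by
  rw [← reflectionMatrix_eq_rf hQ x hx]
  unfold Cfsg.reflectionMatrix
  rw [sub_eq_add_neg, ← neg_smul, ← Matrix.smul_vecMulVec,
    Matrix.vecMulVec_eq (ι := Unit), Matrix.det_one_add_replicateCol_mul_replicateRow,
    dotProduct_smul, polarVec_dot hQ, pol_self hQ]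
  simp only [smul_eq_mul]
  field_simp
  ring

/-- in odd characteristic the parity of `rank (g - 1)` is the determinant -/
theorem par_iff_det (h2 : (2 : F) ≠ 0) (hgen : Cfsg.isometryGroup F Q ≤ RR hQ) (g : GL ι F)
    (hg : g ∈ Cfsg.isometryGroup F Q) : par g ↔ (g : Matrix ι ι F).det = 1 := by
  have hne : (1 : F) ≠ -1 := by
    intro h
    apply h2
    linear_combination h
  have hgR : g ∈ RR hQ := hgen hg
  have key : ∀ g (_ : g ∈ RR hQ), g ∈ Cfsg.isometryGroup F Q ∧
      ((par g ∧ (g : Matrix ι ι F).det = 1) ∨ (¬ par g ∧ (g : Matrix ι ι F).det = -1)) := by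
    intro g hgR
    have step : ∀ (x : ι → F) (y : GL ι F), (y ∈ Cfsg.isometryGroup F Q ∧
        ((par y ∧ (y : Matrix ι ι F).det = 1) ∨ (¬ par y ∧ (y : Matrix ι ι F).det = -1))) →
        (rf hQ x * y ∈ Cfsg.isometryGroup F Q ∧
        ((par (rf hQ x * y) ∧ ((rf hQ x * y : GL ι F) : Matrix ι ι F).det = 1) ∨
          (¬ par (rf hQ x * y) ∧ ((rf hQ x * y : GL ι F) : Matrix ι ι F).det = -1))) := by
      intro x y ⟨hyO, hy⟩
      by_cases hx : Q x ≠ 0
      · refine ⟨mul_mem (rf_mem hQ x) hyO, ?_⟩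
        rw [par_rf_mul hQ y hyO x hx, Units.val_mul, Matrix.det_mul, det_rf hQ x hx]
        rcases hy with ⟨h1, h3⟩ | ⟨h1, h3⟩
        · right
          exact ⟨not_not.2 h1, by rw [h3]; ring⟩
        · left
          exact ⟨h1, by rw [h3]; ring⟩
      · rw [rf_of_not hQ x hx, one_mul]
        exact ⟨hyO, hy⟩
    unfold RR at hgR
    induction hgR using Subgroup.closure_induction_left with
    | one =>
      refine ⟨one_mem _, Or.inl ⟨par_one, ?_⟩⟩
      simp
    | mul_left a ha y _ ih =>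
      obtain ⟨x, rfl⟩ := ha
      exact step x y ih
    | inv_mul_cancel a ha y _ ih =>
      obtain ⟨x, rfl⟩ := ha
      rw [rf_inv]
      exact step x y ih
  rcases (key g hgR).2 with ⟨h1, h3⟩ | ⟨h1, h3⟩
  · exact ⟨fun _ => h3, fun _ => h1⟩
  · constructor
    · intro h; exact absurd h h1
    · intro h
      rw [h3] at h
      exact absurd h.symm hne

end Det

section Plus

variable {F : Type*} [Field F] (m : ℕ)

/-- the standard maximal totally singular subspace `{y = 0}` -/
abbrev stdU : Submodule F (Fin m ⊕ Fin m → F) :=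
  LinearMap.ker (LinearMap.funLeft F F (Sum.inr : Fin m → Fin m ⊕ Fin m))

lemma mem_stdU (v : Fin m ⊕ Fin m → F) : v ∈ stdU (F := F) m ↔ ∀ i, v (Sum.inr i) = 0 := by
  rw [LinearMap.mem_ker]
  constructor
  · intro h i
    exact congrFun h i
  · intro h
    funext i
    exact h i

lemma stdU_maxTS : IsMaxTS (Cfsg.quadFormPlus m F) (stdU (F := F) m) := by
  constructor
  · intro v hv
    rw [mem_stdU] at hv
    unfold Cfsg.quadFormPlus
    apply Finset.sum_eq_zero
    intro i _
    rw [hv i, mul_zero]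
  · have h1 := LinearMap.finrank_range_add_finrank_ker
      (LinearMap.funLeft F F (Sum.inr : Fin m → Fin m ⊕ Fin m))
    have h2 : LinearMap.range (LinearMap.funLeft F F (Sum.inr : Fin m → Fin m ⊕ Fin m)) = ⊤ :=
      LinearMap.range_eq_top.2
        (LinearMap.funLeft_surjective_of_injective F F _ Sum.inr_injective)
    rw [h2, finrank_top, Module.finrank_fintype_fun_eq_card, Module.finrank_fintype_fun_eq_card,
      Fintype.card_fin, Fintype.card_sum, Fintype.card_fin] at h1
    rw [Fintype.card_sum, Fintype.card_fin]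
    show 2 * Module.finrank F ↥(LinearMap.ker
      (LinearMap.funLeft F F (Sum.inr : Fin m → Fin m ⊕ Fin m))) = m + m
    omega

lemma stdU_map (g : GL (Fin m ⊕ Fin m) F) :
    (stdU (F := F) m).map (Matrix.mulVecLin (g : Matrix (Fin m ⊕ Fin m) (Fin m ⊕ Fin m) F)) =
      mapS g (stdU (F := F) m) := by
  rw [mapS, Matrix.toLin'_apply']

/-- odd characteristic: an isometry preserves the family of `{y = 0}` iff it has determinant one -/
theorem plus_family_det [Fintype F] (h2 : (2 : F) ≠ 0)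
    (g : ↥(Cfsg.isometryGroup F (Cfsg.quadFormPlus m F))) :
    Even (m - Module.finrank F ↥(stdU (F := F) m ⊓ (stdU (F := F) m).map (Matrix.mulVecLin
      ((g : GL (Fin m ⊕ Fin m) F) : Matrix (Fin m ⊕ Fin m) (Fin m ⊕ Fin m) F)))) ↔
      ((g : GL (Fin m ⊕ Fin m) F) : Matrix (Fin m ⊕ Fin m) (Fin m ⊕ Fin m) F).det = 1 := by
  have hQ := Cfsg.Agent.Lib.Helper5.OrthPM.quadFormPlus_nondeg (F := F) m
  have hq : Fintype.card F ≠ 2 := by
    intro h
    apply h2
    have := Nat.cast_card_eq_zero F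
    rw [h] at this
    exact_mod_cast this
  have hgen : Cfsg.isometryGroup F (Cfsg.quadFormPlus m F) ≤ RR hQ :=
    Cfsg.Agent.H9.Orth.iso_le_RR hQ (Or.inl hq)
  rw [stdU_map, family_parity hQ hgen _ m (by rw [Fintype.card_sum, Fintype.card_fin]; ring)
    (stdU_maxTS m) _ g.2, par_iff_det hQ h2 hgen _ g.2]

/-- characteristic two: an isometry preserves the family of `{y = 0}` iff it lies in `Ω` -/
theorem plus_family_omega [Fintype F] [CharP F 2] (h : Fintype.card F ≠ 2 ∨ m ≠ 2)
    (g : ↥(Cfsg.isometryGroup F (Cfsg.quadFormPlus m F))) :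
    Even (m - Module.finrank F ↥(stdU (F := F) m ⊓ (stdU (F := F) m).map (Matrix.mulVecLin
      ((g : GL (Fin m ⊕ Fin m) F) : Matrix (Fin m ⊕ Fin m) (Fin m ⊕ Fin m) F)))) ↔
      g ∈ Cfsg.Omega F (Cfsg.quadFormPlus m F) := by
  have hQ := Cfsg.Agent.Lib.Helper5.OrthPM.quadFormPlus_nondeg (F := F) m
  have h' : Fintype.card F ≠ 2 ∨ Fintype.card (Fin m ⊕ Fin m) ≠ 4 := by
    rcases h with h | h
    · exact Or.inl h
    · right
      rw [Fintype.card_sum, Fintype.card_fin]
      omega
  have hgen : Cfsg.isometryGroup F (Cfsg.quadFormPlus m F) ≤ RR hQ :=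
    Cfsg.Agent.H9.Orth.iso_le_RR hQ h'
  rw [stdU_map, family_parity hQ hgen _ m (by rw [Fintype.card_sum, Fintype.card_fin]; ring)
    (stdU_maxTS m) _ g.2, mem_omega_iff_even_all hQ h']
  rfl

end Plus

end Cfsg.Agent.Lib.Helper5.OrthPar
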