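import Mathlib
import Cfsg.Agent.Lib.Helper5.Orth.PlusFamily

set_option autoImplicit false
set_option linter.unusedSectionVars false
open Cfsg

/-!
For `m` even, the isometry of `Σ xᵢ yᵢ` interchanging the two standard maximal totally singular
subspaces is a commutator of two permutation isometries; for `m` odd no element of `Ω` interchanges
them.
-/

namespace Cfsg.Agent.Lib.Helper5.OrthPar

open Matrix Cfsg.Agent.H9.Orth Cfsg.Agent.Lib.Helper5.OrthTv
open scoped commutatorElement

section Perm

variable {ι : Type} [Fintype ι] [DecidableEq ι] {F : Type*} [Field F]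

/-- the permutation matrix of an involution of the index set, as an element of `GL` -/
noncomputable def permGL (f : ι → ι) (hf : Function.Involutive f) : GL ι F :=
  ofLin (LinearEquiv.funCongrLeft F F (hf.toPerm f))

lemma act_permGL (f : ι → ι) (hf : Function.Involutive f) (v : ι → F) :
    act (permGL (F := F) f hf) v = v ∘ f := by
  rw [permGL, act_ofLin]
  rfl

lemma permGL_mul_self (f : ι → ι) (hf : Function.Involutive f) :
    permGL (F := F) f hf * permGL f hf = 1 := by
  apply gl_ext
  intro v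
  rw [act_mul, act_permGL, act_permGL, act_one]
  funext x
  simp only [Function.comp_apply, hf x]

lemma permGL_inv (f : ι → ι) (hf : Function.Involutive f) :
    (permGL (F := F) f hf)⁻¹ = permGL f hf :=
  inv_eq_of_mul_eq_one_left (permGL_mul_self f hf)

lemma permGL_mem (Q : (ι → F) → F) (f : ι → ι) (hf : Function.Involutive f)
    (h : ∀ v : ι → F, Q (v ∘ f) = Q v) : permGL (F := F) f hf ∈ Cfsg.isometryGroup F Q := by
  rw [mem_isometryGroup_iff]
  intro v
  rw [act_permGL]
  exact h v

end Perm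

section Swap

variable {F : Type*} [Field F] (k : ℕ)

/-- the fixed-point-free involution `i ↦ i ± k` of `Fin (k + k)` -/
def piF (i : Fin (k + k)) : Fin (k + k) :=
  if h : (i : ℕ) < k then ⟨i + k, by omega⟩ else ⟨i - k, by omega⟩

lemma piF_val (i : Fin (k + k)) :
    ((piF k i : Fin (k + k)) : ℕ) = if (i : ℕ) < k then (i : ℕ) + k else (i : ℕ) - k := by
  unfold piF
  split_ifs <;> rfl

lemma piF_invol : Function.Involutive (piF k) := by
  intro i
  apply Fin.ext
  rw [piF_val, piF_val]
  have := i.2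
  split_ifs <;> omega

lemma piF_lt (i : Fin (k + k)) : ((piF k i : Fin (k + k)) : ℕ) < k ↔ ¬ ((i : ℕ) < k) := by
  rw [piF_val]
  have := i.2
  split_ifs <;> omega

/-- swap the hyperbolic pairs with index `< k` -/
def aF : Fin (k + k) ⊕ Fin (k + k) → Fin (k + k) ⊕ Fin (k + k)
  | Sum.inl i => if (i : ℕ) < k then Sum.inr i else Sum.inl i
  | Sum.inr i => if (i : ℕ) < k then Sum.inl i else Sum.inr i

/-- permute the hyperbolic pairs by `piF` -/
def bF : Fin (k + k) ⊕ Fin (k + k) → Fin (k + k) ⊕ Fin (k + k)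
  | Sum.inl i => Sum.inl (piF k i)
  | Sum.inr i => Sum.inr (piF k i)

lemma aF_invol : Function.Involutive (aF k) := by
  rintro (i | i)
  · by_cases h : (i : ℕ) < k <;> simp [aF, h]
  · by_cases h : (i : ℕ) < k <;> simp [aF, h]

lemma bF_invol : Function.Involutive (bF k) := by
  rintro (i | i)
  · simp [bF, piF_invol k i]
  · simp [bF, piF_invol k i]

lemma baba (x : Fin (k + k) ⊕ Fin (k + k)) : aF k (bF k (aF k (bF k x))) = Sum.swap x := by
  rcases x with i | i
  · by_cases h : (i : ℕ) < k
    · have h' : ¬ ((piF k i : Fin (k + k)) : ℕ) < k := by rw [piF_lt]; exact not_not.2 h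
      simp [aF, bF, h, h', piF_invol k i]
    · have h' : ((piF k i : Fin (k + k)) : ℕ) < k := by rw [piF_lt]; exact h
      simp [aF, bF, h, h', piF_invol k i]
  · by_cases h : (i : ℕ) < k
    · have h' : ¬ ((piF k i : Fin (k + k)) : ℕ) < k := by rw [piF_lt]; exact not_not.2 h
      simp [aF, bF, h, h', piF_invol k i]
    · have h' : ((piF k i : Fin (k + k)) : ℕ) < k := by rw [piF_lt]; exact h
      simp [aF, bF, h, h', piF_invol k i]

lemma Q_comp_aF (v : Fin (k + k) ⊕ Fin (k + k) → F) :
    Cfsg.quadFormPlus (k + k) F (v ∘ aF k) = Cfsg.quadFormPlus (k + k) F v := by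
  unfold Cfsg.quadFormPlus
  apply Finset.sum_congr rfl
  intro i _
  by_cases h : (i : ℕ) < k
  · simp [aF, h, mul_comm]
  · simp [aF, h]

lemma Q_comp_bF (v : Fin (k + k) ⊕ Fin (k + k) → F) :
    Cfsg.quadFormPlus (k + k) F (v ∘ bF k) = Cfsg.quadFormPlus (k + k) F v := by
  unfold Cfsg.quadFormPlus
  have := Equiv.sum_comp ((piF_invol k).toPerm (piF k))
    (fun i => v (Sum.inl i) * v (Sum.inr i))
  simpa [bF] using this

/-- for `m = k + k` some element of `Ω` interchanges the two standard subspaces -/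
theorem exists_swap_omega :
    ∃ g : ↥(Cfsg.isometryGroup F (Cfsg.quadFormPlus (k + k) F)),
      g ∈ Cfsg.Omega F (Cfsg.quadFormPlus (k + k) F) ∧
      ∀ v : Fin (k + k) ⊕ Fin (k + k) → F,
        act (g : GL (Fin (k + k) ⊕ Fin (k + k)) F) v = v ∘ Sum.swap := by
  set A : ↥(Cfsg.isometryGroup F (Cfsg.quadFormPlus (k + k) F)) :=
    ⟨permGL (aF k) (aF_invol k), permGL_mem _ _ _ (Q_comp_aF k)⟩ with hA
  set B : ↥(Cfsg.isometryGroup F (Cfsg.quadFormPlus (k + k) F)) :=
    ⟨permGL (bF k) (bF_invol k), permGL_mem _ _ _ (Q_comp_bF k)⟩ with hB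
  refine ⟨⁅B, A⁆, ?_, ?_⟩
  · unfold Cfsg.Omega
    rw [commutator_def]
    exact Subgroup.commutator_mem_commutator (Subgroup.mem_top _) (Subgroup.mem_top _)
  · intro v
    have h1 : ((⁅B, A⁆ : ↥(Cfsg.isometryGroup F (Cfsg.quadFormPlus (k + k) F))) :
        GL (Fin (k + k) ⊕ Fin (k + k)) F) =
        permGL (bF k) (bF_invol k) * permGL (aF k) (aF_invol k) *
          (permGL (bF k) (bF_invol k))⁻¹ * (permGL (aF k) (aF_invol k))⁻¹ := by
      rw [commutatorElement_def]
      rfl
    rw [h1, permGL_inv, permGL_inv, act_mul, act_mul, act_mul, act_permGL, act_permGL, act_permGL,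
      act_permGL]
    funext x
    simp only [Function.comp_apply]
    rw [baba]

end Swap

end Cfsg.Agent.Lib.Helper5.OrthPar
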