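import Mathlib
import Cfsg.Agent.Lib.Helper5.Orth.PlusSwap

set_option autoImplicit false
set_option linter.unusedSectionVars false
open Cfsg

/-!
Orthogonal direct sums of quadratic forms, block-diagonal isometries, and: every square of an
isometry lies in `Ω` (when the reflections generate); `diag(g, g) ∈ Ω(Q ⊕ Q)`.
-/

namespace Cfsg.Agent.Lib.Helper5.OrthPar

open Matrix Cfsg.Agent.H9.Orth Cfsg.Agent.Lib.Helper5.OrthTv
open scoped commutatorElement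

section Sq

variable {ι : Type} [Fintype ι] [DecidableEq ι] {F : Type*} [Field F] {Q : (ι → F) → F}
variable (hQ : Cfsg.Geo.IsNondegenerateQuadraticForm Q)
include hQ

/-- the square of every isometry lies in `Ω` -/
theorem sq_mem_omega (hgen : Cfsg.isometryGroup F Q ≤ RR hQ) (x : ↥(Cfsg.isometryGroup F Q)) :
    x * x ∈ Cfsg.Omega F Q := by
  set π := Abelianization.of (G := ↥(Cfsg.isometryGroup F Q)) with hπ
  have hker : ∀ g : ↥(Cfsg.isometryGroup F Q), π g = 1 ↔ g ∈ Cfsg.Omega F Q := by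
    intro g
    rw [← MonoidHom.mem_ker, hπ, Abelianization.ker_of]
  rw [← hker, map_mul]
  have hx : x ∈ Subgroup.closure {g : ↥(Cfsg.isometryGroup F Q) |
      ∃ x, Q x ≠ 0 ∧ (g : GL ι F) = rf hQ x} := by
    rw [closure_rf_eq_top_gen hQ hgen]; exact Subgroup.mem_top x
  induction hx using Subgroup.closure_induction with
  | mem g hgm =>
    obtain ⟨v, hv, hgv⟩ := hgm
    have hg' : g = R hQ v := Subtype.ext hgv
    rw [hg', ← map_mul, R_mul_self, map_one]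
  | one => rw [map_one, one_mul]
  | mul a b _ _ iha ihb =>
    rw [map_mul]
    calc π a * π b * (π a * π b) = (π a * π a) * (π b * π b) := by
          rw [mul_mul_mul_comm]
      _ = 1 := by rw [iha, ihb, one_mul]
  | inv a _ iha =>
    rw [map_inv, ← _root_.mul_inv_rev, iha, inv_one]

end Sq

section Sum

variable {ι₁ ι₂ : Type} [Fintype ι₁] [DecidableEq ι₁] [Fintype ι₂] [DecidableEq ι₂]
variable {F : Type*} [Field F]

/-- the orthogonal direct sum of two quadratic forms -/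
abbrev sumForm (Q₁ : (ι₁ → F) → F) (Q₂ : (ι₂ → F) → F) : (ι₁ ⊕ ι₂ → F) → F :=
  fun v => Q₁ (v ∘ Sum.inl) + Q₂ (v ∘ Sum.inr)

lemma polar_sumForm (Q₁ : (ι₁ → F) → F) (Q₂ : (ι₂ → F) → F) (v w : ι₁ ⊕ ι₂ → F) :
    QuadraticMap.polar (sumForm Q₁ Q₂) v w =
      QuadraticMap.polar Q₁ (v ∘ Sum.inl) (w ∘ Sum.inl) +
        QuadraticMap.polar Q₂ (v ∘ Sum.inr) (w ∘ Sum.inr) := by
  unfold QuadraticMap.polar sumForm
  have e1 : (v + w) ∘ Sum.inl = v ∘ Sum.inl + w ∘ (Sum.inl : ι₁ → ι₁ ⊕ ι₂) := rfl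
  have e2 : (v + w) ∘ Sum.inr = v ∘ Sum.inr + w ∘ (Sum.inr : ι₂ → ι₁ ⊕ ι₂) := rfl
  rw [e1, e2]
  ring

lemma sumForm_nondeg {Q₁ : (ι₁ → F) → F} {Q₂ : (ι₂ → F) → F}
    (h₁ : Cfsg.Geo.IsNondegenerateQuadraticForm Q₁)
    (h₂ : Cfsg.Geo.IsNondegenerateQuadraticForm Q₂) :
    Cfsg.Geo.IsNondegenerateQuadraticForm (sumForm Q₁ Q₂) := by
  refine ⟨fun c v => ?_, ⟨?_, ?_, ?_, ?_⟩, fun v hv => ?_⟩
  · show Q₁ ((c • v) ∘ Sum.inl) + Q₂ ((c • v) ∘ Sum.inr) = c ^ 2 * (Q₁ (v ∘ Sum.inl) + Q₂ (v ∘ Sum.inr))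
    have e1 : (c • v) ∘ Sum.inl = c • (v ∘ (Sum.inl : ι₁ → ι₁ ⊕ ι₂)) := rfl
    have e2 : (c • v) ∘ Sum.inr = c • (v ∘ (Sum.inr : ι₂ → ι₁ ⊕ ι₂)) := rfl
    rw [e1, e2, h₁.smul, h₂.smul]
    ring
  · intro x y v
    simp only [polar_sumForm]
    have e1 : (x + y) ∘ Sum.inl = x ∘ Sum.inl + y ∘ (Sum.inl : ι₁ → ι₁ ⊕ ι₂) := rfl
    have e2 : (x + y) ∘ Sum.inr = x ∘ Sum.inr + y ∘ (Sum.inr : ι₂ → ι₁ ⊕ ι₂) := rfl
    rw [e1, e2, h₁.polar_bilinear.add_left, h₂.polar_bilinear.add_left]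
    ring
  · intro c x v
    simp only [polar_sumForm]
    have e1 : (c • x) ∘ Sum.inl = c • (x ∘ (Sum.inl : ι₁ → ι₁ ⊕ ι₂)) := rfl
    have e2 : (c • x) ∘ Sum.inr = c • (x ∘ (Sum.inr : ι₂ → ι₁ ⊕ ι₂)) := rfl
    rw [e1, e2, h₁.polar_bilinear.smul_left, h₂.polar_bilinear.smul_left]
    ring
  · intro v x y
    simp only [polar_sumForm]
    have e1 : (x + y) ∘ Sum.inl = x ∘ Sum.inl + y ∘ (Sum.inl : ι₁ → ι₁ ⊕ ι₂) := rfl
    have e2 : (x + y) ∘ Sum.inr = x ∘ Sum.inr + y ∘ (Sum.inr : ι₂ → ι₁ ⊕ ι₂) := rfl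
    rw [e1, e2, h₁.polar_bilinear.add_right, h₂.polar_bilinear.add_right]
    ring
  · intro c v x
    simp only [polar_sumForm]
    have e1 : (c • x) ∘ Sum.inl = c • (x ∘ (Sum.inl : ι₁ → ι₁ ⊕ ι₂)) := rfl
    have e2 : (c • x) ∘ Sum.inr = c • (x ∘ (Sum.inr : ι₂ → ι₁ ⊕ ι₂)) := rfl
    rw [e1, e2, h₁.polar_bilinear.smul_right, h₂.polar_bilinear.smul_right]
    ring
  · have key : ∃ x, QuadraticMap.polar (sumForm Q₁ Q₂) x v ≠ 0 := by
      by_cases hl : v ∘ Sum.inl = 0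
      · have hr : v ∘ Sum.inr ≠ 0 := by
          intro hr
          apply hv
          funext j
          rcases j with i | i
          · exact congrFun hl i
          · exact congrFun hr i
        obtain ⟨⟨x, hx⟩, -⟩ := h₂.nondegenerate _ hr
        refine ⟨Sum.elim 0 x, ?_⟩
        rw [polar_sumForm, Sum.elim_comp_inl, Sum.elim_comp_inr]
        have : QuadraticMap.polar Q₁ 0 (v ∘ Sum.inl) = 0 := by
          have := h₁.polar_bilinear.smul_left 0 0 (v ∘ Sum.inl)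
          rwa [zero_smul, zero_mul] at this
        rw [this, zero_add]
        exact hx
      · obtain ⟨⟨x, hx⟩, -⟩ := h₁.nondegenerate _ hl
        refine ⟨Sum.elim x 0, ?_⟩
        rw [polar_sumForm, Sum.elim_comp_inl, Sum.elim_comp_inr]
        have : QuadraticMap.polar Q₂ 0 (v ∘ Sum.inr) = 0 := by
          have := h₂.polar_bilinear.smul_left 0 0 (v ∘ Sum.inr)
          rwa [zero_smul, zero_mul] at this
        rw [this, add_zero]
        exact hx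
    obtain ⟨x, hx⟩ := key
    exact ⟨⟨x, hx⟩, ⟨x, by rw [QuadraticMap.polar_comm]; exact hx⟩⟩

/-- block-diagonal element of `GL` -/
def blockGL (a : GL ι₁ F) (b : GL ι₂ F) : GL (ι₁ ⊕ ι₂) F :=
  ⟨Matrix.fromBlocks (a : Matrix ι₁ ι₁ F) 0 0 (b : Matrix ι₂ ι₂ F),
    Matrix.fromBlocks ((a⁻¹ : GL ι₁ F) : Matrix ι₁ ι₁ F) 0 0 ((b⁻¹ : GL ι₂ F) : Matrix ι₂ ι₂ F),
    by
      rw [Matrix.fromBlocks_multiply]
      simp [← Units.val_mul],
    by
      rw [Matrix.fromBlocks_multiply]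
      simp [← Units.val_mul]⟩

lemma blockGL_val (a : GL ι₁ F) (b : GL ι₂ F) :
    ((blockGL a b : GL (ι₁ ⊕ ι₂) F) : Matrix (ι₁ ⊕ ι₂) (ι₁ ⊕ ι₂) F) =
      Matrix.fromBlocks (a : Matrix ι₁ ι₁ F) 0 0 (b : Matrix ι₂ ι₂ F) := rfl

lemma act_blockGL_elim (a : GL ι₁ F) (b : GL ι₂ F) (x : ι₁ → F) (y : ι₂ → F) :
    act (blockGL a b) (Sum.elim x y) = Sum.elim (act a x) (act b y) := by
  rw [act, blockGL_val, Matrix.fromBlocks_mulVec]
  simp only [Matrix.zero_mulVec, add_zero, zero_add, Sum.elim_comp_inl, Sum.elim_comp_inr]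

lemma act_blockGL (a : GL ι₁ F) (b : GL ι₂ F) (v : ι₁ ⊕ ι₂ → F) :
    act (blockGL a b) v = Sum.elim (act a (v ∘ Sum.inl)) (act b (v ∘ Sum.inr)) := by
  have hv : v = Sum.elim (v ∘ Sum.inl) (v ∘ Sum.inr) := (Sum.elim_comp_inl_inr v).symm
  have := act_blockGL_elim a b (v ∘ Sum.inl) (v ∘ Sum.inr)
  rw [← hv] at this
  exact this

lemma blockGL_mem {Q₁ : (ι₁ → F) → F} {Q₂ : (ι₂ → F) → F} (a : GL ι₁ F) (b : GL ι₂ F)
    (ha : a ∈ Cfsg.isometryGroup F Q₁) (hb : b ∈ Cfsg.isometryGroup F Q₂) :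
    blockGL a b ∈ Cfsg.isometryGroup F (sumForm Q₁ Q₂) := by
  rw [mem_isometryGroup_iff]
  intro v
  show Q₁ (act (blockGL a b) v ∘ Sum.inl) + Q₂ (act (blockGL a b) v ∘ Sum.inr) = _
  rw [act_blockGL, Sum.elim_comp_inl, Sum.elim_comp_inr, Q_act a ha, Q_act b hb]

end Sum

section Double

variable {ι : Type} [Fintype ι] [DecidableEq ι] {F : Type*} [Field F] {Q : (ι → F) → F}

omit [Fintype ι] [DecidableEq ι] in
lemma swap_invol : Function.Involutive (Sum.swap : ι ⊕ ι → ι ⊕ ι) := Sum.swap_swap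

lemma swap_mem (Q : (ι → F) → F) :
    permGL (F := F) (Sum.swap : ι ⊕ ι → ι ⊕ ι) swap_invol ∈
      Cfsg.isometryGroup F (sumForm Q Q) := by
  apply permGL_mem
  intro v
  show Q ((v ∘ Sum.swap) ∘ Sum.inl) + Q ((v ∘ Sum.swap) ∘ Sum.inr) = Q (v ∘ Sum.inl) + Q (v ∘ Sum.inr)
  have e1 : (v ∘ Sum.swap) ∘ Sum.inl = v ∘ (Sum.inr : ι → ι ⊕ ι) := rfl
  have e2 : (v ∘ Sum.swap) ∘ Sum.inr = v ∘ (Sum.inl : ι → ι ⊕ ι) := rfl
  rw [e1, e2, add_comm]

/-- `diag(g, g)` lies in `Ω(Q ⊕ Q)` -/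
theorem diag_mem_omega (hQ : Cfsg.Geo.IsNondegenerateQuadraticForm Q)
    (hgen : Cfsg.isometryGroup F (sumForm Q Q) ≤ RR (sumForm_nondeg hQ hQ))
    (g : GL ι F) (hg : g ∈ Cfsg.isometryGroup F Q) :
    (⟨blockGL g g, blockGL_mem g g hg hg⟩ : ↥(Cfsg.isometryGroup F (sumForm Q Q))) ∈
      Cfsg.Omega F (sumForm Q Q) := by
  set y : ↥(Cfsg.isometryGroup F (sumForm Q Q)) :=
    ⟨blockGL g 1, blockGL_mem g 1 hg (one_mem _)⟩ with hy
  set t : ↥(Cfsg.isometryGroup F (sumForm Q Q)) := ⟨_, swap_mem Q⟩ with ht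
  have hx : (⟨blockGL g g, blockGL_mem g g hg hg⟩ : ↥(Cfsg.isometryGroup F (sumForm Q Q))) =
      (y * y) * ⁅y⁻¹, t⁆ := by
    have h1 : (y * y) * ⁅y⁻¹, t⁆ = y * (t * y * t⁻¹) := by
      rw [commutatorElement_def]
      group
    rw [h1]
    apply Subtype.ext
    show blockGL g g = blockGL g 1 * (permGL Sum.swap swap_invol * blockGL g 1 *
      (permGL Sum.swap swap_invol)⁻¹)
    apply gl_ext
    intro v
    rw [permGL_inv, act_mul, act_mul, act_mul, act_permGL, act_blockGL, act_blockGL, act_permGL,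
      act_blockGL, act_one]
    funext j
    rcases j with i | i
    · rfl
    · simp only [Sum.elim_inr, act_one]
      rfl
  rw [hx]
  apply mul_mem (sq_mem_omega (sumForm_nondeg hQ hQ) hgen y)
  unfold Cfsg.Omega
  rw [commutator_def]
  exact Subgroup.commutator_mem_commutator (Subgroup.mem_top _) (Subgroup.mem_top _)

end Double

end Cfsg.Agent.Lib.Helper5.OrthPar
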