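import Mathlib
import Cfsg.Agent.Lib.Helper5.Orth.SumForm

set_option autoImplicit false
set_option linter.unusedSectionVars false
open Cfsg

/-!
Wall frames of an isometry `g`: families `u` such that the Gram matrix `B(uᵢ, (g - 1) uⱼ)` of the
Wall form on the image of `g - 1` is invertible. Its determinant is well defined up to squares.
-/

namespace Cfsg.Agent.Lib.Helper5.OrthSN

open Matrix Cfsg.Agent.H9.Orth Cfsg.Agent.Lib.Helper5.OrthTv Cfsg.Agent.Lib.Helper5.OrthPar

section Wall

variable {ι : Type} [Fintype ι] [DecidableEq ι] {F : Type*} [Field F] {Q : (ι → F) → F}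

/-- the images `(g - 1) uᵢ` -/
def wa (g : GL ι F) {κ : Type} (u : κ → ι → F) (i : κ) : ι → F := act g (u i) - u i

/-- the Gram matrix of the Wall form -/
def wallM (Q : (ι → F) → F) (g : GL ι F) {κ : Type} (u : κ → ι → F) : Matrix κ κ F :=
  fun i j => pol Q (u i) (wa g u j)

/-- Wall frames -/
def IsFrame (Q : (ι → F) → F) (g : GL ι F) {κ : Type} [Fintype κ] [DecidableEq κ]
    (u : κ → ι → F) : Prop :=
  Fintype.card κ = Module.finrank F (imS g) ∧ (wallM Q g u).det ≠ 0

lemma wa_mem (g : GL ι F) {κ : Type} (u : κ → ι → F) (i : κ) : wa g u i ∈ imS g :=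
  (mem_imS g _).2 ⟨u i, rfl⟩

variable (hQ : Cfsg.Geo.IsNondegenerateQuadraticForm Q)
include hQ

lemma pol_sum_right' {κ : Type} [Fintype κ] (x : ι → F) (β : κ → F) (w : κ → ι → F) :
    pol Q x (∑ j, β j • w j) = ∑ j, β j * pol Q x (w j) := by
  have := map_sum (BF hQ x) (fun j => β j • w j) Finset.univ
  simp only [BF_apply, map_smul, smul_eq_mul] at this
  exact this

lemma pol_sum_left' {κ : Type} [Fintype κ] (x : ι → F) (β : κ → F) (w : κ → ι → F) :
    pol Q (∑ j, β j • w j) x = ∑ j, β j * pol Q (w j) x := by
  rw [pol_comm, pol_sum_right' hQ]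
  apply Finset.sum_congr rfl
  intro j _
  rw [pol_comm]

lemma iso_identity (g : GL ι F) (hg : g ∈ Cfsg.isometryGroup F Q) (v v' : ι → F) :
    pol Q (act g v - v) v' + pol Q v (act g v' - v') +
      pol Q (act g v - v) (act g v' - v') = 0 := by
  have := pol_act g hg v v'
  simp only [pol_sub_left hQ, pol_sub_right hQ]
  linear_combination this

lemma act_sum_smul (g : GL ι F) {κ : Type} [Fintype κ] (β : κ → F) (w : κ → ι → F) :
    act g (∑ j, β j • w j) = ∑ j, β j • act g (w j) := by
  have := map_sum (Matrix.toLin' (g : Matrix ι ι F)) (fun j => β j • w j) Finset.univ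
  simp only [map_smul, Matrix.toLin'_apply] at this
  exact this

lemma wa_sum (g : GL ι F) {κ : Type} [Fintype κ] (β : κ → F) (u : κ → ι → F) :
    act g (∑ j, β j • u j) - ∑ j, β j • u j = ∑ j, β j • wa g u j := by
  rw [act_sum_smul hQ, ← Finset.sum_sub_distrib]
  apply Finset.sum_congr rfl
  intro j _
  rw [wa, smul_sub]

lemma frame_li (g : GL ι F) {κ : Type} [Fintype κ] [DecidableEq κ] (u : κ → ι → F)
    (hdet : (wallM Q g u).det ≠ 0) : LinearIndependent F (wa g u) := by
  rw [Fintype.linearIndependent_iff]
  intro β hβ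
  have h1 : (wallM Q g u) *ᵥ β = 0 := by
    funext i
    rw [Matrix.mulVec, dotProduct]
    have h2 := pol_sum_right' hQ (u i) β (wa g u)
    rw [hβ, pol_zero_right hQ] at h2
    rw [Pi.zero_apply, h2]
    apply Finset.sum_congr rfl
    intro j _
    rw [wallM, mul_comm]
  have := Matrix.eq_zero_of_mulVec_eq_zero hdet h1
  intro i
  exact congrFun this i

lemma frame_span (g : GL ι F) {κ : Type} [Fintype κ] [DecidableEq κ] (u : κ → ι → F)
    (hu : IsFrame Q g u) : Submodule.span F (Set.range (wa g u)) = imS g := by
  apply Submodule.eq_of_le_of_finrank_eq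
  · rw [Submodule.span_le]
    rintro _ ⟨i, rfl⟩
    exact wa_mem g u i
  · rw [finrank_span_eq_card (frame_li hQ g u hu.2), hu.1]

/-- the determinant of the Wall Gram matrix is independent of the frame, up to squares -/
theorem frame_det_indep (g : GL ι F) (hg : g ∈ Cfsg.isometryGroup F Q)
    {κ κ' : Type} [Fintype κ] [DecidableEq κ] [Fintype κ'] [DecidableEq κ']
    (u : κ → ι → F) (u' : κ' → ι → F) (hu : IsFrame Q g u) (hu' : IsFrame Q g u') :
    ∃ t : F, (wallM Q g u').det = t ^ 2 * (wallM Q g u).det := by
  have hspan := frame_span hQ g u hu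
  have hmem : ∀ i' : κ', ∃ c : κ → F, ∑ k, c k • wa g u k = wa g u' i' := by
    intro i'
    have h1 : wa g u' i' ∈ Submodule.span F (Set.range (wa g u)) := by
      rw [hspan]; exact wa_mem g u' i'
    exact Submodule.mem_span_range_iff_exists_fun F |>.1 h1
  choose P hP using hmem
  -- the adjusted frame
  have hfix : ∀ i' : κ', u' i' - ∑ k, P i' k • u k ∈ fixS g := by
    intro i'
    rw [mem_fixS, act_sub]
    have h1 := wa_sum hQ g (P i') u
    rw [hP i'] at h1
    have h2 : act g (u' i') - u' i' = wa g u' i' := rfl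
    have h3 : act g (u' i') - act g (∑ k, P i' k • u k) - (u' i' - ∑ k, P i' k • u k)
        = (act g (u' i') - u' i') - (act g (∑ k, P i' k • u k) - ∑ k, P i' k • u k) := by abel
    have h4 : act g (u' i') - act g (∑ k, P i' k • u k) - (u' i' - ∑ k, P i' k • u k) = 0 := by
      rw [h3, h1, h2, sub_self]
    exact sub_eq_zero.1 h4
  have hentry : ∀ i' j' : κ', wallM Q g u' i' j' =
      ∑ l, (∑ k, P i' k * wallM Q g u k l) * P j' l := by
    intro i' j'
    have h1 : pol Q (u' i' - ∑ k, P i' k • u k) (wa g u' j') = 0 := by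
      have h2 := hfix i'
      rw [fixS_eq_perp hQ g hg, mem_perp] at h2
      have := h2 _ (wa_mem g u' j')
      rw [pol_comm]
      exact this
    have h3 : wallM Q g u' i' j' = pol Q (∑ k, P i' k • u k) (wa g u' j') := by
      rw [pol_sub_left hQ] at h1
      exact sub_eq_zero.1 h1
    rw [h3, ← hP j', pol_sum_right' hQ]
    apply Finset.sum_congr rfl
    intro l _
    rw [pol_sum_left' hQ, mul_comm]
    rfl
  have hcard : Fintype.card κ' = Fintype.card κ := by rw [hu.1, hu'.1]
  let e : κ' ≃ κ := Fintype.equivOfCardEq hcard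
  have hmat : wallM Q g u' = (Matrix.of P).submatrix id e * (wallM Q g u).submatrix e e *
      ((Matrix.of P).submatrix id e)ᵀ := by
    have h1 : (Matrix.of P).submatrix id e * (wallM Q g u).submatrix e e =
        ((Matrix.of P) * (wallM Q g u)).submatrix id e :=
      Matrix.submatrix_mul_equiv (Matrix.of P) (wallM Q g u) id e e
    have h2 : ((Matrix.of P).submatrix id e)ᵀ = ((Matrix.of P)ᵀ).submatrix e id := by
      rw [Matrix.transpose_submatrix]
    rw [h1, h2, Matrix.submatrix_mul_equiv]
    ext i' j'
    rw [hentry i' j']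
    simp only [Matrix.submatrix_apply, id_eq, Matrix.mul_apply, Matrix.transpose_apply,
      Matrix.of_apply]
  refine ⟨((Matrix.of P).submatrix id e).det, ?_⟩
  rw [hmat, Matrix.det_mul, Matrix.det_mul, Matrix.det_transpose,
    Matrix.det_submatrix_equiv_self]
  ring

/-- every isometry has a Wall frame -/
theorem exists_frame (g : GL ι F) (hg : g ∈ Cfsg.isometryGroup F Q) :
    ∃ u : Fin (Module.finrank F (imS g)) → ι → F, IsFrame Q g u := by
  set d := Module.finrank F (imS g) with hd
  let b := Module.finBasis F (imS g)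
  have hpre : ∀ i : Fin d, ∃ v, act g v - v = ((b i : imS g) : ι → F) := by
    intro i
    exact (mem_imS g _).1 (b i).2
  choose u hu using hpre
  refine ⟨u, by rw [Fintype.card_fin], ?_⟩
  intro hdet
  obtain ⟨β, hβ0, hβ⟩ := Matrix.exists_mulVec_eq_zero_iff.2 hdet
  apply hβ0
  -- w = Σ β_j u_j, b' = (g - 1) w
  set w := ∑ j, β j • u j with hw
  have hb' : act g w - w = ∑ j, β j • wa g u j := wa_sum hQ g β u
  have h1 : ∀ i, pol Q (u i) (act g w - w) = 0 := by
    intro i
    rw [hb', pol_sum_right' hQ]
    have := congrFun hβ i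
    rw [Matrix.mulVec, dotProduct, Pi.zero_apply] at this
    rw [← this]
    apply Finset.sum_congr rfl
    intro j _
    rw [wallM, mul_comm]
  -- g w is fixed by g
  have h2 : act g w ∈ fixS g := by
    rw [fixS_eq_perp hQ g hg, mem_perp]
    intro a ha
    have hsp : a ∈ Submodule.span F (Set.range (wa g u)) := by
      have hrange : Submodule.span F (Set.range (wa g u)) = imS g := by
        have h3 : (fun i => ((b i : imS g) : ι → F)) = wa g u := by
          funext i
          rw [wa, hu i]
        have h4 : Submodule.span F (Set.range (fun i => ((b i : imS g) : ι → F))) = imS g := by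
          have := b.span_eq
          have h5 := congrArg (Submodule.map (imS g).subtype) this
          rw [Submodule.map_span, Submodule.map_subtype_top, ← Set.range_comp] at h5
          exact h5
        rw [← h3]; exact h4
      rw [hrange]; exact ha
    obtain ⟨c, rfl⟩ := Submodule.mem_span_range_iff_exists_fun F |>.1 hsp
    rw [pol_sum_left' hQ]
    apply Finset.sum_eq_zero
    intro i _
    have h3 := iso_identity hQ g hg (u i) w
    rw [h1 i] at h3
    have h4 : pol Q (wa g u i) (act g w) = pol Q (act g (u i) - u i) w +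
        pol Q (act g (u i) - u i) (act g w - w) := by
      rw [wa, ← pol_add_right hQ]
      congr 1
      abel
    rw [h4]
    have : pol Q (act g (u i) - u i) w + pol Q (act g (u i) - u i) (act g w - w) = 0 := by
      linear_combination h3
    rw [this, mul_zero]
  have h3 : act g w = w := by
    have := (mem_fixS g _).1 h2
    exact act_injective g this
  have h4 : ∑ j, β j • wa g u j = 0 := by rw [← hb', h3, sub_self]
  have hli : LinearIndependent F (wa g u) := by
    have h5 : (fun i => ((b i : imS g) : ι → F)) = wa g u := by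
      funext i
      rw [wa, hu i]
    rw [← h5]
    exact b.linearIndependent.map' (imS g).subtype (Submodule.ker_subtype _)
  funext j
  exact (Fintype.linearIndependent_iff.1 hli β h4) j

end Wall

end Cfsg.Agent.Lib.Helper5.OrthSN
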