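import Mathlib
import Cfsg.Agent.Lib.Helper5.Orth.Wall

set_option autoImplicit false
set_option linter.unusedSectionVars false
open Cfsg

/-!
The spinor norm is well defined: if two products of reflections agree, the products of the norms of
the reflecting vectors agree up to squares.
-/

namespace Cfsg.Agent.Lib.Helper5.OrthSN

open Matrix Cfsg.Agent.H9.Orth Cfsg.Agent.Lib.Helper5.OrthTv Cfsg.Agent.Lib.Helper5.OrthPar

section Wall

variable {ι : Type} [Fintype ι] [DecidableEq ι] {F : Type*} [Field F] {Q : (ι → F) → F}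

/-- the set of Wall discriminants of `g` -/
def WS (Q : (ι → F) → F) (g : GL ι F) : Set F :=
  {c | ∃ (κ : Type) (_ : Fintype κ) (_ : DecidableEq κ) (u : κ → ι → F),
    IsFrame Q g u ∧ ∃ s : F, s ≠ 0 ∧ c = s ^ 2 * (wallM Q g u).det}

lemma WS_ne_zero (g : GL ι F) (c : F) (hc : c ∈ WS Q g) : c ≠ 0 := by
  obtain ⟨κ, _, _, u, hu, s, hs, rfl⟩ := hc
  exact mul_ne_zero (pow_ne_zero 2 hs) hu.2

lemma WS_one : (1 : F) ∈ WS Q (1 : GL ι F) := by
  refine ⟨Fin 0, inferInstance, inferInstance, Fin.elim0, ⟨?_, ?_⟩, 1, one_ne_zero, ?_⟩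
  · rw [Fintype.card_fin, ← rank_eq]
    have : ((1 : GL ι F) : Matrix ι ι F) - 1 = 0 := by simp
    rw [this, Matrix.rank_zero]
  · rw [Matrix.det_isEmpty]; exact one_ne_zero
  · rw [Matrix.det_isEmpty]; ring

variable (hQ : Cfsg.Geo.IsNondegenerateQuadraticForm Q)
include hQ

lemma WS_sq (g : GL ι F) (hg : g ∈ Cfsg.isometryGroup F Q) (c c' : F) (hc : c ∈ WS Q g)
    (hc' : c' ∈ WS Q g) : IsSquare (c * c') := by
  obtain ⟨κ, _, _, u, hu, s, hs, rfl⟩ := hc
  obtain ⟨κ', _, _, u', hu', s', hs', rfl⟩ := hc'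
  obtain ⟨t, ht⟩ := frame_det_indep hQ g hg u u' hu hu'
  refine ⟨s * s' * t * (wallM Q g u).det, ?_⟩
  rw [ht]
  ring

lemma WS_of_sq (g : GL ι F) (c c' : F) (hc : c ∈ WS Q g) (hc' : c' ≠ 0)
    (h : IsSquare (c * c')) : c' ∈ WS Q g := by
  have hc0 := WS_ne_zero g c hc
  obtain ⟨κ, _, _, u, hu, s, hs, rfl⟩ := hc
  obtain ⟨y, hy⟩ := h
  have hy0 : y ≠ 0 := by
    rintro rfl
    rw [mul_zero] at hy
    exact (mul_ne_zero hc0 hc') hy
  refine ⟨κ, inferInstance, inferInstance, u, hu, y / (s * (wallM Q g u).det), ?_, ?_⟩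
  · exact div_ne_zero hy0 (mul_ne_zero hs hu.2)
  · have hD := hu.2
    have hsD : s ^ 2 * (wallM Q g u).det ≠ 0 := mul_ne_zero (pow_ne_zero 2 hs) hD
    apply mul_left_cancel₀ hsD
    rw [hy, div_pow]
    field_simp

lemma exists_WS (g : GL ι F) (hg : g ∈ Cfsg.isometryGroup F Q) : ∃ c, c ∈ WS Q g := by
  obtain ⟨u, hu⟩ := exists_frame hQ g hg
  exact ⟨_, _, inferInstance, inferInstance, u, hu, 1, one_ne_zero, rfl⟩

lemma wa_rf_mul (g : GL ι F) (x : ι → F) (hx : Q x ≠ 0) (v : ι → F) :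
    act (rf hQ x * g) v - v = (act g v - v) - ((Q x)⁻¹ * pol Q (act g v) x) • x := by
  rw [act_mul, act_rf hQ x hx]
  abel

/-- multiplying by a reflection in a vector outside the image of `g - 1` -/
lemma WS_rf_mul_of_notMem (g : GL ι F) (hg : g ∈ Cfsg.isometryGroup F Q) (x : ι → F)
    (hx : Q x ≠ 0) (hxi : x ∉ imS g) (c : F) (hc : c ∈ WS Q g) :
    (-Q x) * c ∈ WS Q (rf hQ x * g) := by
  obtain ⟨κ, _, _, u, hu, s, hs, rfl⟩ := hc
  -- a fixed vector not perpendicular to x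
  have hw : ∃ w₀ ∈ fixS g, pol Q w₀ x ≠ 0 := by
    by_contra hcon
    push Not at hcon
    apply hxi
    rw [← perp_perp hQ (imS g), ← fixS_eq_perp hQ g hg, mem_perp]
    exact hcon
  obtain ⟨w₀, hw₀, hp₀⟩ := hw
  have hgw₀ : act g w₀ = w₀ := hw₀
  set p₀ := pol Q w₀ x with hp₀def
  have hw₀perp : ∀ a ∈ imS g, pol Q w₀ a = 0 := by
    intro a ha
    have := hw₀
    rw [fixS_eq_perp hQ g hg, mem_perp] at this
    rw [pol_comm]
    exact this a ha
  set u' : Unit ⊕ κ → ι → F := Sum.elim (fun _ => w₀)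
    (fun i => u i - (pol Q (u i) x / p₀) • w₀) with hu'
  have hu'x : ∀ i, pol Q (u' (Sum.inr i)) x = 0 := by
    intro i
    show pol Q (u i - (pol Q (u i) x / p₀) • w₀) x = 0
    rw [pol_sub_left hQ, pol_smul_left hQ, ← hp₀def]
    field_simp
    ring
  have hwa0 : wa (rf hQ x * g) u' (Sum.inl ()) = (-((Q x)⁻¹ * p₀)) • x := by
    show act (rf hQ x * g) w₀ - w₀ = _
    rw [wa_rf_mul hQ g x hx, hgw₀, sub_self, zero_sub, neg_smul]
  have hwaj : ∀ j, ∃ cj : F, wa (rf hQ x * g) u' (Sum.inr j) = wa g u j - cj • x := by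
    intro j
    refine ⟨(Q x)⁻¹ * pol Q (act g (u' (Sum.inr j))) x, ?_⟩
    show act (rf hQ x * g) (u' (Sum.inr j)) - u' (Sum.inr j) = _
    rw [wa_rf_mul hQ g x hx]
    congr 1
    show act g (u j - (pol Q (u j) x / p₀) • w₀) - (u j - (pol Q (u j) x / p₀) • w₀) = wa g u j
    rw [act_sub, act_smul, hgw₀, wa]
    abel
  set a₀₀ : F := -((Q x)⁻¹ * p₀ ^ 2) with ha₀₀
  have hmat : wallM Q (rf hQ x * g) u' =
      Matrix.fromBlocks (Matrix.of fun (_ _ : Unit) => a₀₀)
        (Matrix.of fun (_ : Unit) (j : κ) => wallM Q (rf hQ x * g) u' (Sum.inl ()) (Sum.inr j))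
        0 (wallM Q g u) := by
    ext a b
    rcases a with ⟨⟩ | i <;> rcases b with ⟨⟩ | j
    · show pol Q w₀ (wa (rf hQ x * g) u' (Sum.inl ())) = a₀₀
      rw [hwa0, pol_smul_right hQ, ← hp₀def, ha₀₀]
      ring
    · rfl
    · show pol Q (u' (Sum.inr i)) (wa (rf hQ x * g) u' (Sum.inl ())) = 0
      rw [hwa0, pol_smul_right hQ, hu'x i, mul_zero]
    · show pol Q (u' (Sum.inr i)) (wa (rf hQ x * g) u' (Sum.inr j)) = pol Q (u i) (wa g u j)
      obtain ⟨cj, hcj⟩ := hwaj j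
      rw [hcj, pol_sub_right hQ, pol_smul_right hQ, hu'x i, mul_zero, sub_zero]
      show pol Q (u i - (pol Q (u i) x / p₀) • w₀) (wa g u j) = _
      rw [pol_sub_left hQ, pol_smul_left hQ, hw₀perp _ (wa_mem g u j), mul_zero, sub_zero]
  have hdet : (wallM Q (rf hQ x * g) u').det = a₀₀ * (wallM Q g u).det := by
    rw [hmat, Matrix.det_fromBlocks_zero₂₁, Matrix.det_unique]
    rfl
  have ha₀₀ne : a₀₀ ≠ 0 := by
    rw [ha₀₀]
    exact neg_ne_zero.2 (mul_ne_zero (inv_ne_zero hx) (pow_ne_zero 2 hp₀))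
  refine ⟨Unit ⊕ κ, inferInstance, inferInstance, u', ⟨?_, ?_⟩, Q x * s / p₀, ?_, ?_⟩
  · rw [Fintype.card_sum, Fintype.card_unit, hu.1, ← rank_eq, ← rank_eq,
      rank_rf_mul_of_notMem hQ g hg x hx hxi]
    ring
  · rw [hdet]
    exact mul_ne_zero ha₀₀ne hu.2
  · exact div_ne_zero (mul_ne_zero hx hs) hp₀
  · rw [hdet, ha₀₀]
    field_simp

/-- multiplying by a reflection multiplies the Wall discriminant by `-Q x` -/
theorem WS_rf_mul (g : GL ι F) (hg : g ∈ Cfsg.isometryGroup F Q) (x : ι → F)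
    (hx : Q x ≠ 0) (c : F) (hc : c ∈ WS Q g) : (-Q x) * c ∈ WS Q (rf hQ x * g) := by
  by_cases hxi : x ∈ imS g
  · have hg' : rf hQ x * g ∈ Cfsg.isometryGroup F Q := mul_mem (rf_mem hQ x) hg
    have hxi' := notMem_imS_rf_mul hQ g hg x hx hxi
    obtain ⟨c', hc'⟩ := exists_WS hQ _ hg'
    have h1 := WS_rf_mul_of_notMem hQ _ hg' x hx hxi' c' hc'
    rw [← mul_assoc, rf_mul_self, one_mul] at h1
    have h2 := WS_sq hQ g hg c _ hc h1
    apply WS_of_sq hQ _ c' _ hc' (mul_ne_zero (neg_ne_zero.2 hx) (WS_ne_zero g c hc))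
    have : c' * (-Q x * c) = c * (-Q x * c') := by ring
    rw [this]
    exact h2
  · exact WS_rf_mul_of_notMem hQ g hg x hx hxi c hc

lemma prod_rf_mem (xs : List (ι → F)) :
    (xs.map (rf hQ)).prod ∈ Cfsg.isometryGroup F Q := by
  induction xs with
  | nil => exact one_mem _
  | cons x xs ih =>
    rw [List.map_cons, List.prod_cons]
    exact mul_mem (rf_mem hQ x) ih

theorem WS_prod (xs : List (ι → F)) (hxs : ∀ x ∈ xs, Q x ≠ 0) :
    (xs.map (fun x => -Q x)).prod ∈ WS Q (xs.map (rf hQ)).prod := by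
  induction xs with
  | nil => exact WS_one
  | cons x xs ih =>
    rw [List.map_cons, List.prod_cons, List.map_cons, List.prod_cons]
    exact WS_rf_mul hQ _ (prod_rf_mem hQ xs) x (hxs x List.mem_cons_self) _
      (ih (fun y hy => hxs y (List.mem_cons_of_mem x hy)))

theorem par_prod (xs : List (ι → F)) (hxs : ∀ x ∈ xs, Q x ≠ 0) :
    par (xs.map (rf hQ)).prod ↔ Even xs.length := by
  induction xs with
  | nil =>
    have := par_one (ι := ι) (F := F)
    simp [this]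
  | cons x xs ih =>
    rw [List.map_cons, List.prod_cons, par_rf_mul hQ _ (prod_rf_mem hQ xs) x
      (hxs x List.mem_cons_self), ih (fun y hy => hxs y (List.mem_cons_of_mem x hy)),
      List.length_cons, Nat.even_add_one]

lemma prod_neg_norm (xs : List (ι → F)) :
    (xs.map (fun x => -Q x)).prod = (-1) ^ xs.length * (xs.map Q).prod := by
  induction xs with
  | nil => simp
  | cons x xs ih =>
    rw [List.map_cons, List.prod_cons, ih, List.map_cons, List.prod_cons, List.length_cons]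
    ring

/-- the spinor norm is well defined -/
theorem prod_norm_isSquare (xs ys : List (ι → F)) (hxs : ∀ x ∈ xs, Q x ≠ 0)
    (hys : ∀ y ∈ ys, Q y ≠ 0) (h : (xs.map (rf hQ)).prod = (ys.map (rf hQ)).prod) :
    IsSquare ((xs.map Q).prod * (ys.map Q).prod) := by
  have h1 := WS_prod hQ xs hxs
  have h2 := WS_prod hQ ys hys
  rw [h] at h1
  have h3 := WS_sq hQ _ (prod_rf_mem hQ ys) _ _ h1 h2
  rw [prod_neg_norm hQ xs, prod_neg_norm hQ ys] at h3
  have hpar : Even (xs.length + ys.length) := by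
    have e1 := par_prod hQ xs hxs
    have e2 := par_prod hQ ys hys
    rw [h] at e1
    rw [Nat.even_add]
    rw [← e1, ← e2]
  have h4 : ((-1 : F)) ^ xs.length * (xs.map Q).prod * ((-1) ^ ys.length * (ys.map Q).prod) =
      (xs.map Q).prod * (ys.map Q).prod := by
    have : ((-1 : F)) ^ xs.length * (-1) ^ ys.length = 1 := by
      rw [← pow_add]
      exact Even.neg_one_pow hpar
    calc ((-1 : F)) ^ xs.length * (xs.map Q).prod * ((-1) ^ ys.length * (ys.map Q).prod)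
        = (((-1 : F)) ^ xs.length * (-1) ^ ys.length) * ((xs.map Q).prod * (ys.map Q).prod) := by
          ring
      _ = (xs.map Q).prod * (ys.map Q).prod := by rw [this, one_mul]
  rw [h4] at h3
  exact h3

end Wall

end Cfsg.Agent.Lib.Helper5.OrthSN
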