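import Mathlib
import Cfsg.Agent.Lib.Helper5.Orth.Wall2
import Cfsg.Agent.Lib.Helper5.Orth.ParityAll
import Cfsg.Agent.Lib.Helper5.Orth.ParityTwo

set_option autoImplicit false
set_option linter.unusedSectionVars false
open Cfsg

/-!
The spinor norm: `Ω` is the set of isometries `g` with `rank (g - 1)` even and with square Wall
discriminant (finite fields of odd characteristic).
-/

namespace Cfsg.Agent.Lib.Helper5.OrthSN

open Matrix Cfsg.Agent.H9.Orth Cfsg.Agent.Lib.Helper5.OrthTv Cfsg.Agent.Lib.Helper5.OrthPar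
open scoped commutatorElement

section Spinor

variable {ι : Type} [Fintype ι] [DecidableEq ι] {F : Type*} [Field F] {Q : (ι → F) → F}

/-- the spinor norm of `g` is trivial -/
def spin (Q : (ι → F) → F) (g : GL ι F) : Prop := ∃ c ∈ WS Q g, IsSquare c

lemma isSquare_of_mul {a b : F} (ha : a ≠ 0) (hsq : IsSquare a) (h : IsSquare (a * b)) :
    IsSquare b := by
  obtain ⟨s, hs⟩ := hsq
  obtain ⟨t, ht⟩ := h
  have hs0 : s ≠ 0 := by
    rintro rfl
    rw [mul_zero] at hs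
    exact ha hs
  refine ⟨t / s, ?_⟩
  rw [div_mul_div_comm, ← ht, hs]
  field_simp

lemma spin_one : spin Q (1 : GL ι F) := ⟨1, WS_one, ⟨1, (one_mul 1).symm⟩⟩

variable (hQ : Cfsg.Geo.IsNondegenerateQuadraticForm Q)
include hQ

lemma spin_iff_of_mem (g : GL ι F) (hg : g ∈ Cfsg.isometryGroup F Q) (c : F) (hc : c ∈ WS Q g) :
    spin Q g ↔ IsSquare c := by
  constructor
  · rintro ⟨c', hc', hsq⟩
    exact isSquare_of_mul (WS_ne_zero g c' hc') hsq (WS_sq hQ g hg c' c hc' hc)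
  · intro h
    exact ⟨c, hc, h⟩

lemma prod_rf_inv (xs : List (ι → F)) :
    ((xs.map (rf hQ)).prod)⁻¹ = (xs.reverse.map (rf hQ)).prod := by
  induction xs with
  | nil => simp
  | cons x xs ih =>
    rw [List.map_cons, List.prod_cons, _root_.mul_inv_rev, ih, List.reverse_cons, List.map_append,
      List.prod_append, rf_inv]
    simp

/-- every isometry is a product of reflections in nonsingular vectors -/
lemma exists_list (hgen : Cfsg.isometryGroup F Q ≤ RR hQ) (g : GL ι F)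
    (hg : g ∈ Cfsg.isometryGroup F Q) :
    ∃ xs : List (ι → F), (∀ x ∈ xs, Q x ≠ 0) ∧ g = (xs.map (rf hQ)).prod := by
  have hgR : g ∈ RR hQ := hgen hg
  unfold RR at hgR
  induction hgR using Subgroup.closure_induction with
  | mem g hgm =>
    obtain ⟨x, rfl⟩ := hgm
    by_cases hx : Q x ≠ 0
    · refine ⟨[x], ?_, ?_⟩
      · intro y hy
        rw [List.mem_singleton] at hy
        rw [hy]; exact hx
      · simp
    · refine ⟨[], ?_, ?_⟩
      · intro y hy; simp at hy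
      · rw [rf_of_not hQ x hx]; simp
  | one => exact ⟨[], by simp, by simp⟩
  | mul a b ha hb iha ihb =>
    have haO : a ∈ Cfsg.isometryGroup F Q := RR_le_iso hQ ha
    have hbO : b ∈ Cfsg.isometryGroup F Q := RR_le_iso hQ hb
    obtain ⟨xs, hxs, rfl⟩ := iha haO
    obtain ⟨ys, hys, rfl⟩ := ihb hbO
    refine ⟨xs ++ ys, ?_, ?_⟩
    · intro z hz
      rcases List.mem_append.1 hz with h | h
      · exact hxs z h
      · exact hys z h
    · rw [List.map_append, List.prod_append]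
  | inv a ha iha =>
    have haO : a ∈ Cfsg.isometryGroup F Q := RR_le_iso hQ ha
    obtain ⟨xs, hxs, rfl⟩ := iha haO
    refine ⟨xs.reverse, ?_, ?_⟩
    · intro z hz
      exact hxs z (List.mem_reverse.1 hz)
    · exact prod_rf_inv hQ xs

lemma WS_list_mul (xs : List (ι → F)) (hxs : ∀ x ∈ xs, Q x ≠ 0) (h : GL ι F)
    (hh : h ∈ Cfsg.isometryGroup F Q) (d : F) (hd : d ∈ WS Q h) :
    (xs.map (fun x => -Q x)).prod * d ∈ WS Q ((xs.map (rf hQ)).prod * h) := by
  induction xs with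
  | nil => simpa using hd
  | cons x xs ih =>
    rw [List.map_cons, List.prod_cons, List.map_cons, List.prod_cons, mul_assoc, mul_assoc]
    exact WS_rf_mul hQ _ (mul_mem (prod_rf_mem hQ xs) hh) x (hxs x List.mem_cons_self) _
      (ih (fun y hy => hxs y (List.mem_cons_of_mem x hy)))

/-- the Wall discriminant is multiplicative -/
theorem WS_mul (hgen : Cfsg.isometryGroup F Q ≤ RR hQ) (g h : GL ι F)
    (hg : g ∈ Cfsg.isometryGroup F Q) (hh : h ∈ Cfsg.isometryGroup F Q) (c d : F)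
    (hc : c ∈ WS Q g) (hd : d ∈ WS Q h) : c * d ∈ WS Q (g * h) := by
  obtain ⟨xs, hxs, rfl⟩ := exists_list hQ hgen g hg
  have h1 := WS_list_mul hQ xs hxs h hh d hd
  have h2 := WS_prod hQ xs hxs
  obtain ⟨t, ht⟩ := WS_sq hQ _ hg _ c h2 hc
  apply WS_of_sq hQ _ _ _ h1 (mul_ne_zero (WS_ne_zero _ c hc) (WS_ne_zero _ d hd))
  refine ⟨t * d, ?_⟩
  calc (xs.map (fun x => -Q x)).prod * d * (c * d)
      = ((xs.map (fun x => -Q x)).prod * c) * (d * d) := by ring
    _ = t * d * (t * d) := by rw [ht]; ring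

lemma WS_inv (hgen : Cfsg.isometryGroup F Q ≤ RR hQ) (g : GL ι F)
    (hg : g ∈ Cfsg.isometryGroup F Q) (c : F) (hc : c ∈ WS Q g) : c ∈ WS Q g⁻¹ := by
  obtain ⟨c', hc'⟩ := exists_WS hQ g⁻¹ (inv_mem hg)
  have h1 := WS_mul hQ hgen g⁻¹ g (inv_mem hg) hg c' c hc' hc
  rw [inv_mul_cancel] at h1
  have h2 := WS_sq hQ 1 (one_mem _) 1 (c' * c) WS_one h1
  rw [one_mul] at h2
  exact WS_of_sq hQ _ c' c hc' (WS_ne_zero _ c hc) h2

lemma spin_mul (hgen : Cfsg.isometryGroup F Q ≤ RR hQ) (g h : GL ι F)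
    (hg : g ∈ Cfsg.isometryGroup F Q) (hh : h ∈ Cfsg.isometryGroup F Q)
    (sg : spin Q g) (sh : spin Q h) : spin Q (g * h) := by
  obtain ⟨c, hc, hcs⟩ := sg
  obtain ⟨d, hd, hds⟩ := sh
  exact ⟨c * d, WS_mul hQ hgen g h hg hh c d hc hd, hcs.mul hds⟩

lemma spin_inv (hgen : Cfsg.isometryGroup F Q ≤ RR hQ) (g : GL ι F)
    (hg : g ∈ Cfsg.isometryGroup F Q) (sg : spin Q g) : spin Q g⁻¹ := by
  obtain ⟨c, hc, hcs⟩ := sg
  exact ⟨c, WS_inv hQ hgen g hg c hc, hcs⟩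

/-- commutators have trivial spinor norm -/
lemma spin_comm (hgen : Cfsg.isometryGroup F Q ≤ RR hQ) (g h : GL ι F)
    (hg : g ∈ Cfsg.isometryGroup F Q) (hh : h ∈ Cfsg.isometryGroup F Q) :
    spin Q (g * h * (g⁻¹ * h⁻¹)) := by
  obtain ⟨c, hc⟩ := exists_WS hQ g hg
  obtain ⟨d, hd⟩ := exists_WS hQ h hh
  have h1 := WS_mul hQ hgen g h hg hh c d hc hd
  have h2 := WS_mul hQ hgen g⁻¹ h⁻¹ (inv_mem hg) (inv_mem hh) c d (WS_inv hQ hgen g hg c hc)
    (WS_inv hQ hgen h hh d hd)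
  exact ⟨c * d * (c * d), WS_mul hQ hgen _ _ (mul_mem hg hh) (mul_mem (inv_mem hg) (inv_mem hh))
    _ _ h1 h2, ⟨c * d, rfl⟩⟩

/-- the isometries with even residual rank and trivial spinor norm -/
def spinG (hgen : Cfsg.isometryGroup F Q ≤ RR hQ) : Subgroup (GL ι F) where
  carrier := {g | g ∈ Cfsg.isometryGroup F Q ∧ par g ∧ spin Q g}
  mul_mem' {a b} ha hb := by
    refine ⟨mul_mem ha.1 hb.1, ?_, spin_mul hQ hgen a b ha.1 hb.1 ha.2.2 hb.2.2⟩
    rw [par_mul_gen hQ hgen a b ha.1 hb.1]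
    have := ha.2.1
    have := hb.2.1
    tauto
  one_mem' := ⟨one_mem _, par_one, spin_one⟩
  inv_mem' {a} ha := ⟨inv_mem ha.1, (par_inv_gen hQ hgen a ha.1).2 ha.2.1,
    spin_inv hQ hgen a ha.1 ha.2.2⟩

lemma mem_spinG (hgen : Cfsg.isometryGroup F Q ≤ RR hQ) (g : GL ι F) :
    g ∈ spinG hQ hgen ↔ g ∈ Cfsg.isometryGroup F Q ∧ par g ∧ spin Q g := Iff.rfl

/-- elements of `Ω` have trivial spinor norm -/
theorem omega_spin (hgen : Cfsg.isometryGroup F Q ≤ RR hQ)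
    (g : ↥(Cfsg.isometryGroup F Q)) (hg : g ∈ Cfsg.Omega F Q) : spin Q (g : GL ι F) := by
  have h1 : Cfsg.Omega F Q ≤ (spinG hQ hgen).comap (Cfsg.isometryGroup F Q).subtype := by
    unfold Cfsg.Omega
    rw [commutator_def, Subgroup.commutator_le]
    intro a _ b _
    rw [Subgroup.mem_comap, mem_spinG]
    have hc : ((Cfsg.isometryGroup F Q).subtype ⁅a, b⁆ : GL ι F) =
        (a : GL ι F) * (b : GL ι F) * ((a : GL ι F)⁻¹ * (b : GL ι F)⁻¹) := by
      rw [commutatorElement_def]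
      simp [mul_assoc]
    refine ⟨(⁅a, b⁆).2, ?_, ?_⟩
    · rw [hc, par_mul_gen hQ hgen _ _ (mul_mem a.2 b.2) (mul_mem (inv_mem a.2) (inv_mem b.2)),
        par_mul_gen hQ hgen _ _ a.2 b.2, par_mul_gen hQ hgen _ _ (inv_mem a.2) (inv_mem b.2),
        par_inv_gen hQ hgen _ a.2, par_inv_gen hQ hgen _ b.2]
    · rw [hc]
      exact spin_comm hQ hgen _ _ a.2 b.2
  exact (h1 hg).2.2

end Spinor

end Cfsg.Agent.Lib.Helper5.OrthSN
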