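import Mathlib
import Cfsg.Agent.Lib.Helper5.Orth.Spinor

set_option autoImplicit false
set_option linter.unusedSectionVars false
open Cfsg

/-!
Finite fields of odd characteristic: `Ω` is exactly the set of isometries with even residual rank
and trivial spinor norm.
-/

namespace Cfsg.Agent.Lib.Helper5.OrthSN

open Matrix Cfsg.Agent.H9.Orth Cfsg.Agent.Lib.Helper5.OrthTv Cfsg.Agent.Lib.Helper5.OrthPar
open scoped commutatorElement

lemma int_pm_eq (a X : ℤ) (ha : a = 1 ∨ a = -1) (hX : X = 1 ∨ X = -1) (h : a * X = 1) : a = X := by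
  rcases ha with rfl | rfl <;> rcases hX with rfl | rfl <;> simp_all

lemma int_pm_neg (a X : ℤ) (ha : a = 1 ∨ a = -1) (hX : X = 1 ∨ X = -1) (h : a * X = -1) :
    X = -a := by
  rcases ha with rfl | rfl <;> rcases hX with rfl | rfl <;> simp_all

section SpinorOdd

variable {ι : Type} [Fintype ι] [DecidableEq ι] {F : Type*} [Field F] {Q : (ι → F) → F}
variable (hQ : Cfsg.Geo.IsNondegenerateQuadraticForm Q)
include hQ

lemma R_neg (y : ι → F) : R hQ (-y) = R hQ y := by
  apply Subtype.ext
  show rf hQ (-y) = rf hQ y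
  have : -y = (-1 : F) • y := by simp
  rw [this, rf_smul hQ (-1) (neg_ne_zero.2 one_ne_zero) y]

/-- vectors of the same nonzero norm give reflections congruent modulo `Ω` -/
lemma R_mul_R_mem_of_eq (h2 : (2 : F) ≠ 0) (x y : ι → F) (hx : Q x ≠ 0) (hxy : Q x = Q y) :
    R hQ x * R hQ y ∈ Cfsg.Omega F Q := by
  by_cases h : Q (x - y) ≠ 0
  · exact R_mul_R_mem_of_swap hQ x y hxy h
  · push Not at h
    have h' : Q (x - -y) ≠ 0 := by
      rw [sub_neg_eq_add]
      intro h0
      have e1 := Q_add Q x y
      have e2 := Q_sub hQ x y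
      rw [h0] at e1
      rw [h] at e2
      have : (2 : F) * 2 * Q x = 0 := by
        rw [← hxy] at e1 e2
        linear_combination (-1 : F) * e1 - e2
      rcases mul_eq_zero.1 this with h3 | h3
      · rcases mul_eq_zero.1 h3 with h4 | h4 <;> exact h2 h4
      · exact hx h3
    have := R_mul_R_mem_of_swap hQ x (-y) (by rw [Q_neg hQ]; exact hxy) h'
    rwa [R_neg] at this

/-- vectors whose norms lie in the same square class give reflections congruent modulo `Ω` -/
lemma R_mul_R_mem_of_sq (h2 : (2 : F) ≠ 0) (x y : ι → F) (hx : Q x ≠ 0) (hy : Q y ≠ 0)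
    (h : IsSquare (Q x * Q y)) : R hQ x * R hQ y ∈ Cfsg.Omega F Q := by
  obtain ⟨s, hs⟩ := h
  have hs0 : s ≠ 0 := by
    rintro rfl
    rw [mul_zero] at hs
    exact (mul_ne_zero hx hy) hs
  have ha0 : s / Q x ≠ 0 := div_ne_zero hs0 hx
  have hQa : Q ((s / Q x) • x) = Q y := by
    rw [Q_smul hQ, div_pow]
    field_simp
    rw [pow_two, ← hs]
  have hR : R hQ ((s / Q x) • x) = R hQ x := Subtype.ext (rf_smul hQ _ ha0 x)
  have hne : Q ((s / Q x) • x) ≠ 0 := by rw [hQa]; exact hy
  have := R_mul_R_mem_of_eq hQ h2 _ y hne hQa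
  rwa [hR] at this


/-- an even product of reflections whose norms multiply to a square lies in `Ω` -/
theorem prod_R_mem_omega [Fintype F] (h2 : (2 : F) ≠ 0) (xs : List (ι → F))
    (hxs : ∀ x ∈ xs, Q x ≠ 0) (hev : Even xs.length) (hsq : IsSquare (xs.map Q).prod) :
    (xs.map (R hQ)).prod ∈ Cfsg.Omega F Q := by
  classical
  set π := Abelianization.of (G := ↥(Cfsg.isometryGroup F Q)) with hπ
  have hker : ∀ g : ↥(Cfsg.isometryGroup F Q), π g = 1 ↔ g ∈ Cfsg.Omega F Q := by
    intro g
    rw [← MonoidHom.mem_ker, hπ, Abelianization.ker_of]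
  set f : (ι → F) → Abelianization ↥(Cfsg.isometryGroup F Q) := fun x => π (R hQ x) with hf
  have hf2 : ∀ x, f x * f x = 1 := by
    intro x
    show π (R hQ x) * π (R hQ x) = 1
    rw [← map_mul, R_mul_self, map_one]
  have hdich : ∀ a : F, a ≠ 0 → quadraticChar F a = 1 ∨ quadraticChar F a = -1 :=
    fun a ha => quadraticChar_dichotomy ha
  have hfeq : ∀ x y, Q x ≠ 0 → Q y ≠ 0 → quadraticChar F (Q x) = quadraticChar F (Q y) →
      f x = f y := by
    intro x y hx hy hxy
    have h1 : IsSquare (Q x * Q y) := by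
      rw [← quadraticChar_one_iff_isSquare (mul_ne_zero hx hy), map_mul, hxy]
      rcases hdich _ hy with h | h <;> rw [h] <;> norm_num
    have h3 := (hker _).2 (R_mul_R_mem_of_sq hQ h2 x y hx hy h1)
    rw [map_mul] at h3
    exact mul_right_cancel (h3.trans (hf2 y).symm)
  have key : ∀ xs : List (ι → F), (∀ x ∈ xs, Q x ≠ 0) →
      (Even xs.length → quadraticChar F (xs.map Q).prod = 1 → (xs.map f).prod = 1) ∧
      (¬ Even xs.length → ∀ y, Q y ≠ 0 → quadraticChar F (Q y) = quadraticChar F (xs.map Q).prod →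
        (xs.map f).prod = f y) ∧
      (Even xs.length → quadraticChar F (xs.map Q).prod = -1 → ∀ y z, Q y ≠ 0 → Q z ≠ 0 →
        quadraticChar F (Q y) * quadraticChar F (Q z) = -1 → (xs.map f).prod = f y * f z) := by
    intro xs
    induction xs with
    | nil =>
      intro _
      refine ⟨fun _ _ => by simp, fun h => absurd (by simp) h, fun _ h => ?_⟩
      simp at h
    | cons x xs ih =>
      intro hxs
      have hx : Q x ≠ 0 := hxs x List.mem_cons_self
      have hxs' : ∀ y ∈ xs, Q y ≠ 0 := fun y hy => hxs y (List.mem_cons_of_mem x hy)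
      obtain ⟨ih1, ih2, ih3⟩ := ih hxs'
      have hP : (xs.map Q).prod ≠ 0 := by
        apply List.prod_ne_zero
        intro h0
        obtain ⟨y, hy, hy0⟩ := List.mem_map.1 h0
        exact hxs' y hy hy0
      have ha := hdich _ hx
      have hX := hdich _ hP
      simp only [List.map_cons, List.prod_cons, List.length_cons, Nat.even_add_one, map_mul]
      refine ⟨?_, ?_, ?_⟩
      · intro hodd hprod
        have haX := int_pm_eq _ _ ha hX hprod
        rw [ih2 hodd x hx haX]
        exact hf2 x
      · intro hev' y hy hyχ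
        rw [not_not] at hev'
        rcases hX with hX | hX
        · rw [ih1 hev' hX, mul_one]
          rw [hX, mul_one] at hyχ
          exact (hfeq y x hy hx hyχ).symm
        · have : quadraticChar F (Q y) * quadraticChar F (Q x) = -1 := by
            rw [hyχ, hX]
            rcases ha with ha | ha <;> rw [ha] <;> norm_num
          rw [ih3 hev' hX y x hy hx this, mul_comm (f y), ← mul_assoc, hf2, one_mul]
      · intro hodd hprod y z hy hz hyz
        have hXa := int_pm_neg _ _ ha hX hprod
        have hb := hdich _ hy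
        have hc := hdich _ hz
        have hcb := int_pm_neg _ _ hb hc hyz
        by_cases hba : quadraticChar F (Q y) = quadraticChar F (Q x)
        · have hcX : quadraticChar F (Q z) = quadraticChar F (xs.map Q).prod := by
            rw [hcb, hXa, hba]
          rw [ih2 hodd z hz hcX, hfeq x y hx hy hba.symm]
        · have hbX : quadraticChar F (Q y) = quadraticChar F (xs.map Q).prod := by
            rw [hXa]
            rcases ha with ha | ha <;> rcases hb with hb | hb <;> rw [ha, hb] at hba ⊢ <;>
              first | rfl | exact absurd rfl hba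
          have hca : quadraticChar F (Q z) = quadraticChar F (Q x) := by
            rw [hcb, hbX, hXa, neg_neg]
          rw [ih2 hodd y hy hbX, hfeq x z hx hz hca.symm, mul_comm]
  have hP : (xs.map Q).prod ≠ 0 := by
    apply List.prod_ne_zero
    intro h0
    obtain ⟨y, hy, hy0⟩ := List.mem_map.1 h0
    exact hxs y hy hy0
  have h1 := (key xs hxs).1 hev ((quadraticChar_one_iff_isSquare hP).2 hsq)
  rw [← hker, map_list_prod, List.map_map]
  exact h1


lemma val_prod_R (xs : List (ι → F)) :
    (((xs.map (R hQ)).prod : ↥(Cfsg.isometryGroup F Q)) : GL ι F) = (xs.map (rf hQ)).prod := by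
  induction xs with
  | nil => simp
  | cons x xs ih =>
    rw [List.map_cons, List.prod_cons, List.map_cons, List.prod_cons, ← ih]
    rfl

lemma prod_neg_norm_even (xs : List (ι → F)) (hev : Even xs.length) :
    (xs.map (fun x => -Q x)).prod = (xs.map Q).prod := by
  rw [prod_neg_norm hQ xs, Even.neg_one_pow hev, one_mul]

/-- a product of reflections lies in `Ω` iff their number is even and the product of the norms
is a square -/
theorem prod_R_mem_omega_iff [Fintype F] (h2 : (2 : F) ≠ 0)
    (hgen : Cfsg.isometryGroup F Q ≤ RR hQ) (xs : List (ι → F)) (hxs : ∀ x ∈ xs, Q x ≠ 0) :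
    (xs.map (R hQ)).prod ∈ Cfsg.Omega F Q ↔ Even xs.length ∧ IsSquare (xs.map Q).prod := by
  constructor
  · intro h
    have hp := omega_par_gen hQ hgen _ h
    have hs := omega_spin hQ hgen _ h
    rw [val_prod_R] at hp hs
    have hev : Even xs.length := (par_prod hQ xs hxs).1 hp
    refine ⟨hev, ?_⟩
    have := (spin_iff_of_mem hQ _ (prod_rf_mem hQ xs) _ (WS_prod hQ xs hxs)).1 hs
    rwa [prod_neg_norm_even hQ xs hev] at this
  · rintro ⟨hev, hsq⟩
    exact prod_R_mem_omega hQ h2 xs hxs hev hsq

/-- `Ω` is the set of isometries with even residual rank and trivial spinor norm -/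
theorem mem_omega_iff [Fintype F] (h2 : (2 : F) ≠ 0)
    (hgen : Cfsg.isometryGroup F Q ≤ RR hQ) (g : ↥(Cfsg.isometryGroup F Q)) :
    g ∈ Cfsg.Omega F Q ↔ par (g : GL ι F) ∧ spin Q (g : GL ι F) := by
  constructor
  · intro h
    exact ⟨omega_par_gen hQ hgen g h, omega_spin hQ hgen g h⟩
  · rintro ⟨hp, hs⟩
    obtain ⟨xs, hxs, hg⟩ := exists_list hQ hgen (g : GL ι F) g.2
    have hg' : g = (xs.map (R hQ)).prod := by
      apply Subtype.ext
      rw [val_prod_R, ← hg]
    rw [hg] at hp hs
    have hev : Even xs.length := (par_prod hQ xs hxs).1 hp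
    have hsq := (spin_iff_of_mem hQ _ (prod_rf_mem hQ xs) _ (WS_prod hQ xs hxs)).1 hs
    rw [prod_neg_norm_even hQ xs hev] at hsq
    rw [hg']
    exact prod_R_mem_omega hQ h2 xs hxs hev hsq

end SpinorOdd

end Cfsg.Agent.Lib.Helper5.OrthSN
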