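import Mathlib
import Cfsg.Agent.Lib.Helper5.Orth.ParityTwoMain

set_option autoImplicit false
set_option linter.unusedSectionVars false
open Cfsg

/-!
Over a finite field of odd characteristic a nondegenerate quadratic form in at least two
variables represents every element of the field.
-/

namespace Cfsg.Agent.Lib.Helper5.OrthUniv

open Matrix Cfsg.Agent.H9.Orth Cfsg.Agent.Lib.Helper5.OrthTv Cfsg.Agent.Lib.Helper5.OrthPar

section Univ

variable {ι : Type} [Fintype ι] [DecidableEq ι] {F : Type*} [Field F] {Q : (ι → F) → F}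
variable (hQ : Cfsg.Geo.IsNondegenerateQuadraticForm Q)
include hQ

/-- a nonsingular vector perpendicular to a given nonsingular vector -/
lemma exists_nonsing_perp (h2 : (2 : F) ≠ 0) (hn : 2 ≤ Fintype.card ι) (x : ι → F)
    (hx : Q x ≠ 0) : ∃ y, pol Q x y = 0 ∧ Q y ≠ 0 := by
  by_contra hcon
  push Not at hcon
  set P := perp hQ (Submodule.span F {x}) with hP
  have hx0 := ne_zero_of_Q_ne hQ x hx
  have hrank : 1 ≤ Module.finrank F P := by
    rw [hP, finrank_perp, finrank_span_singleton hx0]
    omega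
  have hne : P ≠ ⊥ := by
    intro h
    rw [h, finrank_bot] at hrank
    omega
  obtain ⟨y₁, hy₁P, hy₁⟩ := Submodule.exists_mem_ne_zero_of_ne_bot hne
  rw [hP, mem_perp_span_singleton] at hy₁P
  obtain ⟨⟨v, hv⟩, -⟩ := hQ.nondegenerate y₁ hy₁
  apply hv
  have hxx : pol Q x x ≠ 0 := by
    rw [pol_self hQ]
    exact mul_ne_zero h2 hx
  set c := pol Q x v / pol Q x x with hc
  set w := v - c • x with hw
  have hxw : pol Q x w = 0 := by
    rw [hw, pol_sub_right hQ, pol_smul_right hQ, hc]
    field_simp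
    ring
  have hv' : v = w + c • x := by rw [hw]; abel
  have h1 : pol Q y₁ w = 0 := by
    have e1 : pol Q x (y₁ + w) = 0 := by rw [pol_add_right hQ, hy₁P, hxw, add_zero]
    have := Q_add Q y₁ w
    rw [hcon _ e1, hcon _ hy₁P, hcon _ hxw] at this
    linear_combination -this
  show pol Q v y₁ = 0
  rw [pol_comm, hv', pol_add_right hQ, pol_smul_right hQ, h1, pol_comm, hy₁P]
  ring

/-- universality of nondegenerate quadratic forms over finite fields of odd characteristic -/
theorem exists_norm_eq [Fintype F] (h2 : (2 : F) ≠ 0) (hn : 2 ≤ Fintype.card ι) (c : F) :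
    ∃ v, Q v = c := by
  classical
  have : Nonempty ι := by
    rw [← Fintype.card_pos_iff]; omega
  obtain ⟨x₀, hx₀⟩ := exists_nonsing hQ
  obtain ⟨y₀, hxy, hy₀⟩ := exists_nonsing_perp hQ h2 hn x₀ hx₀
  have hchar : ringChar F ≠ 2 := by
    intro h
    have : CharP F 2 := by rw [← h]; exact ringChar.charP F
    exact h2 (by exact_mod_cast CharP.cast_eq_zero F 2)
  have hodd : Fintype.card F % 2 = 1 := FiniteField.odd_card_of_char_ne_two hchar
  have hf : (Polynomial.C (Q x₀) * Polynomial.X ^ 2 : Polynomial F).degree = 2 :=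
    Polynomial.degree_C_mul_X_pow 2 hx₀
  have hg : (Polynomial.C (Q y₀) * Polynomial.X ^ 2 - Polynomial.C c : Polynomial F).degree = 2 := by
    rw [Polynomial.degree_sub_eq_left_of_degree_lt]
    · exact Polynomial.degree_C_mul_X_pow 2 hy₀
    · rw [Polynomial.degree_C_mul_X_pow 2 hy₀]
      exact lt_of_le_of_lt Polynomial.degree_C_le (by norm_num)
  obtain ⟨s, t, hst⟩ := FiniteField.exists_root_sum_quadratic hf hg hodd
  simp only [Polynomial.eval_mul, Polynomial.eval_C, Polynomial.eval_pow, Polynomial.eval_X,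
    Polynomial.eval_sub] at hst
  refine ⟨s • x₀ + t • y₀, ?_⟩
  rw [Q_add Q, Q_smul hQ, Q_smul hQ, pol_smul_left hQ, pol_smul_right hQ, hxy]
  linear_combination hst

end Univ

end Cfsg.Agent.Lib.Helper5.OrthUniv
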