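import Mathlib
import Cfsg.Agent.Lib.Helper5.Orth.SpinorOdd
import Cfsg.Agent.Lib.Helper5.Orth.Universal

set_option autoImplicit false
set_option linter.unusedSectionVars false
open Cfsg

/-!
Finite fields of odd characteristic, dimension at least two: `Ω` has index four in the isometry
group.
-/

namespace Cfsg.Agent.Lib.Helper5.OrthSN

open Matrix Cfsg.Agent.H9.Orth Cfsg.Agent.Lib.Helper5.OrthTv Cfsg.Agent.Lib.Helper5.OrthPar
open Cfsg.Agent.Lib.Helper5.OrthUniv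
open scoped commutatorElement

lemma isSquare_mul_iff {F : Type*} [Field F] [Fintype F] {c d : F} (hc : c ≠ 0) (hd : d ≠ 0) :
    IsSquare (c * d) ↔ (IsSquare c ↔ IsSquare d) := by
  classical
  rw [← quadraticChar_one_iff_isSquare hc, ← quadraticChar_one_iff_isSquare hd,
    ← quadraticChar_one_iff_isSquare (mul_ne_zero hc hd), map_mul]
  rcases quadraticChar_dichotomy hc with h | h <;> rcases quadraticChar_dichotomy hd with h' | h' <;>
    rw [h, h'] <;> norm_num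

section SpinorIndex

variable {ι : Type} [Fintype ι] [DecidableEq ι] {F : Type*} [Field F] {Q : (ι → F) → F}
variable (hQ : Cfsg.Geo.IsNondegenerateQuadraticForm Q)
include hQ

/-- triviality of the spinor norm is multiplicative over finite fields -/
theorem spin_mul_iff [Fintype F] (hgen : Cfsg.isometryGroup F Q ≤ RR hQ) (g h : GL ι F)
    (hg : g ∈ Cfsg.isometryGroup F Q) (hh : h ∈ Cfsg.isometryGroup F Q) :
    spin Q (g * h) ↔ (spin Q g ↔ spin Q h) := by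
  obtain ⟨c, hc⟩ := exists_WS hQ g hg
  obtain ⟨d, hd⟩ := exists_WS hQ h hh
  rw [spin_iff_of_mem hQ g hg c hc, spin_iff_of_mem hQ h hh d hd,
    spin_iff_of_mem hQ _ (mul_mem hg hh) _ (WS_mul hQ hgen g h hg hh c d hc hd)]
  exact isSquare_mul_iff (WS_ne_zero g c hc) (WS_ne_zero h d hd)

lemma WS_rf (x : ι → F) (hx : Q x ≠ 0) : -Q x ∈ WS Q (rf hQ x) := by
  have := WS_rf_mul hQ 1 (one_mem _) x hx 1 WS_one
  rwa [mul_one, mul_one] at this

lemma spin_rf (x : ι → F) (hx : Q x ≠ 0) : spin Q (rf hQ x) ↔ IsSquare (-Q x) :=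
  spin_iff_of_mem hQ _ (rf_mem hQ x) _ (WS_rf hQ x hx)

/-- the isometries of even residual rank, as a subgroup of the isometry group -/
def evenO (hgen : Cfsg.isometryGroup F Q ≤ RR hQ) : Subgroup ↥(Cfsg.isometryGroup F Q) :=
  (evenG hQ hgen).comap (Cfsg.isometryGroup F Q).subtype

lemma mem_evenO (hgen : Cfsg.isometryGroup F Q ≤ RR hQ) (g : ↥(Cfsg.isometryGroup F Q)) :
    g ∈ evenO hQ hgen ↔ par (g : GL ι F) := by
  unfold evenO
  rw [Subgroup.mem_comap, mem_evenG]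
  exact ⟨fun h => h.2, fun h => ⟨g.2, h⟩⟩

lemma omega_le_evenO (hgen : Cfsg.isometryGroup F Q ≤ RR hQ) :
    Cfsg.Omega F Q ≤ evenO hQ hgen := by
  intro g hg
  rw [mem_evenO]
  exact omega_par_gen hQ hgen g hg

lemma evenO_index (hgen : Cfsg.isometryGroup F Q ≤ RR hQ) (x : ι → F) (hx : Q x ≠ 0) :
    (evenO hQ hgen).index = 2 := by
  rw [Subgroup.index_eq_two_iff]
  refine ⟨R hQ x, fun b => ?_⟩
  rw [mem_evenO, mem_evenO]
  have h1 : ((b * R hQ x : ↥(Cfsg.isometryGroup F Q)) : GL ι F) = (b : GL ι F) * rf hQ x := rfl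
  have h2 := par_mul_rf_right hQ hgen (b : GL ι F) b.2 x hx
  rw [h1]
  unfold Xor
  tauto

/-- `Ω` has index four -/
theorem omega_index_four [Fintype F] (h2 : (2 : F) ≠ 0) (hn : 2 ≤ Fintype.card ι)
    (hgen : Cfsg.isometryGroup F Q ≤ RR hQ) : (Cfsg.Omega F Q).index = 4 := by
  classical
  have hchar : ringChar F ≠ 2 := by
    intro h
    have : CharP F 2 := by rw [← h]; exact ringChar.charP F
    exact h2 (by exact_mod_cast CharP.cast_eq_zero F 2)
  obtain ⟨ν, hν⟩ := FiniteField.exists_nonsquare hchar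
  obtain ⟨e₁, he₁⟩ := exists_norm_eq hQ h2 hn (-1)
  obtain ⟨e₂, he₂⟩ := exists_norm_eq hQ h2 hn (-ν)
  have hν0 : ν ≠ 0 := by
    rintro rfl
    exact hν ⟨0, by ring⟩
  have hq₁ : Q e₁ ≠ 0 := by rw [he₁]; exact neg_ne_zero.2 one_ne_zero
  have hq₂ : Q e₂ ≠ 0 := by rw [he₂]; exact neg_ne_zero.2 hν0
  have hs₁ : spin Q (rf hQ e₁) := by
    rw [spin_rf hQ e₁ hq₁, he₁, neg_neg]
    exact ⟨1, by ring⟩
  have hs₂ : ¬ spin Q (rf hQ e₂) := by
    rw [spin_rf hQ e₂ hq₂, he₂, neg_neg]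
    exact hν
  have hs₁₂ : ¬ spin Q (rf hQ e₁ * rf hQ e₂) := by
    rw [spin_mul_iff hQ hgen _ _ (rf_mem hQ e₁) (rf_mem hQ e₂)]
    tauto
  have hE := evenO_index hQ hgen e₁ hq₁
  have hle := omega_le_evenO hQ hgen
  have hp₁₂ : par (rf hQ e₁ * rf hQ e₂) := by
    rw [par_mul_gen hQ hgen _ _ (rf_mem hQ e₁) (rf_mem hQ e₂)]
    have := not_par_rf hQ e₁ hq₁
    have := not_par_rf hQ e₂ hq₂
    tauto
  have hrel : (Cfsg.Omega F Q).relIndex (evenO hQ hgen) = 2 := by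
    unfold Subgroup.relIndex
    rw [Subgroup.index_eq_two_iff]
    refine ⟨⟨R hQ e₁ * R hQ e₂, (mem_evenO hQ hgen _).2 hp₁₂⟩, fun b => ?_⟩
    rw [Subgroup.mem_subgroupOf, Subgroup.mem_subgroupOf, mem_omega_iff hQ h2 hgen,
      mem_omega_iff hQ h2 hgen]
    have hb : par ((b : ↥(Cfsg.isometryGroup F Q)) : GL ι F) := (mem_evenO hQ hgen _).1 b.2
    have h1 : (((b * ⟨R hQ e₁ * R hQ e₂, (mem_evenO hQ hgen _).2 hp₁₂⟩ : ↥(evenO hQ hgen)) :
        ↥(Cfsg.isometryGroup F Q)) : GL ι F) =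
        ((b : ↥(Cfsg.isometryGroup F Q)) : GL ι F) * (rf hQ e₁ * rf hQ e₂) := rfl
    rw [h1]
    have h3 := spin_mul_iff hQ hgen ((b : ↥(Cfsg.isometryGroup F Q)) : GL ι F)
      (rf hQ e₁ * rf hQ e₂) (b : ↥(Cfsg.isometryGroup F Q)).2
      (mul_mem (rf_mem hQ e₁) (rf_mem hQ e₂))
    have h4 : par (((b : ↥(Cfsg.isometryGroup F Q)) : GL ι F) * (rf hQ e₁ * rf hQ e₂)) := by
      rw [par_mul_gen hQ hgen _ _ (b : ↥(Cfsg.isometryGroup F Q)).2
        (mul_mem (rf_mem hQ e₁) (rf_mem hQ e₂))]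
      tauto
    unfold Xor
    clear h1
    generalize spin Q (((b : ↥(Cfsg.isometryGroup F Q)) : GL ι F) * (rf hQ e₁ * rf hQ e₂)) = A
      at h3 ⊢
    generalize par (((b : ↥(Cfsg.isometryGroup F Q)) : GL ι F) * (rf hQ e₁ * rf hQ e₂)) = B
      at h4 ⊢
    generalize spin Q ((b : ↥(Cfsg.isometryGroup F Q)) : GL ι F) = C at h3 ⊢
    generalize par ((b : ↥(Cfsg.isometryGroup F Q)) : GL ι F) = D at hb ⊢
    generalize spin Q (rf hQ e₁ * rf hQ e₂) = E at h3 hs₁₂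
    clear hE hle hs₁ hs₂
    tauto
  have := Subgroup.relIndex_mul_index hle
  rw [hrel, hE] at this
  omega

end SpinorIndex

end Cfsg.Agent.Lib.Helper5.OrthSN
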