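import Mathlib
import Cfsg.Agent.Lib.Helper5.Orth.Universal

set_option autoImplicit false
set_option linter.unusedSectionVars false
open Cfsg

/-!
Universality of nondegenerate subspaces of dimension at least two (finite fields, odd
characteristic).
-/

namespace Cfsg.Agent.Lib.Helper5.OrthUniv

open Matrix Cfsg.Agent.H9.Orth Cfsg.Agent.Lib.Helper5.OrthTv Cfsg.Agent.Lib.Helper5.OrthPar

section UnivSub

variable {ι : Type} [Fintype ι] [DecidableEq ι] {F : Type*} [Field F] {Q : (ι → F) → F}
variable (hQ : Cfsg.Geo.IsNondegenerateQuadraticForm Q)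
include hQ

/-- a nonzero nondegenerate subspace contains a nonsingular vector -/
lemma exists_nonsing_sub (P : Submodule F (ι → F)) (hP : P ⊓ perp hQ P = ⊥) (hP0 : P ≠ ⊥) :
    ∃ x ∈ P, Q x ≠ 0 := by
  by_contra hcon
  push Not at hcon
  apply hP0
  rw [eq_bot_iff, ← hP]
  intro a ha
  refine ⟨ha, ?_⟩
  rw [SetLike.mem_coe, mem_perp]
  intro b hb
  have := Q_add Q b a
  rw [hcon _ (P.add_mem hb ha), hcon _ ha, hcon _ hb] at this
  linear_combination -this

/-- a nonsingular vector of a nondegenerate subspace perpendicular to a given nonsingular vector -/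
lemma exists_nonsing_perp_sub (h2 : (2 : F) ≠ 0) (P : Submodule F (ι → F))
    (hP : P ⊓ perp hQ P = ⊥) (hd : 2 ≤ Module.finrank F P) (x : ι → F) (hxP : x ∈ P)
    (hx : Q x ≠ 0) : ∃ y ∈ P, pol Q x y = 0 ∧ Q y ≠ 0 := by
  by_contra hcon
  push Not at hcon
  set H := perp hQ (Submodule.span F {x}) with hH
  have hx0 := ne_zero_of_Q_ne hQ x hx
  have hHrank : Module.finrank F H = Fintype.card ι - 1 := by
    rw [hH, finrank_perp, finrank_span_singleton hx0]
  have hsum := Submodule.finrank_sup_add_finrank_inf_eq P H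
  have hle : Module.finrank F ↥(P ⊔ H) ≤ Fintype.card ι := by
    have := (P ⊔ H).finrank_le
    rwa [Module.finrank_fintype_fun_eq_card] at this
  have hPle : Module.finrank F P ≤ Fintype.card ι := by
    have := P.finrank_le
    rwa [Module.finrank_fintype_fun_eq_card] at this
  have hrank : 1 ≤ Module.finrank F ↥(P ⊓ H) := by omega
  have hne : P ⊓ H ≠ ⊥ := by
    intro h
    rw [h, finrank_bot] at hrank
    omega
  obtain ⟨y₁, hy₁, hy₁0⟩ := Submodule.exists_mem_ne_zero_of_ne_bot hne
  have hy₁P : y₁ ∈ P := hy₁.1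
  have hy₁x : pol Q x y₁ = 0 := by
    have : y₁ ∈ perp hQ (Submodule.span F {x}) := hy₁.2
    rwa [mem_perp_span_singleton] at this
  apply hy₁0
  have : y₁ ∈ P ⊓ perp hQ P := by
    refine ⟨hy₁P, ?_⟩
    rw [SetLike.mem_coe, mem_perp]
    intro w hw
    have hxx : pol Q x x ≠ 0 := by
      rw [pol_self hQ]
      exact mul_ne_zero h2 hx
    set c := pol Q x w / pol Q x x with hc
    set w' := w - c • x with hw'
    have hw'P : w' ∈ P := P.sub_mem hw (P.smul_mem _ hxP)
    have hxw' : pol Q x w' = 0 := by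
      rw [hw', pol_sub_right hQ, pol_smul_right hQ, hc]
      field_simp
      ring
    have e : w = w' + c • x := by rw [hw']; abel
    have h1 : pol Q w' y₁ = 0 := by
      have e1 : pol Q x (w' + y₁) = 0 := by rw [pol_add_right hQ, hxw', hy₁x, add_zero]
      have := Q_add Q w' y₁
      rw [hcon _ (P.add_mem hw'P hy₁P) e1, hcon _ hw'P hxw', hcon _ hy₁P hy₁x] at this
      linear_combination -this
    rw [e, pol_add_left hQ, pol_smul_left hQ, h1, hy₁x]
    ring
  rw [hP] at this
  exact (Submodule.mem_bot F).1 this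

/-- universality of nondegenerate subspaces of dimension at least two -/
theorem exists_norm_eq_sub [Fintype F] (h2 : (2 : F) ≠ 0) (P : Submodule F (ι → F))
    (hP : P ⊓ perp hQ P = ⊥) (hd : 2 ≤ Module.finrank F P) (c : F) :
    ∃ v ∈ P, Q v = c := by
  classical
  have hP0 : P ≠ ⊥ := by
    intro h
    rw [h, finrank_bot] at hd
    omega
  obtain ⟨x₀, hx₀P, hx₀⟩ := exists_nonsing_sub hQ P hP hP0
  obtain ⟨y₀, hy₀P, hxy, hy₀⟩ := exists_nonsing_perp_sub hQ h2 P hP hd x₀ hx₀P hx₀
  have hchar : ringChar F ≠ 2 := by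
    intro h
    have : CharP F 2 := by rw [← h]; exact ringChar.charP F
    exact h2 (by exact_mod_cast CharP.cast_eq_zero F 2)
  have hodd : Fintype.card F % 2 = 1 := FiniteField.odd_card_of_char_ne_two hchar
  have hf : (Polynomial.C (Q x₀) * Polynomial.X ^ 2 : Polynomial F).degree = 2 :=
    Polynomial.degree_C_mul_X_pow 2 hx₀
  have hg : (Polynomial.C (Q y₀) * Polynomial.X ^ 2 - Polynomial.C c : Polynomial F).degree = 2 := by
    rw [Polynomial.degree_sub_eq_left_of_degree_lt]
    · exact Polynomial.degree_C_mul_X_pow 2 hy₀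
    · rw [Polynomial.degree_C_mul_X_pow 2 hy₀]
      exact lt_of_le_of_lt Polynomial.degree_C_le (by norm_num)
  obtain ⟨s, t, hst⟩ := FiniteField.exists_root_sum_quadratic hf hg hodd
  simp only [Polynomial.eval_mul, Polynomial.eval_C, Polynomial.eval_pow, Polynomial.eval_X,
    Polynomial.eval_sub] at hst
  refine ⟨s • x₀ + t • y₀, P.add_mem (P.smul_mem _ hx₀P) (P.smul_mem _ hy₀P), ?_⟩
  rw [Q_add Q, Q_smul hQ, Q_smul hQ, pol_smul_left hQ, pol_smul_right hQ, hxy]
  linear_combination hst

end UnivSub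

end Cfsg.Agent.Lib.Helper5.OrthUniv
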