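import Mathlib
import Cfsg.Prelude.Def_GeometricClasses
import Cfsg.Agent.S5667
import Cfsg.Agent.Lib.Helper5.Orth.QBasic
import Cfsg.Agent.Lib.Helper5.Orth.QGeom
import Cfsg.Agent.Lib.Helper5.Orth.PlusPlane
import Cfsg.Agent.Lib.Helper5.Orth.FrameMain

set_option autoImplicit false
set_option linter.unusedSectionVars false
open Cfsg Matrix

/-!
Over the field with three elements: the stabiliser in `Ω` of a tensor decomposition `3 ⊗ n₂`
of the polar form (both factors symmetric) is not maximal; it lies strictly inside the stabiliser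
of the decomposition into three `n₂`-spaces given by a frame of the 3-dimensional factor.
The frame lemmas for symmetric forms on `F^3` are those of `Cfsg.Agent.S5667`.
-/

namespace Cfsg.Agent.Lib.Helper5.Orth

open scoped MatrixGroups Matrix Kronecker

section tensor
variable {F : Type*} [Field F] {a b : ℕ}

/-- pure tensors in coordinates -/
def pt (u : Fin a → F) (r : Fin b → F) : Fin a × Fin b → F := fun p => u p.1 * r p.2

lemma pt_add_right (u : Fin a → F) (r r' : Fin b → F) : pt u (r + r') = pt u r + pt u r' := by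
  funext p; simp only [pt, Pi.add_apply]; ring

lemma pt_add_left (u u' : Fin a → F) (r : Fin b → F) : pt (u + u') r = pt u r + pt u' r := by
  funext p; simp only [pt, Pi.add_apply]; ring

lemma pt_smul_right (c : F) (u : Fin a → F) (r : Fin b → F) : pt u (c • r) = c • pt u r := by
  funext p; simp only [pt, Pi.smul_apply, smul_eq_mul]; ring

lemma pt_smul_left (c : F) (u : Fin a → F) (r : Fin b → F) : pt (c • u) r = c • pt u r := by
  funext p; simp only [pt, Pi.smul_apply, smul_eq_mul]; ring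

lemma kron_mulVec_pt (A : Matrix (Fin a) (Fin a) F) (B : Matrix (Fin b) (Fin b) F)
    (u : Fin a → F) (r : Fin b → F) : (A ⊗ₖ B) *ᵥ pt u r = pt (A *ᵥ u) (B *ᵥ r) := by
  funext ⟨i, j⟩
  simp only [Matrix.mulVec, dotProduct, pt, Matrix.kroneckerMap_apply, Fintype.sum_prod_type]
  rw [Finset.sum_mul_sum]
  apply Finset.sum_congr rfl
  intro k _
  apply Finset.sum_congr rfl
  intro l _
  ring

lemma gram_pt (G₁ : Matrix (Fin a) (Fin a) F) (G₂ : Matrix (Fin b) (Fin b) F)
    (u v : Fin a → F) (r r' : Fin b → F) :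
    Cfsg.Geo.formOfGram id (G₁ ⊗ₖ G₂) (pt u r) (pt v r') =
      Cfsg.Geo.formOfGram id G₁ u v * Cfsg.Geo.formOfGram id G₂ r r' := by
  unfold Cfsg.Geo.formOfGram
  simp only [pt, Matrix.kroneckerMap_apply, Fintype.sum_prod_type, id]
  rw [Finset.sum_mul_sum]
  apply Finset.sum_congr rfl
  intro i _
  rw [Finset.sum_comm]
  simp_rw [Finset.sum_mul_sum]
  rw [Finset.sum_comm]
  apply Finset.sum_congr rfl
  intro j _
  apply Finset.sum_congr rfl
  intro k _
  apply Finset.sum_congr rfl
  intro l _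
  ring

end tensor

section transport
variable {F : Type*} [Field F] {ι : Type} [Fintype ι] [DecidableEq ι] {a b : ℕ}
  (e : ι ≃ Fin a × Fin b) (P : GL ι F)

/-- the coordinate change -/
def Ps (x : Fin a × Fin b → F) : ι → F := (P : Matrix ι ι F) *ᵥ (x ∘ e)

lemma Ps_add (x y : Fin a × Fin b → F) : Ps e P (x + y) = Ps e P x + Ps e P y := by
  unfold Ps
  rw [show (x + y) ∘ e = x ∘ e + y ∘ e from rfl, Matrix.mulVec_add]

lemma Ps_smul (c : F) (x : Fin a × Fin b → F) : Ps e P (c • x) = c • Ps e P x := by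
  unfold Ps
  rw [show (c • x) ∘ e = c • (x ∘ e) from rfl, Matrix.mulVec_smul]

lemma Ps_neg (x : Fin a × Fin b → F) : Ps e P (-x) = - Ps e P x := by
  have := Ps_smul e P (-1) x
  rwa [neg_one_smul, neg_one_smul] at this

lemma Ps_injective : Function.Injective (Ps e P) := by
  intro x y h
  unfold Ps at h
  have h1 := congrArg (fun z => ((P⁻¹ : GL ι F) : Matrix ι ι F) *ᵥ z) h
  simp only [gl_inv_mulVec_mulVec] at h1
  funext p
  have h2 := congrFun h1 (e.symm p)
  simpa using h2

lemma mem_tensor' (g : GL ι F) (hg : g ∈ Cfsg.Geo.tensorProductSubgroup a b e P) :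
    ∃ (A : GL (Fin a) F) (B : GL (Fin b) F), ∀ x, (g : Matrix ι ι F) *ᵥ Ps e P x =
      Ps e P (((A : Matrix (Fin a) (Fin a) F) ⊗ₖ (B : Matrix (Fin b) (Fin b) F)) *ᵥ x) := by
  unfold Cfsg.Geo.tensorProductSubgroup at hg
  obtain ⟨k, ⟨k₀, ⟨A, B, hab⟩, rfl⟩, rfl⟩ := hg
  refine ⟨A, B, fun x => ?_⟩
  unfold Ps
  have hR : ((Cfsg.Geo.glReindex e.symm k₀ : GL ι F) : Matrix ι ι F) =
      (k₀ : Matrix (Fin a × Fin b) (Fin a × Fin b) F).submatrix e e := by
    unfold Cfsg.Geo.glReindex
    rfl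
  simp only [MulEquiv.coe_toMonoidHom, MulAut.conj_apply, Units.val_mul]
  rw [hR, ← Matrix.mulVec_mulVec, ← Matrix.mulVec_mulVec, gl_inv_mulVec_mulVec,
    Matrix.submatrix_mulVec_equiv, hab]
  have : (x ∘ ⇑e) ∘ ⇑e.symm = x := by
    funext p
    simp
  rw [this]

/-- an invertible matrix mapping a subspace into itself maps it onto itself -/
lemma map_eq_of_mapsTo (g : GL ι F) (W : Submodule F (ι → F))
    (h : ∀ v ∈ W, (g : Matrix ι ι F) *ᵥ v ∈ W) :
    W.map (Matrix.toLin' (g : Matrix ι ι F)) = W := by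
  have hinj : Function.Injective (Matrix.toLin' (g : Matrix ι ι F)) := by
    intro x y hxy
    rw [Matrix.toLin'_apply, Matrix.toLin'_apply] at hxy
    exact gl_mulVec_injective g hxy
  have hle : W.map (Matrix.toLin' (g : Matrix ι ι F)) ≤ W := by
    rintro _ ⟨v, hv, rfl⟩
    rw [Matrix.toLin'_apply]
    exact h v hv
  refine Submodule.eq_of_le_of_finrank_eq hle ?_
  exact (LinearEquiv.finrank_eq (Submodule.equivMapOfInjective _ hinj W)).symm

end transport

section setup
variable {F : Type*} [Field F] {ι : Type} [Fintype ι] [DecidableEq ι] {n₂ : ℕ}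
  (e : ι ≃ Fin 3 × Fin n₂) (P : GL ι F)
  (f₁ : (Fin 3 → F) → (Fin 3 → F) → F) (w : Fin 3 → (Fin 3 → F))

/-- the embedding of the `l`-th summand -/
def em (l : Fin 3) : (Fin n₂ → F) →ₗ[F] (ι → F) where
  toFun r := Ps e P (pt (w l) r)
  map_add' r r' := by rw [pt_add_right, Ps_add]
  map_smul' c r := by rw [pt_smul_right, Ps_smul]; rfl

lemma em_apply (l : Fin 3) (r : Fin n₂ → F) : em e P w l r = Ps e P (pt (w l) r) := rfl

/-- the three summands -/
def DT (l : Fin 3) : Submodule F (ι → F) := LinearMap.range (em e P w l)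

/-- contraction against the `l`-th frame vector -/
def CT (l : Fin 3) (x : Fin 3 × Fin n₂ → F) : Fin n₂ → F := fun j => f₁ (fun k => x (k, j)) (w l)

lemma CT_pt (hf : Cfsg.Geo.IsBilinearForm f₁) (l : Fin 3) (u : Fin 3 → F) (r : Fin n₂ → F) :
    CT f₁ w l (pt u r) = f₁ u (w l) • r := by
  funext j
  unfold CT pt
  have : (fun k => u k * r j) = r j • u := by
    funext k
    simp [mul_comm]
  simp only
  rw [this, hf.smul_left, Pi.smul_apply, smul_eq_mul, mul_comm]

lemma CT_add (hf : Cfsg.Geo.IsBilinearForm f₁) (l : Fin 3) (x y : Fin 3 × Fin n₂ → F) :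
    CT f₁ w l (x + y) = CT f₁ w l x + CT f₁ w l y := by
  funext j
  unfold CT
  have : (fun k => (x + y) (k, j)) = (fun k => x (k, j)) + (fun k => y (k, j)) := rfl
  rw [this, hf.add_left]
  rfl

end setup

end Cfsg.Agent.Lib.Helper5.Orth
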