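import Mathlib
import Cfsg.Prelude.Def_GeometricClasses
import Cfsg.Agent.Lib.Helper5.Orth.QBasic

set_option autoImplicit false
set_option linter.unusedSectionVars false
open Cfsg Matrix

/-!
The standard quadratic form `x₀² + Σ xᵢ yᵢ` in odd dimension is a non-degenerate quadratic form
(in the sense of `IsNondegenerateQuadraticForm`) in characteristic different from two.
-/

namespace Cfsg.Agent.Lib.Helper5.Orth

variable {F : Type*} [Field F] (m : ℕ)

lemma polar_quadFormOdd (u v : Unit ⊕ (Fin m ⊕ Fin m) → F) :
    QuadraticMap.polar (Cfsg.quadFormOdd m F) u v =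
      2 * u (.inl ()) * v (.inl ()) +
        ∑ i : Fin m, (u (.inr (.inl i)) * v (.inr (.inr i)) + v (.inr (.inl i)) * u (.inr (.inr i))) := by
  rw [QuadraticMap.polar]
  simp only [Cfsg.quadFormOdd, Pi.add_apply]
  have h : ∀ i : Fin m, (u (.inr (.inl i)) + v (.inr (.inl i))) *
      (u (.inr (.inr i)) + v (.inr (.inr i))) =
      u (.inr (.inl i)) * u (.inr (.inr i)) + v (.inr (.inl i)) * v (.inr (.inr i)) +
        (u (.inr (.inl i)) * v (.inr (.inr i)) + v (.inr (.inl i)) * u (.inr (.inr i))) := by
    intro i; ring
  simp only [h, Finset.sum_add_distrib]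
  ring

lemma quadFormOdd_nondeg (h2 : (2 : F) ≠ 0) :
    Cfsg.Geo.IsNondegenerateQuadraticForm (Cfsg.quadFormOdd m F) := by
  refine ⟨?_, ⟨?_, ?_, ?_, ?_⟩, ?_⟩
  · intro c v
    simp only [Cfsg.quadFormOdd, Pi.smul_apply, smul_eq_mul]
    have h : ∀ i : Fin m, c * v (.inr (.inl i)) * (c * v (.inr (.inr i))) =
        c ^ 2 * (v (.inr (.inl i)) * v (.inr (.inr i))) := by
      intro i; ring
    simp only [h, ← Finset.mul_sum]
    ring
  · intro x y v
    simp only [polar_quadFormOdd, Pi.add_apply]
    rw [add_add_add_comm, ← Finset.sum_add_distrib]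
    congr 1
    · ring
    · apply Finset.sum_congr rfl
      intro i _
      ring
  · intro c x v
    simp only [polar_quadFormOdd, Pi.smul_apply, smul_eq_mul]
    rw [mul_add, Finset.mul_sum]
    congr 1
    · ring
    · apply Finset.sum_congr rfl
      intro i _
      ring
  · intro v x y
    simp only [polar_quadFormOdd, Pi.add_apply]
    rw [add_add_add_comm, ← Finset.sum_add_distrib]
    congr 1
    · ring
    · apply Finset.sum_congr rfl
      intro i _
      ring
  · intro c v x
    simp only [polar_quadFormOdd, Pi.smul_apply, smul_eq_mul]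
    rw [mul_add, Finset.mul_sum]
    congr 1
    · ring
    · apply Finset.sum_congr rfl
      intro i _
      ring
  · intro v hv
    have key : ∃ x, QuadraticMap.polar (Cfsg.quadFormOdd m F) x v ≠ 0 := by
      by_contra hall
      push Not at hall
      apply hv
      funext j
      rcases j with ⟨⟩ | j | j
      · have := hall (Pi.single (.inl ()) 1)
        rw [polar_quadFormOdd] at this
        simp only [Pi.single_apply, reduceCtorEq, if_false, zero_mul, mul_zero, add_zero,
          Finset.sum_const_zero, if_true, mul_one, one_mul] at this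
        exact (mul_eq_zero.1 this).resolve_left h2
      · have := hall (Pi.single (.inr (.inr j)) 1)
        rw [polar_quadFormOdd] at this
        simp only [Pi.single_apply, reduceCtorEq, if_false, zero_mul, mul_zero, add_zero,
          Sum.inr.injEq, zero_add, mul_ite, mul_one, Finset.sum_ite_eq', Finset.mem_univ,
          if_true] at this
        exact this
      · have := hall (Pi.single (.inr (.inl j)) 1)
        rw [polar_quadFormOdd] at this
        simp only [Pi.single_apply, reduceCtorEq, if_false, zero_mul, mul_zero, add_zero,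
          Sum.inr.injEq, Sum.inl.injEq, zero_add, ite_mul, one_mul, Finset.sum_ite_eq',
          Finset.mem_univ, if_true] at this
        exact this
    refine ⟨key, ?_⟩
    obtain ⟨x, hx⟩ := key
    exact ⟨x, by rwa [QuadraticMap.polar_comm]⟩

end Cfsg.Agent.Lib.Helper5.Orth
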