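import Mathlib
import Cfsg.Agent.Lib.Helper5.Orth.SpinorOdd
import Cfsg.Agent.Lib.Helper5.Orth.SumForm
import Cfsg.Agent.Lib.Helper5.Orth.ParityTwoAll
import Cfsg.Agent.H9.OrthP

set_option autoImplicit false
set_option linter.unusedSectionVars false
open Cfsg

/-!
Orthogonal sums: `diag(g₁, 1) ∈ Ω(Q₁ ⊕ Q₂)` iff `g₁ ∈ Ω(Q₁)`.
-/

namespace Cfsg.Agent.Lib.Helper5.OrthSN

open Matrix Cfsg.Agent.H9.Orth Cfsg.Agent.Lib.Helper5.OrthTv Cfsg.Agent.Lib.Helper5.OrthPar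

section General

variable {ι : Type} [Fintype ι] [DecidableEq ι] {F : Type*} [Field F] {Q : (ι → F) → F}
variable (hQ : Cfsg.Geo.IsNondegenerateQuadraticForm Q)
include hQ

/-- membership in `Ω` of a product of reflections, all finite fields -/
theorem prod_R_mem_omega_iff_all [Fintype F] (h : Fintype.card F ≠ 2 ∨ Fintype.card ι ≠ 4)
    (xs : List (ι → F)) (hxs : ∀ x ∈ xs, Q x ≠ 0) :
    (xs.map (R hQ)).prod ∈ Cfsg.Omega F Q ↔
      Even xs.length ∧ ((2 : F) ≠ 0 → IsSquare (xs.map Q).prod) := by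
  have hgen : Cfsg.isometryGroup F Q ≤ RR hQ := Cfsg.Agent.H9.Orth.iso_le_RR hQ h
  by_cases h2 : (2 : F) = 0
  · have : CharP F 2 := by
      have hne : ringChar F = 2 := by
        have hdvd : ringChar F ∣ 2 := by
          apply ringChar.dvd
          exact_mod_cast h2
        have hp := CharP.char_is_prime_or_zero F (ringChar F)
        rcases hp with hp | hp
        · exact (Nat.prime_dvd_prime_iff_eq hp Nat.prime_two).1 hdvd
        · rw [hp] at hdvd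
          omega
      rw [← hne]
      exact ringChar.charP F
    rw [mem_omega_iff_even_all hQ h, val_prod_R]
    have := par_prod hQ xs hxs
    unfold par at this
    rw [this]
    constructor
    · intro he
      exact ⟨he, fun h' => absurd h2 h'⟩
    · intro he
      exact he.1
  · rw [prod_R_mem_omega_iff hQ h2 hgen xs hxs]
    constructor
    · rintro ⟨he, hs⟩
      exact ⟨he, fun _ => hs⟩
    · rintro ⟨he, hs⟩
      exact ⟨he, hs h2⟩

end General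

section Sum

variable {ι₁ ι₂ : Type} [Fintype ι₁] [DecidableEq ι₁] [Fintype ι₂] [DecidableEq ι₂]
variable {F : Type*} [Field F] {Q₁ : (ι₁ → F) → F} {Q₂ : (ι₂ → F) → F}
variable (h₁ : Cfsg.Geo.IsNondegenerateQuadraticForm Q₁)
variable (h₂ : Cfsg.Geo.IsNondegenerateQuadraticForm Q₂)
include h₁ h₂

lemma sumForm_elim_zero (x : ι₁ → F) : sumForm Q₁ Q₂ (Sum.elim x 0) = Q₁ x := by
  show Q₁ (Sum.elim x 0 ∘ Sum.inl) + Q₂ (Sum.elim x 0 ∘ Sum.inr) = Q₁ x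
  rw [Sum.elim_comp_inl, Sum.elim_comp_inr, Q_zero h₂, add_zero]

lemma blockGL_rf_one (x : ι₁ → F) (hx : Q₁ x ≠ 0) :
    blockGL (rf h₁ x) (1 : GL ι₂ F) = rf (sumForm_nondeg h₁ h₂) (Sum.elim x 0) := by
  have hx' : sumForm Q₁ Q₂ (Sum.elim x 0) ≠ 0 := by
    rw [sumForm_elim_zero h₁ h₂]; exact hx
  apply gl_ext
  intro v
  have hp : pol (sumForm Q₁ Q₂) v (Sum.elim x 0) = pol Q₁ (v ∘ Sum.inl) x := by
    show QuadraticMap.polar (sumForm Q₁ Q₂) v (Sum.elim x 0) = _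
    rw [polar_sumForm, Sum.elim_comp_inl, Sum.elim_comp_inr]
    have : QuadraticMap.polar Q₂ (v ∘ Sum.inr) 0 = 0 := pol_zero_right h₂ _
    rw [this, add_zero]
  rw [act_blockGL, act_rf h₁ x hx, act_one, act_rf (sumForm_nondeg h₁ h₂) _ hx',
    sumForm_elim_zero h₁ h₂, hp]
  ext k
  rcases k with k | k
  · simp
  · simp

lemma blockGL_mul_one (a b : GL ι₁ F) :
    blockGL (a * b) (1 : GL ι₂ F) = blockGL a 1 * blockGL b 1 := by
  apply Units.ext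
  rw [Units.val_mul, blockGL_val, blockGL_val, blockGL_val, Matrix.fromBlocks_multiply]
  simp

lemma blockGL_one_one : blockGL (1 : GL ι₁ F) (1 : GL ι₂ F) = 1 := by
  apply Units.ext
  rw [blockGL_val]
  simp

lemma blockGL_prod_rf (xs : List (ι₁ → F)) (hxs : ∀ x ∈ xs, Q₁ x ≠ 0) :
    blockGL (xs.map (rf h₁)).prod (1 : GL ι₂ F) =
      ((xs.map (fun x => (Sum.elim x 0 : ι₁ ⊕ ι₂ → F))).map (rf (sumForm_nondeg h₁ h₂))).prod := by
  induction xs with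
  | nil => simpa using blockGL_one_one h₁ h₂
  | cons x xs ih =>
    rw [List.map_cons, List.prod_cons, blockGL_mul_one h₁ h₂, List.map_cons, List.map_cons,
      List.prod_cons, ih (fun y hy => hxs y (List.mem_cons_of_mem x hy)),
      blockGL_rf_one h₁ h₂ x (hxs x List.mem_cons_self)]

/-- `diag(g₁, 1) ∈ Ω(Q₁ ⊕ Q₂)` iff `g₁ ∈ Ω(Q₁)` -/
theorem blockGL_one_mem_omega_iff [Fintype F] (hc₁ : Fintype.card F ≠ 2 ∨ Fintype.card ι₁ ≠ 4)
    (hc : Fintype.card F ≠ 2 ∨ Fintype.card (ι₁ ⊕ ι₂) ≠ 4)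
    (g₁ : ↥(Cfsg.isometryGroup F Q₁)) :
    (⟨blockGL (g₁ : GL ι₁ F) 1, blockGL_mem _ _ g₁.2 (one_mem _)⟩ :
      ↥(Cfsg.isometryGroup F (sumForm Q₁ Q₂))) ∈ Cfsg.Omega F (sumForm Q₁ Q₂) ↔
      g₁ ∈ Cfsg.Omega F Q₁ := by
  have hgen₁ : Cfsg.isometryGroup F Q₁ ≤ RR h₁ := Cfsg.Agent.H9.Orth.iso_le_RR h₁ hc₁
  obtain ⟨xs, hxs, hg₁⟩ := exists_list h₁ hgen₁ (g₁ : GL ι₁ F) g₁.2
  have e₁ : g₁ = (xs.map (R h₁)).prod := by
    apply Subtype.ext
    rw [val_prod_R, ← hg₁]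
  set ys : List (ι₁ ⊕ ι₂ → F) := xs.map (fun x => (Sum.elim x 0 : ι₁ ⊕ ι₂ → F)) with hys
  have hys0 : ∀ y ∈ ys, sumForm Q₁ Q₂ y ≠ 0 := by
    intro y hy
    obtain ⟨x, hx, rfl⟩ := List.mem_map.1 hy
    rw [sumForm_elim_zero h₁ h₂]
    exact hxs x hx
  have e : (⟨blockGL (g₁ : GL ι₁ F) 1, blockGL_mem _ _ g₁.2 (one_mem _)⟩ :
      ↥(Cfsg.isometryGroup F (sumForm Q₁ Q₂))) = (ys.map (R (sumForm_nondeg h₁ h₂))).prod := by
    apply Subtype.ext
    rw [val_prod_R]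
    show blockGL (g₁ : GL ι₁ F) 1 = _
    rw [hg₁, blockGL_prod_rf h₁ h₂ xs hxs]
  rw [e, e₁, prod_R_mem_omega_iff_all (sumForm_nondeg h₁ h₂) hc ys hys0,
    prod_R_mem_omega_iff_all h₁ hc₁ xs hxs]
  have hlen : ys.length = xs.length := by rw [hys, List.length_map]
  have hprod : (ys.map (sumForm Q₁ Q₂)).prod = (xs.map Q₁).prod := by
    rw [hys, List.map_map]
    congr 1
    apply List.map_congr_left
    intro x _
    exact sumForm_elim_zero h₁ h₂ x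
  rw [hlen, hprod]

end Sum

end Cfsg.Agent.Lib.Helper5.OrthSN
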