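import Mathlib
import Cfsg.Agent.Lib.Helper5.Orth.SpinorSum
import Cfsg.Agent.Lib.Helper5.Orth.SpinorIndex

set_option autoImplicit false
set_option linter.unusedSectionVars false
open Cfsg

/-!
Adjusting an isometry by elements of a subgroup to land in `Ω`; hyperbolic rotations.
-/

namespace Cfsg.Agent.Lib.Helper5.OrthSN

open Matrix Cfsg.Agent.H9.Orth Cfsg.Agent.Lib.Helper5.OrthTv Cfsg.Agent.Lib.Helper5.OrthPar

section Trans

variable {ι : Type} [Fintype ι] [DecidableEq ι] {F : Type*} [Field F] {Q : (ι → F) → F}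
variable (hQ : Cfsg.Geo.IsNondegenerateQuadraticForm Q)
include hQ

lemma charP_two_of_two_eq_zero (h2 : (2 : F) = 0) : CharP F 2 := by
  have hne : ringChar F = 2 := by
    have hdvd : ringChar F ∣ 2 := by
      apply ringChar.dvd
      exact_mod_cast h2
    have hp := CharP.char_is_prime_or_zero F (ringChar F)
    rcases hp with hp | hp
    · exact (Nat.prime_dvd_prime_iff_eq hp Nat.prime_two).1 hdvd
    · rw [hp] at hdvd
      omega
  rw [← hne]
  exact ringChar.charP F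

/-- in characteristic two every spinor norm is trivial -/
lemma spin_of_char_two [Fintype F] (h2 : (2 : F) = 0) (g : GL ι F)
    (hg : g ∈ Cfsg.isometryGroup F Q) : spin Q g := by
  obtain ⟨c, hc⟩ := exists_WS hQ g hg
  have := charP_two_of_two_eq_zero hQ h2
  exact ⟨c, hc, FiniteField.isSquare_of_char_two (CharP.ringChar_of_prime_eq_zero Nat.prime_two h2) c⟩

/-- `Ω` is the set of isometries with even residual rank and trivial spinor norm (all finite
fields) -/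
theorem mem_omega_iff_fin [Fintype F] (h : Fintype.card F ≠ 2 ∨ Fintype.card ι ≠ 4)
    (g : ↥(Cfsg.isometryGroup F Q)) :
    g ∈ Cfsg.Omega F Q ↔ par (g : GL ι F) ∧ spin Q (g : GL ι F) := by
  have hgen : Cfsg.isometryGroup F Q ≤ RR hQ := Cfsg.Agent.H9.Orth.iso_le_RR hQ h
  by_cases h2 : (2 : F) = 0
  · have := charP_two_of_two_eq_zero hQ h2
    rw [mem_omega_iff_even_all hQ h]
    have := spin_of_char_two hQ h2 (g : GL ι F) g.2
    unfold par
    tauto
  · exact mem_omega_iff hQ h2 hgen g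

/-- adjusting an isometry by an element of a subgroup `S` to land in `Ω` -/
theorem exists_adjust [Fintype F] (h : Fintype.card F ≠ 2 ∨ Fintype.card ι ≠ 4)
    (S : Subgroup (GL ι F)) (hS : S ≤ Cfsg.isometryGroup F Q)
    (ha : ∃ s ∈ S, ¬ par s) (hb : (2 : F) ≠ 0 → ∃ s ∈ S, par s ∧ ¬ spin Q s)
    (g₀ : GL ι F) (hg₀ : g₀ ∈ Cfsg.isometryGroup F Q) :
    ∃ s ∈ S, par (g₀ * s) ∧ spin Q (g₀ * s) := by
  have hgen : Cfsg.isometryGroup F Q ≤ RR hQ := Cfsg.Agent.H9.Orth.iso_le_RR hQ h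
  -- first fix the parity
  have step1 : ∃ s ∈ S, par (g₀ * s) := by
    by_cases hp : par g₀
    · exact ⟨1, S.one_mem, by rwa [mul_one]⟩
    · obtain ⟨s, hs, hsp⟩ := ha
      refine ⟨s, hs, ?_⟩
      rw [par_mul_gen hQ hgen g₀ s hg₀ (hS hs)]
      tauto
  obtain ⟨s₁, hs₁, hp₁⟩ := step1
  have hg₁ : g₀ * s₁ ∈ Cfsg.isometryGroup F Q := mul_mem hg₀ (hS hs₁)
  by_cases hsp : spin Q (g₀ * s₁)
  · exact ⟨s₁, hs₁, hp₁, hsp⟩
  · have h2 : (2 : F) ≠ 0 := by
      intro h2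
      exact hsp (spin_of_char_two hQ h2 _ hg₁)
    obtain ⟨s₂, hs₂, hp₂, hsp₂⟩ := hb h2
    refine ⟨s₁ * s₂, S.mul_mem hs₁ hs₂, ?_, ?_⟩
    · rw [← mul_assoc, par_mul_gen hQ hgen _ s₂ hg₁ (hS hs₂)]
      tauto
    · rw [← mul_assoc, spin_mul_iff hQ hgen _ s₂ hg₁ (hS hs₂)]
      tauto

end Trans

end Cfsg.Agent.Lib.Helper5.OrthSN
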