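import Mathlib
import Cfsg.Agent.Lib.Helper5.Orth.SpinorTrans

set_option autoImplicit false
set_option linter.unusedSectionVars false
open Cfsg

/-!
Hyperbolic rotations `u ↦ a u`, `f ↦ a⁻¹ f` as products of two reflections.
-/

namespace Cfsg.Agent.Lib.Helper5.OrthSN

open Matrix Cfsg.Agent.H9.Orth Cfsg.Agent.Lib.Helper5.OrthTv Cfsg.Agent.Lib.Helper5.OrthPar

section HypRot

variable {ι : Type} [Fintype ι] [DecidableEq ι] {F : Type*} [Field F] {Q : (ι → F) → F}
variable (hQ : Cfsg.Geo.IsNondegenerateQuadraticForm Q)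
include hQ

/-- the hyperbolic rotation `u ↦ a u`, `f ↦ a⁻¹ f` -/
noncomputable def hypE (u f : ι → F) (a : F) : GL ι F := rf hQ (u - f) * rf hQ (u - a • f)

lemma hypE_mem (u f : ι → F) (a : F) : hypE hQ u f a ∈ Cfsg.isometryGroup F Q :=
  mul_mem (rf_mem hQ _) (rf_mem hQ _)

variable (u f : ι → F) (hu : Q u = 0) (hf : Q f = 0) (huf : pol Q u f = 1)
include hu hf huf

lemma Q_u_sub_smul (a : F) : Q (u - a • f) = -a := by
  rw [Q_sub hQ, Q_smul hQ, hu, hf, pol_smul_right hQ, huf]; ring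

lemma act_hypE_u (a : F) (ha : a ≠ 0) : act (hypE hQ u f a) u = a • u := by
  have h1 : Q (u - a • f) ≠ 0 := by rw [Q_u_sub_smul hQ u f hu hf huf]; exact neg_ne_zero.2 ha
  have h2 : Q (u - f) ≠ 0 := by
    have := Q_u_sub_smul hQ u f hu hf huf 1
    rw [one_smul] at this
    rw [this]; exact neg_ne_zero.2 one_ne_zero
  have hQ2 : Q (u - f) = -1 := by
    have := Q_u_sub_smul hQ u f hu hf huf 1
    rwa [one_smul] at this
  have e1 : act (rf hQ (u - a • f)) u = a • f := by
    rw [act_rf hQ _ h1, Q_u_sub_smul hQ u f hu hf huf, pol_sub_right hQ, pol_smul_right hQ,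
      pol_self hQ, hu, huf]
    have : (-a)⁻¹ * (2 * 0 - a * 1) = 1 := by field_simp; ring
    rw [this]
    module
  rw [hypE, act_mul, e1, act_smul, act_rf hQ _ h2, hQ2, pol_sub_right hQ, pol_self hQ, hf,
    pol_comm f u, huf]
  have : (-1 : F)⁻¹ * (1 - 2 * 0) = -1 := by norm_num
  rw [this]
  module

lemma act_hypE_f (a : F) (ha : a ≠ 0) : act (hypE hQ u f a) f = a⁻¹ • f := by
  have h1 : Q (u - a • f) ≠ 0 := by rw [Q_u_sub_smul hQ u f hu hf huf]; exact neg_ne_zero.2 ha
  have hQ2 : Q (u - f) = -1 := by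
    have := Q_u_sub_smul hQ u f hu hf huf 1
    rwa [one_smul] at this
  have h2 : Q (u - f) ≠ 0 := by rw [hQ2]; exact neg_ne_zero.2 one_ne_zero
  have e1 : act (rf hQ (u - a • f)) f = a⁻¹ • u := by
    rw [act_rf hQ _ h1, Q_u_sub_smul hQ u f hu hf huf, pol_sub_right hQ, pol_smul_right hQ,
      pol_self hQ, hf, pol_comm f u, huf]
    have : (-a)⁻¹ * (1 - a * (2 * 0)) = -a⁻¹ := by field_simp; ring
    rw [this]
    match_scalars <;> field_simp <;> ring
  rw [hypE, act_mul, e1, act_smul, act_rf hQ _ h2, hQ2, pol_sub_right hQ, pol_self hQ, hu, huf]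
  have : (-1 : F)⁻¹ * (2 * 0 - 1) = 1 := by norm_num
  rw [this]
  module

omit hu hf huf in
lemma act_hypE_perp (a : F) (w : ι → F) (hwu : pol Q w u = 0) (hwf : pol Q w f = 0) :
    act (hypE hQ u f a) w = w := by
  rw [hypE, act_mul, act_rf_perp hQ _ w (by rw [pol_sub_right hQ, pol_smul_right hQ, hwu, hwf]; ring),
    act_rf_perp hQ _ w (by rw [pol_sub_right hQ, hwu, hwf]; ring)]

lemma par_hypE (a : F) (ha : a ≠ 0) : par (hypE hQ u f a) := by
  have h1 : Q (u - a • f) ≠ 0 := by rw [Q_u_sub_smul hQ u f hu hf huf]; exact neg_ne_zero.2 ha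
  have hQ2 : Q (u - f) = -1 := by
    have := Q_u_sub_smul hQ u f hu hf huf 1
    rwa [one_smul] at this
  have h2 : Q (u - f) ≠ 0 := by rw [hQ2]; exact neg_ne_zero.2 one_ne_zero
  have := (par_prod hQ [u - f, u - a • f] (by
    intro x hx
    simp only [List.mem_cons, List.mem_nil_iff, or_false] at hx
    rcases hx with rfl | rfl
    · exact h2
    · exact h1)).2 (by simp)
  simpa [hypE] using this

lemma spin_hypE (a : F) (ha : a ≠ 0) : spin Q (hypE hQ u f a) ↔ IsSquare a := by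
  have h1 : Q (u - a • f) ≠ 0 := by rw [Q_u_sub_smul hQ u f hu hf huf]; exact neg_ne_zero.2 ha
  have hQ2 : Q (u - f) = -1 := by
    have := Q_u_sub_smul hQ u f hu hf huf 1
    rwa [one_smul] at this
  have h2 : Q (u - f) ≠ 0 := by rw [hQ2]; exact neg_ne_zero.2 one_ne_zero
  have hW := WS_prod hQ [u - f, u - a • f] (by
    intro x hx
    simp only [List.mem_cons, List.mem_nil_iff, or_false] at hx
    rcases hx with rfl | rfl
    · exact h2
    · exact h1)
  have e : ([u - f, u - a • f].map (fun x => -Q x)).prod = a := by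
    simp only [List.map_cons, List.map_nil, List.prod_cons, List.prod_nil, mul_one]
    rw [hQ2, Q_u_sub_smul hQ u f hu hf huf]
    ring
  rw [e] at hW
  have e2 : ([u - f, u - a • f].map (rf hQ)).prod = hypE hQ u f a := by
    simp [hypE]
  rw [e2] at hW
  exact spin_iff_of_mem hQ _ (hypE_mem hQ u f a) a hW

end HypRot

end Cfsg.Agent.Lib.Helper5.OrthSN
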