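import Mathlib
import Cfsg.Agent.Lib.Helper5.Orth.HypRot
import Cfsg.Agent.S0750

set_option autoImplicit false
set_option linter.unusedSectionVars false
open Cfsg

/-!
`Ω` is transitive on totally singular subspaces of dimension `k` with `2 k < n`.
-/

namespace Cfsg.Agent.Lib.Helper5.OrthSN

open Matrix Cfsg.Agent.H9.Orth Cfsg.Agent.Lib.Helper5.OrthTv Cfsg.Agent.Lib.Helper5.OrthPar

section Stab

variable {ι : Type} [Fintype ι] [DecidableEq ι] {F : Type*} [Field F]

lemma map_eq_of_mem_stab (U : Submodule F (ι → F)) (s : GL ι F)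
    (hs : s ∈ Cfsg.Geo.subspaceStabilizer U) :
    U.map (Matrix.mulVecLin (s : Matrix ι ι F)) = U := by
  rw [mem_stab_iff] at hs
  ext w
  constructor
  · rintro ⟨x, hx, rfl⟩
    exact (hs x).1 hx
  · intro hw
    refine ⟨act s⁻¹ w, ?_, ?_⟩
    · rw [SetLike.mem_coe, hs, act_act_inv]
      exact hw
    · show act s (act s⁻¹ w) = w
      rw [act_act_inv]

lemma map_mul_eq (U : Submodule F (ι → F)) (g s : GL ι F) :
    U.map (Matrix.mulVecLin ((g * s : GL ι F) : Matrix ι ι F)) =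
      (U.map (Matrix.mulVecLin (s : Matrix ι ι F))).map (Matrix.mulVecLin (g : Matrix ι ι F)) := by
  rw [Units.val_mul, Matrix.mulVecLin_mul, Submodule.map_comp]

end Stab

section Witt

variable {ι : Type} [Fintype ι] [DecidableEq ι] {F : Type*} [Field F] [Fintype F]

/-- Witt's theorem in matrix form -/
theorem witt_GL (Q : QuadraticForm F (ι → F)) (hQ : (QuadraticMap.polarBilin Q).Nondegenerate)
    (U W : Submodule F (ι → F)) (φ : U ≃ₗ[F] W)
    (hφ : ∀ x : U, Q (φ x : ι → F) = Q (x : ι → F)) :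
    ∃ g : GL ι F, g ∈ Cfsg.isometryGroup F ⇑Q ∧
      U.map (Matrix.mulVecLin (g : Matrix ι ι F)) = W := by
  obtain ⟨e, he, heφ⟩ := Cfsg.Agent.S0750.result Q hQ U W φ hφ
  refine ⟨ofLin e, ?_, ?_⟩
  · rw [mem_isometryGroup_iff]
    intro x
    rw [act_ofLin]
    exact he x
  · ext w
    constructor
    · rintro ⟨x, hx, rfl⟩
      show act (ofLin e) x ∈ W
      rw [act_ofLin]
      have := heφ ⟨x, hx⟩
      rw [this]
      exact (φ ⟨x, hx⟩).2
    · intro hw
      refine ⟨(φ.symm ⟨w, hw⟩ : ι → F), (φ.symm ⟨w, hw⟩).2, ?_⟩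
      show act (ofLin e) (φ.symm ⟨w, hw⟩ : ι → F) = w
      rw [act_ofLin, heφ, LinearEquiv.apply_symm_apply]

end Witt

section TS

variable {ι : Type} [Fintype ι] [DecidableEq ι] {F : Type*} [Field F] {Q : (ι → F) → F}
variable (hQ : Cfsg.Geo.IsNondegenerateQuadraticForm Q)
include hQ

/-- a nonsingular vector perpendicular to a small totally singular subspace -/
lemma exists_nonsing_perp_ts (U : Submodule F (ι → F)) (hU0 : ∀ u ∈ U, Q u = 0)
    (hk : 2 * Module.finrank F U < Fintype.card ι) : ∃ x ∈ perp hQ U, Q x ≠ 0 := by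
  by_contra hcon
  push Not at hcon
  have hle : perp hQ U ≤ perp hQ (perp hQ U) := by
    intro a ha
    rw [mem_perp]
    intro b hb
    have := Q_add Q b a
    rw [hcon _ ((perp hQ U).add_mem hb ha), hcon _ ha, hcon _ hb] at this
    linear_combination -this
  rw [perp_perp] at hle
  have h1 := Submodule.finrank_mono hle
  have h2 := finrank_perp hQ U
  omega

/-- reflections in vectors perpendicular to `U` stabilise `U` -/
lemma rf_mem_stab_of_perp (U : Submodule F (ι → F)) (x : ι → F) (hx : x ∈ perp hQ U) :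
    rf hQ x ∈ Cfsg.Geo.subspaceStabilizer U := by
  have h1 : ∀ v ∈ U, act (rf hQ x) v ∈ U := by
    intro v hv
    rw [act_rf_perp hQ x v ((mem_perp hQ U x).1 hx v hv)]
    exact hv
  apply mem_stab_of U _ h1
  rw [rf_inv]
  exact h1

/-- hyperbolic rotations centred in a totally singular `U` stabilise `U` -/
lemma hypE_mem_stab (U : Submodule F (ι → F)) (hU0 : ∀ u ∈ U, Q u = 0) (u f : ι → F)
    (huU : u ∈ U) (hf : Q f = 0) (huf : pol Q u f = 1) (a : F) (ha : a ≠ 0) :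
    hypE hQ u f a ∈ Cfsg.Geo.subspaceStabilizer U := by
  have hu : Q u = 0 := hU0 u huU
  have key : ∀ b : F, b ≠ 0 → ∀ v ∈ U, act (hypE hQ u f b) v ∈ U := by
    intro b hb v hv
    have hvu : pol Q v u = 0 := polar_eq_zero_of_ts U hU0 v u hv huU
    set c := pol Q v f with hc
    set v' := v - c • u with hv'
    have hv'U : v' ∈ U := U.sub_mem hv (U.smul_mem _ huU)
    have e : v = v' + c • u := by rw [hv']; abel
    have h1 : pol Q v' u = 0 := polar_eq_zero_of_ts U hU0 v' u hv'U huU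
    have h2 : pol Q v' f = 0 := by
      rw [hv', pol_sub_left hQ, pol_smul_left hQ, huf, ← hc]; ring
    rw [e, act_add, act_smul, act_hypE_perp hQ u f b v' h1 h2, act_hypE_u hQ u f hu hf huf b hb]
    exact U.add_mem hv'U (U.smul_mem _ (U.smul_mem _ huU))
  apply mem_stab_of U _ (key a ha)
  have hinv : (hypE hQ u f a)⁻¹ = hypE hQ u f a⁻¹ := by
    apply inv_eq_of_mul_eq_one_left
    apply gl_ext
    intro x
    rw [act_one]
    -- check on the decomposition x = (x - pol x f u - pol x u f) + ...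
    set c₁ := pol Q x f with hc₁
    set c₂ := pol Q x u with hc₂
    set x' := x - c₁ • u - c₂ • f with hx'
    have e : x = x' + c₁ • u + c₂ • f := by rw [hx']; abel
    have hfu : pol Q f u = 1 := by rw [pol_comm]; exact huf
    have h1 : pol Q x' u = 0 := by
      rw [hx', pol_sub_left hQ, pol_sub_left hQ, pol_smul_left hQ, pol_smul_left hQ, pol_self hQ,
        hu, hfu, ← hc₂]; ring
    have h2 : pol Q x' f = 0 := by
      rw [hx', pol_sub_left hQ, pol_sub_left hQ, pol_smul_left hQ, pol_smul_left hQ, pol_self hQ,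
        hf, huf, ← hc₁]; ring
    have ha' : a⁻¹ ≠ 0 := inv_ne_zero ha
    rw [e, act_mul]
    simp only [act_add, act_smul]
    rw [act_hypE_perp hQ u f a x' h1 h2, act_hypE_u hQ u f hu hf huf a ha,
      act_hypE_f hQ u f hu hf huf a ha]
    simp only [act_smul]
    rw [act_hypE_perp hQ u f a⁻¹ x' h1 h2, act_hypE_u hQ u f hu hf huf a⁻¹ ha',
      act_hypE_f hQ u f hu hf huf a⁻¹ ha', inv_inv]
    match_scalars <;> field_simp
  rw [hinv]
  exact key a⁻¹ (inv_ne_zero ha)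

end TS

end Cfsg.Agent.Lib.Helper5.OrthSN

namespace Cfsg.Agent.Lib.Helper5.OrthSN

open Matrix Cfsg.Agent.H9.Orth Cfsg.Agent.Lib.Helper5.OrthTv Cfsg.Agent.Lib.Helper5.OrthPar

section Main

variable {ι : Type} [Fintype ι] [DecidableEq ι] {F : Type*} [Field F] [Fintype F]

lemma ringChar_ne_two_of_two_ne_zero (h2 : (2 : F) ≠ 0) : ringChar F ≠ 2 := by
  intro h
  have : CharP F 2 := by rw [← h]; exact ringChar.charP F
  exact h2 (by exact_mod_cast CharP.cast_eq_zero F 2)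

/-- `Ω` is transitive on the totally singular `k`-subspaces, `2 k < n` -/
theorem omega_trans_ts (Q : QuadraticForm F (ι → F))
    (hQ : (QuadraticMap.polarBilin Q).Nondegenerate)
    (h : Fintype.card F ≠ 2 ∨ Fintype.card ι ≠ 4) (U W : Submodule F (ι → F)) {k : ℕ}
    (hk : 2 * k < Fintype.card ι) (hU : Module.finrank F U = k) (hW : Module.finrank F W = k)
    (hU0 : ∀ u ∈ U, Q u = 0) (hW0 : ∀ w ∈ W, Q w = 0) :
    ∃ g : ↥(Cfsg.isometryGroup F ⇑Q), g ∈ Cfsg.Omega F ⇑Q ∧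
      U.map (Matrix.mulVecLin ((g : GL ι F) : Matrix ι ι F)) = W := by
  classical
  have hQ' := Cfsg.Agent.H9.Orth.isNondeg_of_quadraticForm Q hQ
  by_cases hk0 : k = 0
  · subst hk0
    have hU' : U = ⊥ := Submodule.finrank_eq_zero.1 hU
    have hW' : W = ⊥ := Submodule.finrank_eq_zero.1 hW
    refine ⟨1, one_mem _, ?_⟩
    rw [hU', hW', Submodule.map_bot]
  have φ : U ≃ₗ[F] W := LinearEquiv.ofFinrankEq U W (by rw [hU, hW])
  obtain ⟨g₀, hg₀, hmap⟩ := witt_GL Q hQ U W φ (fun x => by rw [hU0 _ x.2, hW0 _ (φ x).2])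
  have hUne : U ≠ ⊥ := by
    intro hU'
    rw [hU', finrank_bot] at hU
    exact hk0 hU.symm
  obtain ⟨u, huU, hu0⟩ := Submodule.exists_mem_ne_zero_of_ne_bot hUne
  have hQu : Q u = 0 := hU0 u huU
  obtain ⟨f, hf, huf, -⟩ := exists_partner hQ' ⊥ u hQu
    (by rw [mem_perp]; intro w hw; rw [(Submodule.mem_bot F).1 hw, pol_zero_left hQ'])
    (by rw [Submodule.mem_bot]; exact hu0)
  set S : Subgroup (GL ι F) := Cfsg.isometryGroup F ⇑Q ⊓ Cfsg.Geo.subspaceStabilizer U with hS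
  have ha : ∃ s ∈ S, ¬ par s := by
    obtain ⟨x, hxU, hx⟩ := exists_nonsing_perp_ts hQ' U hU0 (by rw [hU]; exact hk)
    exact ⟨rf hQ' x, ⟨rf_mem hQ' x, rf_mem_stab_of_perp hQ' U x hxU⟩, not_par_rf hQ' x hx⟩
  have hb : (2 : F) ≠ 0 → ∃ s ∈ S, par s ∧ ¬ spin (⇑Q) s := by
    intro h2
    obtain ⟨ν, hν⟩ := FiniteField.exists_nonsquare (ringChar_ne_two_of_two_ne_zero h2)
    have hν0 : ν ≠ 0 := by
      rintro rfl
      exact hν ⟨0, by ring⟩
    refine ⟨hypE hQ' u f ν, ⟨hypE_mem hQ' u f ν, hypE_mem_stab hQ' U hU0 u f huU hf huf ν hν0⟩,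
      par_hypE hQ' u f hQu hf huf ν hν0, ?_⟩
    rw [spin_hypE hQ' u f hQu hf huf ν hν0]
    exact hν
  obtain ⟨s, hsS, hp, hsp⟩ := exists_adjust hQ' h S inf_le_left ha hb g₀ hg₀
  refine ⟨⟨g₀ * s, mul_mem hg₀ hsS.1⟩, ?_, ?_⟩
  · rw [mem_omega_iff_fin hQ' h]
    exact ⟨hp, hsp⟩
  · show U.map (Matrix.mulVecLin ((g₀ * s : GL ι F) : Matrix ι ι F)) = W
    rw [map_mul_eq, map_eq_of_mem_stab U s hsS.2, hmap]

end Main

end Cfsg.Agent.Lib.Helper5.OrthSN
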