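import Mathlib
import Cfsg.Agent.Lib.Helper5.Orth.TransTS
import Cfsg.Agent.Lib.Helper5.Orth.Family2

set_option autoImplicit false
set_option linter.unusedSectionVars false
open Cfsg

/-!
`Ω` is transitive on each family of maximal totally singular subspaces.
-/

namespace Cfsg.Agent.Lib.Helper5.OrthSN

open Matrix Cfsg.Agent.H9.Orth Cfsg.Agent.Lib.Helper5.OrthTv Cfsg.Agent.Lib.Helper5.OrthPar

section QF

variable {ι : Type} [Fintype ι] [DecidableEq ι] {F : Type*} [Field F] {Q : (ι → F) → F}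
variable (hQ : Cfsg.Geo.IsNondegenerateQuadraticForm Q)
include hQ

/-- a nondegenerate quadratic form in the sense of the prelude, as a Mathlib quadratic form -/
def qf : QuadraticForm F (ι → F) where
  toFun := Q
  toFun_smul a x := by rw [hQ.smul, smul_eq_mul]; ring
  exists_companion' := ⟨BF hQ, fun x y => by rw [BF_apply, Q_add Q x y]⟩

lemma qf_apply (x : ι → F) : qf hQ x = Q x := rfl

lemma qf_nondeg : (QuadraticMap.polarBilin (qf hQ)).Nondegenerate := by
  have : QuadraticMap.polarBilin (qf hQ) = BF hQ := by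
    ext x y
    rfl
  rw [this]
  exact BF_nondegenerate hQ

/-- Witt's theorem in matrix form, for prelude-style forms -/
theorem witt_GL' [Fintype F] (U W : Submodule F (ι → F)) (φ : U ≃ₗ[F] W)
    (hφ : ∀ x : U, Q (φ x : ι → F) = Q (x : ι → F)) :
    ∃ g : GL ι F, g ∈ Cfsg.isometryGroup F Q ∧
      U.map (Matrix.mulVecLin (g : Matrix ι ι F)) = W :=
  witt_GL (qf hQ) (qf_nondeg hQ) U W φ hφ

/-- `Ω` is transitive on each family of maximal totally singular subspaces -/
theorem omega_trans_maxts [Fintype F] (h : Fintype.card F ≠ 2 ∨ Fintype.card ι ≠ 4)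
    (m : ℕ) (hm : Fintype.card ι = 2 * m) (hm1 : 1 ≤ m) (U W : Submodule F (ι → F))
    (hU : IsMaxTS Q U) (hW : IsMaxTS Q W)
    (he : Even (m - Module.finrank F ↥(U ⊓ W))) :
    ∃ g : ↥(Cfsg.isometryGroup F Q), g ∈ Cfsg.Omega F Q ∧
      U.map (Matrix.mulVecLin ((g : GL ι F) : Matrix ι ι F)) = W := by
  classical
  have hgen : Cfsg.isometryGroup F Q ≤ RR hQ := Cfsg.Agent.H9.Orth.iso_le_RR hQ h
  have hdU : Module.finrank F U = m := by have := hU.2; omega
  have hdW : Module.finrank F W = m := by have := hW.2; omega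
  have φ : U ≃ₗ[F] W := LinearEquiv.ofFinrankEq U W (by rw [hdU, hdW])
  obtain ⟨g₀, hg₀, hmap⟩ := witt_GL' hQ U W φ (fun x => by rw [hU.1 _ x.2, hW.1 _ (φ x).2])
  have hmapS : mapS g₀ U = W := by
    rw [← hmap, mapS, Matrix.toLin'_apply']
  have hpar : par g₀ := by
    rw [← family_parity hQ hgen U m hm hU g₀ hg₀, hmapS]
    exact he
  by_cases hsp : spin Q g₀
  · refine ⟨⟨g₀, hg₀⟩, ?_, hmap⟩
    rw [mem_omega_iff_fin hQ h]
    exact ⟨hpar, hsp⟩
  · have h2 : (2 : F) ≠ 0 := by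
      intro h2
      exact hsp (spin_of_char_two hQ h2 _ hg₀)
    obtain ⟨ν, hν⟩ := FiniteField.exists_nonsquare (ringChar_ne_two_of_two_ne_zero h2)
    have hν0 : ν ≠ 0 := by
      rintro rfl
      exact hν ⟨0, by ring⟩
    have hUne : U ≠ ⊥ := by
      intro hU'
      rw [hU', finrank_bot] at hdU
      omega
    obtain ⟨u, huU, hu0⟩ := Submodule.exists_mem_ne_zero_of_ne_bot hUne
    have hQu : Q u = 0 := hU.1 u huU
    obtain ⟨f, hf, huf, -⟩ := exists_partner hQ ⊥ u hQu
      (by rw [mem_perp]; intro w hw; rw [(Submodule.mem_bot F).1 hw, pol_zero_left hQ])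
      (by rw [Submodule.mem_bot]; exact hu0)
    set s := hypE hQ u f ν with hs
    have hsO : s ∈ Cfsg.isometryGroup F Q := hypE_mem hQ u f ν
    have hsS : s ∈ Cfsg.Geo.subspaceStabilizer U := hypE_mem_stab hQ U hU.1 u f huU hf huf ν hν0
    have hsp' : ¬ spin Q s := by
      rw [hs, spin_hypE hQ u f hQu hf huf ν hν0]
      exact hν
    have hps : par s := par_hypE hQ u f hQu hf huf ν hν0
    refine ⟨⟨g₀ * s, mul_mem hg₀ hsO⟩, ?_, ?_⟩
    · rw [mem_omega_iff_fin hQ h]
      refine ⟨?_, ?_⟩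
      · show par (g₀ * s)
        rw [par_mul_gen hQ hgen g₀ s hg₀ hsO]
        tauto
      · show spin Q (g₀ * s)
        rw [spin_mul_iff hQ hgen g₀ s hg₀ hsO]
        tauto
    · show U.map (Matrix.mulVecLin ((g₀ * s : GL ι F) : Matrix ι ι F)) = W
      rw [map_mul_eq, map_eq_of_mem_stab U s hsS, hmap]

end QF

end Cfsg.Agent.Lib.Helper5.OrthSN
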