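import Mathlib
import Cfsg.Agent.Lib.Helper5.Orth.SpinorTrans

set_option autoImplicit false
set_option linter.unusedSectionVars false
open Cfsg

/-!
Sign characters: of an index-two subgroup, of the residual parity and of the spinor norm.
-/

namespace Cfsg.Agent.Lib.Helper5.OrthSN

open Matrix Cfsg.Agent.H9.Orth Cfsg.Agent.Lib.Helper5.OrthTv Cfsg.Agent.Lib.Helper5.OrthPar

section SignHom

variable {G : Type*} [Group G]

/-- the sign character attached to a multiplicative predicate -/
noncomputable def propHom (c : G → Prop) (h1 : c 1) (hmul : ∀ a b, c (a * b) ↔ (c a ↔ c b)) :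
    G →* ℤˣ := by
  classical
  exact
  { toFun := fun g => if c g then 1 else -1
    map_one' := by simp [h1]
    map_mul' := fun a b => by
      have := hmul a b
      by_cases ha : c a <;> by_cases hb : c b <;> simp [ha, hb, this] }

lemma propHom_eq_one_iff (c : G → Prop) (h1 : c 1) (hmul : ∀ a b, c (a * b) ↔ (c a ↔ c b))
    (g : G) : propHom c h1 hmul g = 1 ↔ c g := by
  classical
  show (if c g then (1 : ℤˣ) else -1) = 1 ↔ c g
  by_cases h : c g
  · simp [h]
  · simp [h]

lemma propHom_eq_neg_one_iff (c : G → Prop) (h1 : c 1)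
    (hmul : ∀ a b, c (a * b) ↔ (c a ↔ c b)) (g : G) : propHom c h1 hmul g = -1 ↔ ¬ c g := by
  classical
  show (if c g then (1 : ℤˣ) else -1) = -1 ↔ ¬ c g
  by_cases h : c g
  · simp [h]
  · simp [h]

/-- the sign character of an index-two subgroup -/
noncomputable def signHom (H : Subgroup G) (hH : H.index = 2) : G →* ℤˣ :=
  propHom (fun g => g ∈ H) H.one_mem (fun _ _ => Subgroup.mul_mem_iff_of_index_two hH)

lemma signHom_eq_one_iff (H : Subgroup G) (hH : H.index = 2) (g : G) :
    signHom H hH g = 1 ↔ g ∈ H := propHom_eq_one_iff _ _ _ g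

lemma signHom_ker (H : Subgroup G) (hH : H.index = 2) : (signHom H hH).ker = H := by
  ext g
  rw [MonoidHom.mem_ker, signHom_eq_one_iff]

/-- the kernel of a character taking the value `-1` has index two -/
lemma index_ker_of_neg_one (c : G →* ℤˣ) (g : G) (hg : c g = -1) : c.ker.index = 2 := by
  rw [Subgroup.index_ker]
  have : c.range = ⊤ := by
    rw [eq_top_iff]
    intro u _
    rcases Int.units_eq_one_or u with rfl | rfl
    · exact one_mem _
    · exact ⟨g, hg⟩
  rw [this, Nat.card_congr Subgroup.topEquiv.toEquiv]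
  simp

lemma units_int_cases (u : ℤˣ) : u = 1 ∨ u = -1 := Int.units_eq_one_or u

end SignHom

section Chars

variable {ι : Type} [Fintype ι] [DecidableEq ι] {F : Type*} [Field F] {Q : (ι → F) → F}
variable (hQ : Cfsg.Geo.IsNondegenerateQuadraticForm Q)
include hQ

/-- the parity character of the isometry group -/
noncomputable def parHom (hgen : Cfsg.isometryGroup F Q ≤ RR hQ) :
    ↥(Cfsg.isometryGroup F Q) →* ℤˣ :=
  propHom (fun g => par (g : GL ι F)) par_one
    (fun a b => par_mul_gen hQ hgen (a : GL ι F) (b : GL ι F) a.2 b.2)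

/-- the spinor norm character of the isometry group -/
noncomputable def spinHom [Fintype F] (hgen : Cfsg.isometryGroup F Q ≤ RR hQ) :
    ↥(Cfsg.isometryGroup F Q) →* ℤˣ :=
  propHom (fun g => spin Q (g : GL ι F)) spin_one
    (fun a b => spin_mul_iff hQ hgen (a : GL ι F) (b : GL ι F) a.2 b.2)

lemma parHom_eq_one_iff (hgen : Cfsg.isometryGroup F Q ≤ RR hQ)
    (g : ↥(Cfsg.isometryGroup F Q)) : parHom hQ hgen g = 1 ↔ par (g : GL ι F) :=
  propHom_eq_one_iff _ _ _ g

lemma spinHom_eq_one_iff [Fintype F] (hgen : Cfsg.isometryGroup F Q ≤ RR hQ)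
    (g : ↥(Cfsg.isometryGroup F Q)) : spinHom hQ hgen g = 1 ↔ spin Q (g : GL ι F) :=
  propHom_eq_one_iff _ _ _ g

lemma parHom_R (hgen : Cfsg.isometryGroup F Q ≤ RR hQ) (x : ι → F) (hx : Q x ≠ 0) :
    parHom hQ hgen (R hQ x) = -1 := by
  rw [parHom, propHom_eq_neg_one_iff]
  exact not_par_rf hQ x hx

lemma spinHom_R [Fintype F] (hgen : Cfsg.isometryGroup F Q ≤ RR hQ) (x : ι → F) (hx : Q x ≠ 0) :
    spinHom hQ hgen (R hQ x) = 1 ↔ IsSquare (-Q x) := by
  rw [spinHom_eq_one_iff]
  exact spin_rf hQ x hx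

/-- every character of the isometry group kills `Ω` -/
lemma char_omega (c : ↥(Cfsg.isometryGroup F Q) →* ℤˣ) (g : ↥(Cfsg.isometryGroup F Q))
    (hg : g ∈ Cfsg.Omega F Q) : c g = 1 := by
  have := Abelianization.commutator_subset_ker c hg
  exact this

/-- two characters agreeing on all reflections are equal -/
lemma char_ext (hgen : Cfsg.isometryGroup F Q ≤ RR hQ)
    (c c' : ↥(Cfsg.isometryGroup F Q) →* ℤˣ)
    (h : ∀ x, Q x ≠ 0 → c (R hQ x) = c' (R hQ x)) : c = c' := by
  apply MonoidHom.eq_of_eqOn_dense (closure_rf_eq_top_gen hQ hgen)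
  rintro g ⟨x, hx, hgx⟩
  have : g = R hQ x := Subtype.ext hgx
  rw [this]
  exact h x hx

end Chars

end Cfsg.Agent.Lib.Helper5.OrthSN
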