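import Mathlib
import Cfsg.Agent.H9.OrthM
import Cfsg.Agent.Lib.Helper5.Orth.SpinorTrans

set_option autoImplicit false
set_option linter.unusedSectionVars false
open Cfsg

/-!
The centre of `Ω` in dimension at least 7 is `Ω ∩ {±1}`; the order of `PΩ`.
-/

namespace Cfsg.Agent.Lib.Helper5.OrthSN

open Matrix Cfsg.Agent.H9.Orth Cfsg.Agent.Lib.Helper5.OrthTv Cfsg.Agent.Lib.Helper5.OrthPar

section Center

variable {ι : Type} [Fintype ι] [DecidableEq ι] {F : Type*} [Field F] [Fintype F]
variable {Q : (ι → F) → F}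
variable (hQ : Cfsg.Geo.IsNondegenerateQuadraticForm Q)
include hQ

/-- an element commuting with all long root elements fixes every singular line -/
lemma act_singular_of_comm (hn : 5 ≤ Fintype.card ι) (z : GL ι F)
    (hz : ∀ u w : ι → F, Q u = 0 → Q w = 0 → pol Q u w = 0 → z * sg hQ u w = sg hQ u w * z)
    (u : ι → F) (hu : Q u = 0) : ∃ c : F, act z u = c • u := by
  obtain ⟨e, f, hue, huf, hqe, hqf, hef⟩ := exists_hyperbolic_perp1 hQ hn u
  have hfe : pol Q f e = 1 := by rw [pol_comm]; exact hef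
  have hfu : pol Q f u = 0 := by rw [pol_comm]; exact huf
  have heu : pol Q e u = 0 := by rw [pol_comm]; exact hue
  have h1 : act z u = pol Q (act z f) e • u - pol Q (act z f) u • e := by
    have h := congrArg (fun g => act g f) (hz u e hu hqe hue)
    simp only [act_mul] at h
    rw [act_sg hQ u e hu hue, act_sg hQ u e hu hue, hfe, hfu, hqe] at h
    simp only [zero_mul, mul_zero, sub_zero, zero_smul, one_smul] at h
    rw [act_add] at h
    have h' : act z u = (act z f + pol Q (act z f) e • u - pol Q (act z f) u • e) - act z f := by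
      rw [← h]; abel
    rw [h']; abel
  have h2 : act z u = pol Q (act z e) f • u - pol Q (act z e) u • f := by
    have h := congrArg (fun g => act g e) (hz u f hu hqf huf)
    simp only [act_mul] at h
    rw [act_sg hQ u f hu huf, act_sg hQ u f hu huf, hef, heu, hqf] at h
    simp only [zero_mul, mul_zero, sub_zero, zero_smul, one_smul] at h
    rw [act_add] at h
    have h' : act z u = (act z e + pol Q (act z e) f • u - pol Q (act z e) u • f) - act z e := by
      rw [← h]; abel
    rw [h']; abel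
  have h3 : pol Q (act z f) u = 0 := by
    have h := congrArg (fun v => pol Q v f) (h1.symm.trans h2)
    rw [pol_sub_left hQ, pol_sub_left hQ, pol_smul_left hQ, pol_smul_left hQ, pol_smul_left hQ,
      pol_smul_left hQ, huf, hef, pol_self hQ, hqf] at h
    simp only [mul_zero, mul_one, zero_sub, sub_zero] at h
    have := neg_eq_zero.1 h
    exact this
  refine ⟨pol Q (act z f) e, ?_⟩
  rw [h1, h3, zero_smul, sub_zero]

/-- the centraliser of the long root elements in the isometry group is `{±1}` -/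
theorem act_eq_or_neg_of_comm (hn : 7 ≤ Fintype.card ι) (z : GL ι F)
    (hzi : z ∈ Cfsg.isometryGroup F Q)
    (hz : ∀ u w : ι → F, Q u = 0 → Q w = 0 → pol Q u w = 0 → z * sg hQ u w = sg hQ u w * z) :
    z = 1 ∨ z = -1 := by
  obtain ⟨l, hl⟩ := scalar_of_singular hQ hn z
    (fun v hv _ => act_singular_of_comm hQ (by omega) z hz v hv)
  obtain ⟨e, f, -, -, hqe, hqf, hef⟩ := exists_hyperbolic_perp1 hQ (by omega) (0 : ι → F)
  have hq : Q (e + f) = 1 := by rw [Q_add Q, hqe, hqf, hef]; ring
  have h1 := Q_act z hzi (e + f)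
  rw [hl, Q_smul hQ, hq, mul_one] at h1
  have h2 : (l - 1) * (l + 1) = 0 := by linear_combination h1
  rcases mul_eq_zero.1 h2 with h | h
  · left
    apply gl_ext
    intro x
    rw [hl, act_one, sub_eq_zero.1 h, one_smul]
  · right
    apply gl_ext
    intro x
    have : l = -1 := eq_neg_of_add_eq_zero_left h
    rw [hl, this, neg_one_smul]
    show _ = ((-1 : GL ι F) : Matrix ι ι F) *ᵥ x
    rw [Units.val_neg, Units.val_one, Matrix.neg_mulVec, Matrix.one_mulVec]

/-- long root elements as elements of `Ω` -/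
lemma exists_omega_sg (hn : 7 ≤ Fintype.card ι) (u w : ι → F) (hu : Q u = 0) (hw : Q w = 0)
    (huw : pol Q u w = 0) :
    ∃ y : ↥(Cfsg.isometryGroup F Q), y ∈ Cfsg.Omega F Q ∧ (y : GL ι F) = sg hQ u w := by
  have h1 : sg hQ u w ∈ Cfsg.Geo.omegaGL Q := by
    rw [omegaGL_eq_NN hQ hn]
    exact sg_mem_NN hQ u w hu hw huw
  obtain ⟨y, hy, hyx⟩ := h1
  exact ⟨y, hy, hyx⟩

/-- a central element of `Ω` is `±1` -/
theorem center_omega_val (hn : 7 ≤ Fintype.card ι) (z : ↥(Cfsg.Omega F Q))
    (hz : z ∈ Subgroup.center ↥(Cfsg.Omega F Q)) :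
    ((z : ↥(Cfsg.isometryGroup F Q)) : GL ι F) = 1 ∨
      ((z : ↥(Cfsg.isometryGroup F Q)) : GL ι F) = -1 := by
  apply act_eq_or_neg_of_comm hQ hn _ (z : ↥(Cfsg.isometryGroup F Q)).2
  intro u w hu hw huw
  obtain ⟨y, hy, hyx⟩ := exists_omega_sg hQ hn u w hu hw huw
  rw [Subgroup.mem_center_iff] at hz
  have := hz ⟨y, hy⟩
  have h2 := congrArg (fun t : ↥(Cfsg.Omega F Q) => ((t : ↥(Cfsg.isometryGroup F Q)) : GL ι F)) this
  simp only [Subgroup.coe_mul] at h2
  rw [hyx] at h2
  exact h2.symm

/-- if `-1 ∉ Ω` (or in characteristic two) the centre of `Ω` is trivial -/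
theorem card_POmega_of_not (hn : 7 ≤ Fintype.card ι)
    (h : (2 : F) = 0 ∨ ¬ ∃ g : ↥(Cfsg.isometryGroup F Q), g ∈ Cfsg.Omega F Q ∧
      ((g : GL ι F) : Matrix ι ι F) = -1) :
    Nat.card (Cfsg.POmega F Q) = Nat.card ↥(Cfsg.Omega F Q) := by
  have hbot : Subgroup.center ↥(Cfsg.Omega F Q) = ⊥ := by
    rw [eq_bot_iff]
    intro z hz
    rw [Subgroup.mem_bot]
    rcases center_omega_val hQ hn z hz with h1 | h1
    · apply Subtype.ext
      apply Subtype.ext
      exact h1
    · rcases h with h | h
      · apply Subtype.ext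
        apply Subtype.ext
        rw [h1]
        apply Units.ext
        rw [Units.val_neg, Units.val_one]
        show (-1 : Matrix ι ι F) = 1
        have : (-1 : F) = 1 := by linear_combination -h
        ext i j
        by_cases hij : i = j
        · subst hij; simp [this]
        · simp [hij]
      · exfalso
        apply h
        refine ⟨(z : ↥(Cfsg.isometryGroup F Q)), z.2, ?_⟩
        rw [h1, Units.val_neg, Units.val_one]
  have hc : Nat.card (Subgroup.center ↥(Cfsg.Omega F Q)) = 1 := by
    rw [hbot]; exact Subgroup.card_bot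
  have := Subgroup.card_eq_card_quotient_mul_card_subgroup (Subgroup.center ↥(Cfsg.Omega F Q))
  rw [hc, mul_one] at this
  exact this.symm

/-- if `-1 ∈ Ω` and the characteristic is odd, the centre of `Ω` has order two -/
theorem card_POmega_of_neg_mem (hn : 7 ≤ Fintype.card ι) (h2 : (2 : F) ≠ 0)
    (g₀ : ↥(Cfsg.isometryGroup F Q)) (hg₀ : g₀ ∈ Cfsg.Omega F Q)
    (hval : ((g₀ : GL ι F) : Matrix ι ι F) = -1) :
    2 * Nat.card (Cfsg.POmega F Q) = Nat.card ↥(Cfsg.Omega F Q) := by
  have hg₀' : (g₀ : GL ι F) = -1 := by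
    apply Units.ext
    rw [hval, Units.val_neg, Units.val_one]
  have hcard : Nat.card (Subgroup.center ↥(Cfsg.Omega F Q)) = 2 := by
    rw [Nat.card_eq_two_iff]
    have hn₀ : (⟨g₀, hg₀⟩ : ↥(Cfsg.Omega F Q)) ∈ Subgroup.center ↥(Cfsg.Omega F Q) := by
      rw [Subgroup.mem_center_iff]
      intro t
      apply Subtype.ext
      apply Subtype.ext
      show ((t : ↥(Cfsg.isometryGroup F Q)) : GL ι F) * (g₀ : GL ι F) =
        (g₀ : GL ι F) * ((t : ↥(Cfsg.isometryGroup F Q)) : GL ι F)
      rw [hg₀']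
      simp
    refine ⟨1, ⟨⟨g₀, hg₀⟩, hn₀⟩, ?_, ?_⟩
    · intro h
      have h1 := congrArg (fun t : ↥(Subgroup.center ↥(Cfsg.Omega F Q)) =>
        ((((t : ↥(Cfsg.Omega F Q)) : ↥(Cfsg.isometryGroup F Q)) : GL ι F) : Matrix ι ι F)) h
      simp only [OneMemClass.coe_one, Units.val_one] at h1
      rw [hval] at h1
      obtain ⟨i⟩ : Nonempty ι := by
        rw [← Fintype.card_pos_iff]; omega
      have h3 := congrFun (congrFun h1 i) i
      simp only [Matrix.one_apply_eq, Matrix.neg_apply] at h3
      apply h2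
      linear_combination h3
    · ext z
      simp only [Set.mem_insert_iff, Set.mem_singleton_iff, Set.mem_univ, iff_true]
      rcases center_omega_val hQ hn (z : ↥(Cfsg.Omega F Q)) z.2 with h1 | h1
      · left
        apply Subtype.ext
        apply Subtype.ext
        apply Subtype.ext
        exact h1
      · right
        apply Subtype.ext
        apply Subtype.ext
        apply Subtype.ext
        rw [h1, hg₀']
  have := Subgroup.card_eq_card_quotient_mul_card_subgroup (Subgroup.center ↥(Cfsg.Omega F Q))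
  rw [hcard] at this
  rw [this, mul_comm]

end Center

end Cfsg.Agent.Lib.Helper5.OrthSN
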