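import Mathlib
import Cfsg.Agent.Lib.Helper5.Orth.SpinorIndex

set_option autoImplicit false
set_option linter.unusedSectionVars false
open Cfsg

/-!
Wall discriminants of isometries acting as `-1` on their residual space.
-/

namespace Cfsg.Agent.Lib.Helper5.OrthSN

open Matrix Cfsg.Agent.H9.Orth Cfsg.Agent.Lib.Helper5.OrthTv Cfsg.Agent.Lib.Helper5.OrthPar

/-- for `q` odd, `q ^ i ≡ 1 (mod 4)` iff `i` is even or `q ≡ 1 (mod 4)` -/
lemma pow_mod_four_eq_one (q i : ℕ) (hq : Odd q) : q ^ i % 4 = 1 ↔ (Even i ∨ q % 4 = 1) := by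
  have hq' : q % 4 = 1 ∨ q % 4 = 3 := by
    obtain ⟨k, rfl⟩ := hq
    omega
  rw [Nat.pow_mod]
  rcases hq' with h | h
  · rw [h, one_pow]
    simp
  · rw [h]
    constructor
    · intro h3
      left
      by_contra hodd
      rw [Nat.not_even_iff_odd] at hodd
      obtain ⟨k, rfl⟩ := hodd
      have : 3 ^ (2 * k + 1) % 4 = 3 := by
        rw [pow_succ, pow_mul, Nat.mul_mod, Nat.pow_mod]
        norm_num
      rw [this] at h3
      exact absurd h3 (by norm_num)
    · rintro (⟨k, rfl⟩ | h3)
      · rw [← two_mul, pow_mul, Nat.pow_mod]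
        norm_num
      · exact absurd h3 (by norm_num)

/-- for `q` odd, `q ^ i` is `1` or `3` modulo `4` -/
lemma pow_mod_four_cases (q i : ℕ) (hq : Odd q) : q ^ i % 4 = 1 ∨ q ^ i % 4 = 3 := by
  have : Odd (q ^ i) := hq.pow
  obtain ⟨k, hk⟩ := this
  omega

/-- in a finite field with `q` odd elements, `(-1) ^ i` is a square iff `q ^ i ≡ 1 (mod 4)` -/
lemma isSquare_neg_one_pow_iff {F : Type*} [Field F] [Fintype F] (hodd : Odd (Fintype.card F))
    (i : ℕ) : IsSquare ((-1 : F) ^ i) ↔ Fintype.card F ^ i % 4 = 1 := by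
  rw [pow_mod_four_eq_one _ _ hodd]
  have h13 : Fintype.card F % 4 = 1 ∨ Fintype.card F % 4 = 3 := by
    obtain ⟨k, hk⟩ := hodd
    omega
  by_cases hi : Even i
  · rw [Even.neg_one_pow hi]
    simp [hi]
  · rw [Nat.not_even_iff_odd] at hi
    rw [Odd.neg_one_pow hi, FiniteField.isSquare_neg_one_iff]
    have : ¬ Even i := Nat.not_even_iff_odd.2 hi
    constructor
    · intro h; right; omega
    · rintro (h | h)
      · exact absurd h this
      · omega

section SpinorDiag

variable {ι : Type} [Fintype ι] [DecidableEq ι] {F : Type*} [Field F] {Q : (ι → F) → F}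
variable (hQ : Cfsg.Geo.IsNondegenerateQuadraticForm Q)
include hQ

/-- Wall discriminant from a frame of `-1`-eigenvectors -/
theorem WS_of_neg_frame {κ : Type} [Fintype κ] [DecidableEq κ] (g : GL ι F) (u : κ → ι → F)
    (hneg : ∀ k, act g (u k) = -u k)
    (hcard : Fintype.card κ = ((g : Matrix ι ι F) - 1).rank)
    (hdet : (Matrix.of fun j k => pol Q (u j) (u k)).det ≠ 0) (h2 : (2 : F) ≠ 0) :
    (-2 : F) ^ Fintype.card κ * (Matrix.of fun j k => pol Q (u j) (u k)).det ∈ WS Q g := by
  have hM : wallM Q g u = (-2 : F) • Matrix.of fun j k => pol Q (u j) (u k) := by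
    ext j k
    show pol Q (u j) (act g (u k) - u k) = (-2 : F) * pol Q (u j) (u k)
    rw [hneg k, pol_sub_right hQ, pol_neg_right hQ]
    ring
  have hd : (wallM Q g u).det =
      (-2 : F) ^ Fintype.card κ * (Matrix.of fun j k => pol Q (u j) (u k)).det := by
    rw [hM, Matrix.det_smul]
  refine ⟨κ, inferInstance, inferInstance, u, ⟨?_, ?_⟩, 1, one_ne_zero, ?_⟩
  · rw [hcard, rank_eq]
  · rw [hd]
    exact mul_ne_zero (pow_ne_zero _ (neg_ne_zero.2 h2)) hdet
  · rw [hd]; ring

/-- Wall discriminant of an isometry negating `i` hyperbolic pairs and of residual rank `2 i` -/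
theorem WS_neg_hyp (h2 : (2 : F) ≠ 0) (g : GL ι F) (i : ℕ) (E E' : Fin i → ι → F)
    (hEE : ∀ a b, pol Q (E a) (E b) = 0) (hEE' : ∀ a b, pol Q (E' a) (E' b) = 0)
    (hEE'' : ∀ a b, pol Q (E a) (E' b) = if a = b then 1 else 0)
    (hgE : ∀ a, act g (E a) = -E a) (hgE' : ∀ a, act g (E' a) = -E' a)
    (hrank : ((g : Matrix ι ι F) - 1).rank = 2 * i) : (-16 : F) ^ i ∈ WS Q g := by
  set u : Fin i ⊕ Fin i → ι → F := Sum.elim (fun a => E a + E' a) (fun a => E a - E' a) with hu
  have hneg : ∀ k, act g (u k) = -u k := by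
    rintro (a | a)
    · show act g (E a + E' a) = -(E a + E' a)
      rw [act_add, hgE, hgE']; abel
    · show act g (E a - E' a) = -(E a - E' a)
      rw [act_sub, hgE, hgE']; abel
  have hcard : Fintype.card (Fin i ⊕ Fin i) = ((g : Matrix ι ι F) - 1).rank := by
    rw [hrank, Fintype.card_sum, Fintype.card_fin]; ring
  have hGram : (Matrix.of fun j k => pol Q (u j) (u k)) =
      Matrix.diagonal (Sum.elim (fun _ : Fin i => (2 : F)) (fun _ : Fin i => (-2 : F))) := by
    ext j k
    rw [Matrix.of_apply]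
    have hE'E : ∀ a b, pol Q (E' a) (E b) = if a = b then 1 else 0 := by
      intro a b
      rw [pol_comm, hEE'' b a]
      by_cases h : a = b
      · rw [if_pos h, if_pos h.symm]
      · rw [if_neg h, if_neg (Ne.symm h)]
    rcases j with a | a <;> rcases k with b | b
    · show pol Q (E a + E' a) (E b + E' b) = _
      rw [pol_add_left hQ, pol_add_right hQ, pol_add_right hQ, hEE, hEE', hEE'', hE'E]
      by_cases h : a = b
      · subst h
        rw [Matrix.diagonal_apply_eq, if_pos rfl]
        show (0 : F) + 1 + (1 + 0) = 2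
        norm_num
      · rw [Matrix.diagonal_apply_ne _ (by simpa using h), if_neg h]
        ring
    · show pol Q (E a + E' a) (E b - E' b) = _
      rw [pol_add_left hQ, pol_sub_right hQ, pol_sub_right hQ, hEE, hEE', hEE'', hE'E,
        Matrix.diagonal_apply_ne _ (by simp)]
      ring
    · show pol Q (E a - E' a) (E b + E' b) = _
      rw [pol_sub_left hQ, pol_add_right hQ, pol_add_right hQ, hEE, hEE', hEE'', hE'E,
        Matrix.diagonal_apply_ne _ (by simp)]
      ring
    · show pol Q (E a - E' a) (E b - E' b) = _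
      rw [pol_sub_left hQ, pol_sub_right hQ, pol_sub_right hQ, hEE, hEE', hEE'', hE'E]
      by_cases h : a = b
      · subst h
        rw [Matrix.diagonal_apply_eq, if_pos rfl]
        show (0 : F) - 1 - (1 - 0) = -2
        norm_num
      · rw [Matrix.diagonal_apply_ne _ (by simpa using h), if_neg h]
        ring
  have hdetG : (Matrix.of fun j k => pol Q (u j) (u k)).det = (2 : F) ^ i * (-2) ^ i := by
    rw [hGram, Matrix.det_diagonal, Fintype.prod_sum_type]
    simp
  have hdet0 : (Matrix.of fun j k => pol Q (u j) (u k)).det ≠ 0 := by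
    rw [hdetG]
    exact mul_ne_zero (pow_ne_zero _ h2) (pow_ne_zero _ (neg_ne_zero.2 h2))
  have := WS_of_neg_frame hQ g u hneg hcard hdet0 h2
  rw [hdetG, Fintype.card_sum, Fintype.card_fin] at this
  have e : (-2 : F) ^ (i + i) * ((2 : F) ^ i * (-2) ^ i) = (-16) ^ i := by
    rw [pow_add, ← mul_pow, ← mul_pow, ← mul_pow]
    norm_num
  rwa [e] at this

end SpinorDiag

end Cfsg.Agent.Lib.Helper5.OrthSN
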