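import Mathlib
import Cfsg.Agent.Lib.Helper5.Orth.SpinorDiag

set_option autoImplicit false
set_option linter.unusedSectionVars false
open Cfsg

/-!
Diagonal isometries with entries `±1` negating hyperbolic pairs: membership in `Ω`.
-/

namespace Cfsg.Agent.Lib.Helper5.OrthSN

open Matrix Cfsg.Agent.H9.Orth Cfsg.Agent.Lib.Helper5.OrthTv Cfsg.Agent.Lib.Helper5.OrthPar

lemma two_ne_zero_of_odd_card {F : Type*} [Field F] [Fintype F] (hodd : Odd (Fintype.card F)) :
    (2 : F) ≠ 0 := by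
  apply Ring.two_ne_zero
  intro h
  have := FiniteField.even_card_of_char_two h
  obtain ⟨k, hk⟩ := hodd
  omega

lemma card_ne_two_of_odd_card {F : Type*} [Field F] [Fintype F] (hodd : Odd (Fintype.card F)) :
    Fintype.card F ≠ 2 := by
  intro h
  rw [h] at hodd
  exact absurd hodd (by decide)

section Diag

variable {ι : Type} [Fintype ι] [DecidableEq ι] {F : Type*} [Field F]

lemma act_diag (g : GL ι F) (d : ι → F) (hg : (g : Matrix ι ι F) = Matrix.diagonal d)
    (v : ι → F) : act g v = fun k => d k * v k := by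
  ext k
  show ((g : Matrix ι ι F) *ᵥ v) k = _
  rw [hg, Matrix.mulVec_diagonal]

lemma act_diag_single (g : GL ι F) (d : ι → F) (hg : (g : Matrix ι ι F) = Matrix.diagonal d)
    (k : ι) (hk : d k = -1) : act g (Pi.single k 1) = -(Pi.single k 1 : ι → F) := by
  rw [act_diag g d hg]
  ext j
  by_cases h : j = k
  · subst h
    simp [hk]
  · simp [h]

lemma rank_diag_sub_one (g : GL ι F) (d : ι → F) (hg : (g : Matrix ι ι F) = Matrix.diagonal d) :
    ((g : Matrix ι ι F) - 1).rank = Nat.card {k // d k ≠ 1} := by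
  classical
  have : (g : Matrix ι ι F) - 1 = Matrix.diagonal (fun k => d k - 1) := by
    rw [hg, ← Matrix.diagonal_one, Matrix.diagonal_sub]
  rw [this, Matrix.rank_diagonal, ← Nat.card_eq_fintype_card]
  apply Nat.card_congr
  exact Equiv.subtypeEquivRight (fun k => by rw [sub_ne_zero])

/-- the diagonal matrix with entries `±1` as an element of `GL` -/
noncomputable def diagGL (d : ι → F) (hd : ∀ k, d k * d k = 1) : GL ι F :=
  ⟨Matrix.diagonal d, Matrix.diagonal d, by
    rw [Matrix.diagonal_mul_diagonal, ← Matrix.diagonal_one]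
    congr 1; ext k; exact hd k, by
    rw [Matrix.diagonal_mul_diagonal, ← Matrix.diagonal_one]
    congr 1; ext k; exact hd k⟩

lemma diagGL_val (d : ι → F) (hd : ∀ k, d k * d k = 1) :
    ((diagGL d hd : GL ι F) : Matrix ι ι F) = Matrix.diagonal d := rfl

variable {Q : (ι → F) → F}
variable (hQ : Cfsg.Geo.IsNondegenerateQuadraticForm Q)
include hQ

/-- a diagonal isometry negating `i` hyperbolic pairs of standard basis vectors and fixing the
other basis vectors lies in `Ω` iff `(-1) ^ i` is a square -/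
theorem diag_hyp_mem_omega_iff [Fintype F] (h2 : (2 : F) ≠ 0)
    (hgen : Cfsg.isometryGroup F Q ≤ RR hQ) (g : ↥(Cfsg.isometryGroup F Q)) (d : ι → F)
    (hg : ((g : GL ι F) : Matrix ι ι F) = Matrix.diagonal d) (i : ℕ) (φ ψ : Fin i → ι)
    (hφφ : ∀ a b, pol Q (Pi.single (φ a) 1) (Pi.single (φ b) 1) = 0)
    (hψψ : ∀ a b, pol Q (Pi.single (ψ a) 1) (Pi.single (ψ b) 1) = 0)
    (hφψ : ∀ a b, pol Q (Pi.single (φ a) 1) (Pi.single (ψ b) 1) = if a = b then 1 else 0)
    (hdφ : ∀ a, d (φ a) = -1) (hdψ : ∀ a, d (ψ a) = -1)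
    (hcard : Nat.card {k // d k ≠ 1} = 2 * i) :
    g ∈ Cfsg.Omega F Q ↔ IsSquare ((-1 : F) ^ i) := by
  have hrank := rank_diag_sub_one (g : GL ι F) d hg
  rw [hcard] at hrank
  have hW := WS_neg_hyp hQ h2 (g : GL ι F) i (fun a => Pi.single (φ a) 1)
    (fun a => Pi.single (ψ a) 1) hφφ hψψ hφψ
    (fun a => act_diag_single _ d hg _ (hdφ a)) (fun a => act_diag_single _ d hg _ (hdψ a)) hrank
  rw [mem_omega_iff hQ h2 hgen, spin_iff_of_mem hQ _ g.2 _ hW]
  have hpar : par (g : GL ι F) := by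
    unfold par
    rw [hrank]
    exact even_two_mul i
  have h16 : (-16 : F) ^ i = (-1) ^ i * ((4 : F) ^ i * (4 : F) ^ i) := by
    rw [← mul_pow, ← mul_pow]
    norm_num
  have h4 : (4 : F) ^ i ≠ 0 := by
    apply pow_ne_zero
    have : (4 : F) = 2 * 2 := by norm_num
    rw [this]
    exact mul_ne_zero h2 h2
  constructor
  · rintro ⟨-, hs⟩
    rw [h16, mul_comm] at hs
    exact isSquare_of_mul (mul_ne_zero h4 h4) ⟨_, rfl⟩ hs
  · intro hs
    refine ⟨hpar, ?_⟩
    rw [h16]
    exact hs.mul ⟨_, rfl⟩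

end Diag

end Cfsg.Agent.Lib.Helper5.OrthSN
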