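import Mathlib
import Cfsg.Agent.Lib.Helper5.Orth.SpinorDiag2
import Cfsg.Agent.Lib.Helper5.Orth.PlusMinusForm
import Cfsg.Agent.H9.OrthP

set_option autoImplicit false
set_option linter.unusedSectionVars false
open Cfsg

/-!
The hyperbolic form: involutions negating `i` hyperbolic pairs.
-/

namespace Cfsg.Agent.Lib.Helper5.OrthSN

open Matrix Cfsg.Agent.H9.Orth Cfsg.Agent.Lib.Helper5.OrthTv Cfsg.Agent.Lib.Helper5.OrthPar
open Cfsg.Agent.Lib.Helper5.OrthPM

/-- the number of `j : Fin m` below `i` -/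
lemma natCard_fin_lt (m i : ℕ) (him : i ≤ m) : Nat.card {j : Fin m // (j : ℕ) < i} = i := by
  rw [Nat.card_eq_fintype_card, Fintype.card_fin_lt_of_le him]

section Plus

variable {F : Type*} [Field F] (m : ℕ)

/-- the diagonal of the involution negating the first `i` hyperbolic pairs -/
def dP (F : Type*) [Field F] (m i : ℕ) : Fin m ⊕ Fin m → F :=
  fun k : Fin m ⊕ Fin m => if (Sum.elim (fun j : Fin m => (j : ℕ)) (fun j : Fin m => (j : ℕ)) k) < i
    then (-1 : F) else 1

lemma dP_inl (i : ℕ) (j : Fin m) : dP F m i (Sum.inl j) = if (j : ℕ) < i then -1 else 1 := rfl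

lemma dP_inr (i : ℕ) (j : Fin m) : dP F m i (Sum.inr j) = if (j : ℕ) < i then -1 else 1 := rfl

lemma dP_mul_self (i : ℕ) (k : Fin m ⊕ Fin m) : dP F m i k * dP F m i k = 1 := by
  unfold dP
  split_ifs <;> ring

lemma pol_plus_ll (x y : Fin m) :
    pol (Cfsg.quadFormPlus m F) (Pi.single (Sum.inl x) 1) (Pi.single (Sum.inl y) 1) = 0 := by
  rw [pol, polar_quadFormPlus]
  simp

lemma pol_plus_rr (x y : Fin m) :
    pol (Cfsg.quadFormPlus m F) (Pi.single (Sum.inr x) 1) (Pi.single (Sum.inr y) 1) = 0 := by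
  rw [pol, polar_quadFormPlus]
  simp

lemma pol_plus_lr (x y : Fin m) :
    pol (Cfsg.quadFormPlus m F) (Pi.single (Sum.inl x) 1) (Pi.single (Sum.inr y) 1) =
      if x = y then 1 else 0 := by
  rw [pol, polar_quadFormPlus]
  simp [Pi.single_apply]
  by_cases h : x = y
  · rw [if_pos h, if_pos h.symm]
  · rw [if_neg h, if_neg (Ne.symm h)]

lemma natCard_dP (h2 : (2 : F) ≠ 0) (i : ℕ) (him : i ≤ m) :
    Nat.card {k // dP F m i k ≠ 1} = 2 * i := by
  have hne : (-1 : F) ≠ 1 := by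
    intro h
    apply h2
    linear_combination -h
  have e1 : {k // dP F m i k ≠ 1} ≃
      {k : Fin m ⊕ Fin m // (Sum.elim (fun j : Fin m => (j : ℕ)) (fun j : Fin m => (j : ℕ)) k) < i} := by
    apply Equiv.subtypeEquivRight
    intro k
    unfold dP
    split_ifs with h
    · simp [h, hne]
    · simp [h]
  rw [Nat.card_congr e1, Nat.card_congr (Equiv.subtypeSum), Nat.card_sum]
  have := natCard_fin_lt m i him
  simp only [Sum.elim_inl, Sum.elim_inr]
  rw [this]
  ring

lemma diagGL_dP_mem (i : ℕ) :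
    diagGL (dP F m i) (dP_mul_self m i) ∈ Cfsg.isometryGroup F (Cfsg.quadFormPlus m F) := by
  rw [mem_isometryGroup_iff]
  intro v
  rw [act_diag _ (dP F m i) (diagGL_val _ _)]
  unfold Cfsg.quadFormPlus
  apply Finset.sum_congr rfl
  intro j _
  show dP F m i (Sum.inl j) * v (Sum.inl j) * (dP F m i (Sum.inr j) * v (Sum.inr j)) = _
  have : dP F m i (Sum.inl j) * dP F m i (Sum.inr j) = 1 := by
    rw [dP_inl, dP_inr]
    split_ifs <;> ring
  linear_combination (v (Sum.inl j) * v (Sum.inr j)) * this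

/-- the involution negating `i` hyperbolic pairs lies in `Ω⁺` iff `q ^ i ≡ 1 (mod 4)` -/
theorem plus_diag_iff [Fintype F] (hodd : Odd (Fintype.card F)) (i : ℕ) (him : i ≤ m) :
    (∃ g : ↥(Cfsg.isometryGroup F (Cfsg.quadFormPlus m F)),
      g ∈ Cfsg.Omega F (Cfsg.quadFormPlus m F) ∧
      ((g : GL (Fin m ⊕ Fin m) F) : Matrix (Fin m ⊕ Fin m) (Fin m ⊕ Fin m) F) =
        Matrix.diagonal (dP F m i)) ↔ Fintype.card F ^ i % 4 = 1 := by
  classical
  have h2 := two_ne_zero_of_odd_card hodd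
  have hQ' := quadFormPlus_nondeg (F := F) m
  have hgen := Cfsg.Agent.H9.Orth.iso_le_RR hQ' (Or.inl (card_ne_two_of_odd_card hodd))
  have key : ∀ g : ↥(Cfsg.isometryGroup F (Cfsg.quadFormPlus m F)),
      ((g : GL (Fin m ⊕ Fin m) F) : Matrix (Fin m ⊕ Fin m) (Fin m ⊕ Fin m) F) =
        Matrix.diagonal (dP F m i) →
      (g ∈ Cfsg.Omega F (Cfsg.quadFormPlus m F) ↔ Fintype.card F ^ i % 4 = 1) := by
    intro g hg
    rw [← isSquare_neg_one_pow_iff hodd]
    apply diag_hyp_mem_omega_iff hQ' h2 hgen g (dP F m i) hg i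
      (fun a => Sum.inl (Fin.castLE him a)) (fun a => Sum.inr (Fin.castLE him a))
    · intro a b; exact pol_plus_ll m _ _
    · intro a b; exact pol_plus_rr m _ _
    · intro a b
      rw [pol_plus_lr]
      by_cases h : a = b
      · rw [if_pos h, if_pos (by rw [h])]
      · rw [if_neg h, if_neg]
        intro h'
        exact h (Fin.castLE_injective him h')
    · intro a
      rw [dP_inl, if_pos (by simp)]
    · intro a
      rw [dP_inr, if_pos (by simp)]
    · exact natCard_dP m h2 i him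
  constructor
  · rintro ⟨g, hgΩ, hg⟩
    exact (key g hg).1 hgΩ
  · intro h
    refine ⟨⟨diagGL (dP F m i) (dP_mul_self m i), diagGL_dP_mem m i⟩, ?_, rfl⟩
    exact (key _ rfl).2 h

end Plus

end Cfsg.Agent.Lib.Helper5.OrthSN
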