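import Mathlib
import Cfsg.Agent.Lib.Helper5.Orth.SpinorPlus

set_option autoImplicit false
set_option linter.unusedSectionVars false
open Cfsg

/-!
The elliptic form: involutions negating `i` hyperbolic pairs, and the scalar `-1`.
-/

namespace Cfsg.Agent.Lib.Helper5.OrthSN

open Matrix Cfsg.Agent.H9.Orth Cfsg.Agent.Lib.Helper5.OrthTv Cfsg.Agent.Lib.Helper5.OrthPar
open Cfsg.Agent.Lib.Helper5.OrthPM

/-- the discriminant of an anisotropic binary form is not a square -/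
lemma disc_not_isSquare {F : Type*} [Field F] (h2 : (2 : F) ≠ 0) (a b : F)
    (hab : ∀ z₁ z₂ : F, z₁ ^ 2 + a * z₁ * z₂ + b * z₂ ^ 2 = 0 → z₁ = 0 ∧ z₂ = 0) :
    ¬ IsSquare (a ^ 2 - 4 * b) := by
  rintro ⟨s, hs⟩
  have := hab ((-a + s) / 2) 1 (by
    field_simp
    linear_combination -hs)
  exact one_ne_zero this.2

lemma disc_ne_zero {F : Type*} [Field F] (h2 : (2 : F) ≠ 0) (a b : F)
    (hab : ∀ z₁ z₂ : F, z₁ ^ 2 + a * z₁ * z₂ + b * z₂ ^ 2 = 0 → z₁ = 0 ∧ z₂ = 0) :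
    4 * b - a ^ 2 ≠ 0 := by
  intro h
  apply disc_not_isSquare h2 a b hab
  refine ⟨0, ?_⟩
  linear_combination -h

section Minus

variable {F : Type*} [Field F] (m : ℕ) (a b : F)

/-- the diagonal of the involution negating the first `i` hyperbolic pairs -/
def dM (F : Type*) [Field F] (m i : ℕ) : (Fin m ⊕ Fin m) ⊕ Fin 2 → F :=
  fun k : (Fin m ⊕ Fin m) ⊕ Fin 2 => if (Sum.elim (Sum.elim (fun j : Fin m => (j : ℕ))
    (fun j : Fin m => (j : ℕ))) (fun _ : Fin 2 => i) k) < i then (-1 : F) else 1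

lemma dM_inr (i : ℕ) (j : Fin 2) : dM F m i (Sum.inr j) = 1 := by
  unfold dM
  simp

lemma dM_inll (i : ℕ) (j : Fin m) :
    dM F m i (Sum.inl (Sum.inl j)) = if (j : ℕ) < i then -1 else 1 := rfl

lemma dM_inlr (i : ℕ) (j : Fin m) :
    dM F m i (Sum.inl (Sum.inr j)) = if (j : ℕ) < i then -1 else 1 := rfl

lemma dM_mul_self (i : ℕ) (k : (Fin m ⊕ Fin m) ⊕ Fin 2) : dM F m i k * dM F m i k = 1 := by
  unfold dM
  split_ifs <;> ring

lemma pol_minus_ll (x y : Fin m) :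
    pol (Cfsg.quadFormMinus m F a b) (Pi.single (Sum.inl (Sum.inl x)) 1)
      (Pi.single (Sum.inl (Sum.inl y)) 1) = 0 := by
  rw [pol, polar_quadFormMinus]
  simp

lemma pol_minus_rr (x y : Fin m) :
    pol (Cfsg.quadFormMinus m F a b) (Pi.single (Sum.inl (Sum.inr x)) 1)
      (Pi.single (Sum.inl (Sum.inr y)) 1) = 0 := by
  rw [pol, polar_quadFormMinus]
  simp

lemma pol_minus_lr (x y : Fin m) :
    pol (Cfsg.quadFormMinus m F a b) (Pi.single (Sum.inl (Sum.inl x)) 1)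
      (Pi.single (Sum.inl (Sum.inr y)) 1) = if x = y then 1 else 0 := by
  rw [pol, polar_quadFormMinus]
  simp [Pi.single_apply]
  by_cases h : x = y
  · rw [if_pos h, if_pos h.symm]
  · rw [if_neg h, if_neg (Ne.symm h)]

lemma natCard_dM (h2 : (2 : F) ≠ 0) (i : ℕ) (him : i ≤ m) :
    Nat.card {k // dM F m i k ≠ 1} = 2 * i := by
  have hne : (-1 : F) ≠ 1 := by
    intro h
    apply h2
    linear_combination -h
  have e1 : {k // dM F m i k ≠ 1} ≃
      {k : (Fin m ⊕ Fin m) ⊕ Fin 2 // (Sum.elim (Sum.elim (fun j : Fin m => (j : ℕ))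
        (fun j : Fin m => (j : ℕ))) (fun _ : Fin 2 => i) k) < i} := by
    apply Equiv.subtypeEquivRight
    intro k
    unfold dM
    split_ifs with h
    · simp [h, hne]
    · simp [h]
  rw [Nat.card_congr e1, Nat.card_congr (Equiv.subtypeSum), Nat.card_sum]
  simp only [Sum.elim_inl, Sum.elim_inr]
  rw [Nat.card_congr (Equiv.subtypeSum), Nat.card_sum]
  have := natCard_fin_lt m i him
  simp only [Sum.elim_inl, Sum.elim_inr]
  rw [this]
  have h0 : Nat.card {_a : Fin 2 // i < i} = 0 := by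
    rw [Nat.card_eq_zero]
    left
    exact ⟨fun x => lt_irrefl _ x.2⟩
  rw [h0]
  ring

lemma diagGL_dM_mem (i : ℕ) :
    diagGL (dM F m i) (dM_mul_self m i) ∈ Cfsg.isometryGroup F (Cfsg.quadFormMinus m F a b) := by
  rw [mem_isometryGroup_iff]
  intro v
  rw [act_diag _ (dM F m i) (diagGL_val _ _)]
  unfold Cfsg.quadFormMinus
  congr 1
  · apply Finset.sum_congr rfl
    intro j _
    show dM F m i (Sum.inl (Sum.inl j)) * v (Sum.inl (Sum.inl j)) *
      (dM F m i (Sum.inl (Sum.inr j)) * v (Sum.inl (Sum.inr j))) = _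
    have : dM F m i (Sum.inl (Sum.inl j)) * dM F m i (Sum.inl (Sum.inr j)) = 1 := by
      rw [dM_inll, dM_inlr]
      split_ifs <;> ring
    linear_combination (v (Sum.inl (Sum.inl j)) * v (Sum.inl (Sum.inr j))) * this
  · show (dM F m i (Sum.inr 0) * v (Sum.inr 0)) ^ 2 +
      a * (dM F m i (Sum.inr 0) * v (Sum.inr 0)) * (dM F m i (Sum.inr 1) * v (Sum.inr 1)) +
      b * (dM F m i (Sum.inr 1) * v (Sum.inr 1)) ^ 2 = _
    rw [dM_inr, dM_inr, one_mul, one_mul]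

/-- the Wall discriminant of the involution negating `i` hyperbolic pairs -/
lemma minus_diag_WS (h2 : (2 : F) ≠ 0) (hab : 4 * b - a ^ 2 ≠ 0) (i : ℕ) (him : i ≤ m)
    (g : GL ((Fin m ⊕ Fin m) ⊕ Fin 2) F)
    (hg : (g : Matrix ((Fin m ⊕ Fin m) ⊕ Fin 2) ((Fin m ⊕ Fin m) ⊕ Fin 2) F) =
      Matrix.diagonal (dM F m i)) :
    (-16 : F) ^ i ∈ WS (Cfsg.quadFormMinus m F a b) g ∧
      ((g : Matrix ((Fin m ⊕ Fin m) ⊕ Fin 2) ((Fin m ⊕ Fin m) ⊕ Fin 2) F) - 1).rank = 2 * i := by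
  have hQ' := quadFormMinus_nondeg (F := F) m a b hab
  have hrank := rank_diag_sub_one g (dM F m i) hg
  rw [natCard_dM m h2 i him] at hrank
  refine ⟨?_, hrank⟩
  apply WS_neg_hyp hQ' h2 g i (fun c => Pi.single (Sum.inl (Sum.inl (Fin.castLE him c))) 1)
    (fun c => Pi.single (Sum.inl (Sum.inr (Fin.castLE him c))) 1)
  · intro c e; exact pol_minus_ll m a b _ _
  · intro c e; exact pol_minus_rr m a b _ _
  · intro c e
    rw [pol_minus_lr]
    by_cases h : c = e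
    · rw [if_pos h, if_pos (by rw [h])]
    · rw [if_neg h, if_neg]
      intro h'
      exact h (Fin.castLE_injective him h')
  · intro c
    apply act_diag_single g (dM F m i) hg
    rw [dM_inll, if_pos (by simp)]
  · intro c
    apply act_diag_single g (dM F m i) hg
    rw [dM_inlr, if_pos (by simp)]
  · exact hrank

lemma isSquare_neg16_pow_iff (h2 : (2 : F) ≠ 0) (i : ℕ) :
    IsSquare ((-16 : F) ^ i) ↔ IsSquare ((-1 : F) ^ i) := by
  have h16 : (-16 : F) ^ i = ((4 : F) ^ i * (4 : F) ^ i) * (-1) ^ i := by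
    rw [← mul_pow, ← mul_pow]
    norm_num
  have h4 : (4 : F) ^ i ≠ 0 := by
    apply pow_ne_zero
    have : (4 : F) = 2 * 2 := by norm_num
    rw [this]
    exact mul_ne_zero h2 h2
  rw [h16]
  constructor
  · intro hs
    exact isSquare_of_mul (mul_ne_zero h4 h4) ⟨_, rfl⟩ hs
  · intro hs
    exact (IsSquare.mul ⟨_, rfl⟩ hs)

/-- the involution negating `i` hyperbolic pairs lies in `Ω⁻` iff `q ^ i ≡ 1 (mod 4)` -/
theorem minus_diag_iff [Fintype F] (hodd : Odd (Fintype.card F))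
    (hab : ∀ z₁ z₂ : F, z₁ ^ 2 + a * z₁ * z₂ + b * z₂ ^ 2 = 0 → z₁ = 0 ∧ z₂ = 0)
    (i : ℕ) (him : i ≤ m) :
    (∃ g : ↥(Cfsg.isometryGroup F (Cfsg.quadFormMinus m F a b)),
      g ∈ Cfsg.Omega F (Cfsg.quadFormMinus m F a b) ∧
      ((g : GL ((Fin m ⊕ Fin m) ⊕ Fin 2) F) :
        Matrix ((Fin m ⊕ Fin m) ⊕ Fin 2) ((Fin m ⊕ Fin m) ⊕ Fin 2) F) =
        Matrix.diagonal (dM F m i)) ↔ Fintype.card F ^ i % 4 = 1 := by
  classical
  have h2 := two_ne_zero_of_odd_card hodd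
  have hab' := disc_ne_zero h2 a b hab
  have hQ' := quadFormMinus_nondeg (F := F) m a b hab'
  have hgen := Cfsg.Agent.H9.Orth.iso_le_RR hQ' (Or.inl (card_ne_two_of_odd_card hodd))
  have key : ∀ g : ↥(Cfsg.isometryGroup F (Cfsg.quadFormMinus m F a b)),
      ((g : GL ((Fin m ⊕ Fin m) ⊕ Fin 2) F) :
        Matrix ((Fin m ⊕ Fin m) ⊕ Fin 2) ((Fin m ⊕ Fin m) ⊕ Fin 2) F) =
        Matrix.diagonal (dM F m i) →
      (g ∈ Cfsg.Omega F (Cfsg.quadFormMinus m F a b) ↔ Fintype.card F ^ i % 4 = 1) := by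
    intro g hg
    obtain ⟨hW, hrank⟩ := minus_diag_WS m a b h2 hab' i him (g : GL _ F) hg
    rw [← isSquare_neg_one_pow_iff hodd, mem_omega_iff hQ' h2 hgen,
      spin_iff_of_mem hQ' _ g.2 _ hW, isSquare_neg16_pow_iff h2]
    have hpar : par (g : GL ((Fin m ⊕ Fin m) ⊕ Fin 2) F) := by
      unfold par
      rw [hrank]
      exact even_two_mul i
    tauto
  constructor
  · rintro ⟨g, hgΩ, hg⟩
    exact (key g hg).1 hgΩ
  · intro h
    refine ⟨⟨diagGL (dM F m i) (dM_mul_self m i), diagGL_dM_mem m a b i⟩, ?_, rfl⟩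
    exact (key _ rfl).2 h

end Minus

end Cfsg.Agent.Lib.Helper5.OrthSN
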