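import Mathlib
import Cfsg.Agent.Lib.Helper5.Orth.SpinorMinus

set_option autoImplicit false
set_option linter.unusedSectionVars false
open Cfsg

/-!
The elliptic form: the scalar `-1` lies in `Ω⁻_{2m}(q)` iff `q ^ m ≡ 3 (mod 4)`.
-/

namespace Cfsg.Agent.Lib.Helper5.OrthSN

open Matrix Cfsg.Agent.H9.Orth Cfsg.Agent.Lib.Helper5.OrthTv Cfsg.Agent.Lib.Helper5.OrthPar
open Cfsg.Agent.Lib.Helper5.OrthPM

section MinusNeg

variable {F : Type*} [Field F] (m : ℕ) (a b : F)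

/-- the diagonal of the involution negating the anisotropic plane -/
def dS (F : Type*) [Field F] (m : ℕ) : (Fin m ⊕ Fin m) ⊕ Fin 2 → F :=
  Sum.elim (fun _ => 1) (fun _ => -1)

lemma dS_mul_self (k : (Fin m ⊕ Fin m) ⊕ Fin 2) : dS F m k * dS F m k = 1 := by
  rcases k with k | k <;> simp [dS]

lemma diagGL_dS_mem :
    diagGL (dS F m) (dS_mul_self m) ∈ Cfsg.isometryGroup F (Cfsg.quadFormMinus m F a b) := by
  rw [mem_isometryGroup_iff]
  intro v
  rw [act_diag _ (dS F m) (diagGL_val _ _)]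
  unfold Cfsg.quadFormMinus
  simp only [dS, Sum.elim_inl, Sum.elim_inr, one_mul]
  ring

lemma natCard_dS (h2 : (2 : F) ≠ 0) : Nat.card {k // dS F m k ≠ 1} = 2 := by
  have hne : (-1 : F) ≠ 1 := by
    intro h
    apply h2
    linear_combination -h
  rw [Nat.card_congr (Equiv.subtypeSum), Nat.card_sum]
  simp only [dS, Sum.elim_inl, Sum.elim_inr]
  have h0 : Nat.card {_a : Fin m ⊕ Fin m // (1 : F) ≠ 1} = 0 := by
    rw [Nat.card_eq_zero]
    left
    exact ⟨fun x => x.2 rfl⟩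
  have h1 : Nat.card {_a : Fin 2 // (-1 : F) ≠ 1} = 2 := by
    rw [Nat.card_congr (Equiv.subtypeUnivEquiv (fun _ => hne))]
    simp
  rw [h0, h1]

lemma WS_dS (h2 : (2 : F) ≠ 0) (hab : 4 * b - a ^ 2 ≠ 0) :
    (-2 : F) ^ 2 * (4 * b - a ^ 2) ∈ WS (Cfsg.quadFormMinus m F a b)
      (diagGL (dS F m) (dS_mul_self m)) ∧
    (((diagGL (dS F m) (dS_mul_self m) : GL ((Fin m ⊕ Fin m) ⊕ Fin 2) F) :
      Matrix ((Fin m ⊕ Fin m) ⊕ Fin 2) ((Fin m ⊕ Fin m) ⊕ Fin 2) F) - 1).rank = 2 := by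
  have hQ' := quadFormMinus_nondeg (F := F) m a b hab
  have hrank := rank_diag_sub_one (diagGL (dS F m) (dS_mul_self m)) (dS F m) (diagGL_val _ _)
  rw [natCard_dS m h2] at hrank
  refine ⟨?_, hrank⟩
  set u : Fin 2 → (Fin m ⊕ Fin m) ⊕ Fin 2 → F := fun j => Pi.single (Sum.inr j) 1 with hu
  have hdet : (Matrix.of fun j k => pol (Cfsg.quadFormMinus m F a b) (u j) (u k)).det =
      4 * b - a ^ 2 := by
    rw [Matrix.det_fin_two]
    simp only [Matrix.of_apply, hu, pol, polar_quadFormMinus]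
    simp
    ring
  have := WS_of_neg_frame hQ' (diagGL (dS F m) (dS_mul_self m)) u
    (fun k => act_diag_single _ (dS F m) (diagGL_val _ _) _ (by simp [dS]))
    (by rw [hrank]; simp) (by rw [hdet]; exact hab) h2
  rw [hdet] at this
  simpa using this

/-- `-1 ∈ Ω⁻_{2(m+1)}(q)` iff `q ^ (m + 1) ≡ 3 (mod 4)` -/
theorem minus_neg_one_iff [Fintype F] (hodd : Odd (Fintype.card F))
    (hab : ∀ z₁ z₂ : F, z₁ ^ 2 + a * z₁ * z₂ + b * z₂ ^ 2 = 0 → z₁ = 0 ∧ z₂ = 0) :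
    (∃ g : ↥(Cfsg.isometryGroup F (Cfsg.quadFormMinus m F a b)),
      g ∈ Cfsg.Omega F (Cfsg.quadFormMinus m F a b) ∧
      ((g : GL ((Fin m ⊕ Fin m) ⊕ Fin 2) F) :
        Matrix ((Fin m ⊕ Fin m) ⊕ Fin 2) ((Fin m ⊕ Fin m) ⊕ Fin 2) F) = -1) ↔
      Fintype.card F ^ (m + 1) % 4 = 3 := by
  classical
  have h2 := two_ne_zero_of_odd_card hodd
  have hab' := disc_ne_zero h2 a b hab
  have hΔ := disc_not_isSquare h2 a b hab
  have hQ' := quadFormMinus_nondeg (F := F) m a b hab'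
  have hgen := Cfsg.Agent.H9.Orth.iso_le_RR hQ' (Or.inl (card_ne_two_of_odd_card hodd))
  set t : GL ((Fin m ⊕ Fin m) ⊕ Fin 2) F := diagGL (dM F m m) (dM_mul_self m m) with ht
  set s : GL ((Fin m ⊕ Fin m) ⊕ Fin 2) F := diagGL (dS F m) (dS_mul_self m) with hs
  have htO : t ∈ Cfsg.isometryGroup F (Cfsg.quadFormMinus m F a b) := diagGL_dM_mem m a b m
  have hsO : s ∈ Cfsg.isometryGroup F (Cfsg.quadFormMinus m F a b) := diagGL_dS_mem m a b
  have hts : ((t * s : GL ((Fin m ⊕ Fin m) ⊕ Fin 2) F) :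
      Matrix ((Fin m ⊕ Fin m) ⊕ Fin 2) ((Fin m ⊕ Fin m) ⊕ Fin 2) F) = -1 := by
    rw [Units.val_mul, ht, hs, diagGL_val, diagGL_val, Matrix.diagonal_mul_diagonal]
    have : (fun k => dM F m m k * dS F m k) = fun _ => (-1 : F) := by
      funext k
      rcases k with (j | j) | j
      · rw [dM_inll, if_pos j.2]; simp [dS]
      · rw [dM_inlr, if_pos j.2]; simp [dS]
      · rw [dM_inr]; simp [dS]
    rw [this]
    ext x y
    by_cases h : x = y
    · subst h; simp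
    · simp [h]
  obtain ⟨hWt, hrt⟩ := minus_diag_WS m a b h2 hab' m le_rfl t rfl
  obtain ⟨hWs, hrs⟩ := WS_dS m a b h2 hab'
  have hWts := WS_mul hQ' hgen t s htO hsO _ _ hWt hWs
  have hpar : par (t * s) := by
    rw [par_mul_gen hQ' hgen t s htO hsO]
    unfold par
    rw [hrt, hrs]
    simp
  have hnum : IsSquare ((-16 : F) ^ m * ((-2 : F) ^ 2 * (4 * b - a ^ 2))) ↔
      Fintype.card F ^ (m + 1) % 4 = 3 := by
    have e : (-16 : F) ^ m * ((-2 : F) ^ 2 * (4 * b - a ^ 2)) =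
        ((4 : F) ^ m * 2 * ((4 : F) ^ m * 2)) * ((-1) ^ (m + 1) * (a ^ 2 - 4 * b)) := by
      have : (-16 : F) ^ m = (-1) ^ m * ((4 : F) ^ m * (4 : F) ^ m) := by
        rw [← mul_pow, ← mul_pow]; norm_num
      rw [this, pow_succ]
      ring
    have h4 : (4 : F) ^ m * 2 ≠ 0 := by
      apply mul_ne_zero _ h2
      apply pow_ne_zero
      have : (4 : F) = 2 * 2 := by norm_num
      rw [this]
      exact mul_ne_zero h2 h2
    have hΔ0 : a ^ 2 - 4 * b ≠ 0 := by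
      intro h
      apply hab'
      linear_combination -h
    have hpm : ((-1 : F)) ^ (m + 1) ≠ 0 := pow_ne_zero _ (neg_ne_zero.2 one_ne_zero)
    have h1 : IsSquare ((-16 : F) ^ m * ((-2 : F) ^ 2 * (4 * b - a ^ 2))) ↔
        IsSquare ((-1 : F) ^ (m + 1) * (a ^ 2 - 4 * b)) := by
      rw [e]
      constructor
      · intro hsq
        exact isSquare_of_mul (mul_ne_zero h4 h4) ⟨_, rfl⟩ hsq
      · intro hsq
        exact IsSquare.mul ⟨_, rfl⟩ hsq
    rw [h1, isSquare_mul_iff hpm hΔ0, isSquare_neg_one_pow_iff hodd]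
    have := pow_mod_four_cases (Fintype.card F) (m + 1) hodd
    constructor
    · intro h
      rcases this with h' | h'
      · exact absurd (h.1 h') hΔ
      · exact h'
    · intro h
      constructor
      · intro h'
        omega
      · intro h'
        exact absurd h' hΔ
  have key : ∀ g : ↥(Cfsg.isometryGroup F (Cfsg.quadFormMinus m F a b)),
      ((g : GL ((Fin m ⊕ Fin m) ⊕ Fin 2) F) :
        Matrix ((Fin m ⊕ Fin m) ⊕ Fin 2) ((Fin m ⊕ Fin m) ⊕ Fin 2) F) = -1 →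
      (g ∈ Cfsg.Omega F (Cfsg.quadFormMinus m F a b) ↔ Fintype.card F ^ (m + 1) % 4 = 3) := by
    intro g hg
    have hgts : (g : GL ((Fin m ⊕ Fin m) ⊕ Fin 2) F) = t * s := by
      apply Units.ext
      rw [hg, hts]
    rw [mem_omega_iff hQ' h2 hgen, hgts, spin_iff_of_mem hQ' _ (mul_mem htO hsO) _ hWts, hnum]
    tauto
  constructor
  · rintro ⟨g, hgΩ, hg⟩
    exact (key g hg).1 hgΩ
  · intro h
    refine ⟨⟨t * s, mul_mem htO hsO⟩, ?_, hts⟩
    exact (key _ hts).2 h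

end MinusNeg

end Cfsg.Agent.Lib.Helper5.OrthSN
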