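import Mathlib
import Cfsg.Agent.Lib.Helper5.Orth.OmegaCenter
import Cfsg.Agent.Lib.Helper5.Orth.SpinorPlus
import Cfsg.Agent.Lib.Helper5.Orth.SpinorMinusNeg
import Cfsg.Agent.Lib.Helper5.Orth.ParityTwoMain

set_option autoImplicit false
set_option linter.unusedSectionVars false
open Cfsg

/-!
Helper lemmas for the orders of `PΩ`.
-/

namespace Cfsg.Agent.Lib.Helper5.OrthSN

open Matrix Cfsg.Agent.H9.Orth Cfsg.Agent.Lib.Helper5.OrthTv Cfsg.Agent.Lib.Helper5.OrthPar

section Order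

variable {ι : Type} [Fintype ι] [DecidableEq ι] {F : Type*} [Field F] [Fintype F]
variable {Q : (ι → F) → F}
variable (hQ : Cfsg.Geo.IsNondegenerateQuadraticForm Q)
include hQ

/-- in odd dimension `-1 ∉ Ω` -/
lemma neg_one_not_mem_omega_of_odd (h2 : (2 : F) ≠ 0)
    (hgen : Cfsg.isometryGroup F Q ≤ RR hQ) (hodd : Odd (Fintype.card ι)) :
    ¬ ∃ g : ↥(Cfsg.isometryGroup F Q), g ∈ Cfsg.Omega F Q ∧
      ((g : GL ι F) : Matrix ι ι F) = -1 := by
  rintro ⟨g, hg, hval⟩
  have hne : (-1 : F) ≠ 1 := by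
    intro h
    apply h2
    linear_combination -h
  have hg' : ((g : GL ι F) : Matrix ι ι F) = Matrix.diagonal (fun _ => (-1 : F)) := by
    rw [hval]
    ext x y
    by_cases h : x = y
    · subst h; simp
    · simp [h]
  have hrank := rank_diag_sub_one (g : GL ι F) (fun _ => (-1 : F)) hg'
  have hc : Nat.card {_k : ι // (-1 : F) ≠ 1} = Fintype.card ι := by
    rw [Nat.card_congr (Equiv.subtypeUnivEquiv (fun _ => hne)), Nat.card_eq_fintype_card]
  rw [hc] at hrank
  have hpar := ((mem_omega_iff hQ h2 hgen g).1 hg).1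
  unfold par at hpar
  rw [hrank] at hpar
  exact (Nat.not_even_iff_odd.2 hodd) hpar

/-- `4 |Ω| = |O|` in odd characteristic -/
lemma card_omega_mul_four (h2 : (2 : F) ≠ 0) (hn : 2 ≤ Fintype.card ι)
    (hgen : Cfsg.isometryGroup F Q ≤ RR hQ) :
    Nat.card ↥(Cfsg.Omega F Q) * 4 = Nat.card ↥(Cfsg.isometryGroup F Q) := by
  rw [← omega_index_four hQ h2 hn hgen]
  exact Subgroup.card_mul_index _

/-- `2 |Ω| = |O|` in characteristic two -/
lemma card_omega_mul_two (h2 : (2 : F) = 0) (hn : 1 ≤ Fintype.card ι)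
    (h : Fintype.card F ≠ 2 ∨ Fintype.card ι ≠ 4) :
    Nat.card ↥(Cfsg.Omega F Q) * 2 = Nat.card ↥(Cfsg.isometryGroup F Q) := by
  have := charP_two_of_two_eq_zero hQ h2
  have : Nonempty ι := by
    rw [← Fintype.card_pos_iff]; omega
  rw [← omega_index_two hQ h]
  exact Subgroup.card_mul_index _

end Order

lemma two_eq_zero_of_even_card {F : Type*} [Field F] [Fintype F] (h : Even (Fintype.card F)) :
    (2 : F) = 0 := by
  by_contra h2
  have hodd : Odd (Fintype.card F) := by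
    rw [← Nat.not_even_iff_odd]
    intro hev
    have h3 := (FiniteField.even_card_iff_char_two (F := F)).2 (Nat.even_iff.1 hev)
    have : CharP F 2 := by rw [← h3]; exact ringChar.charP F
    exact h2 (by exact_mod_cast CharP.cast_eq_zero F 2)
  exact (Nat.not_even_iff_odd.2 hodd) h

lemma diagonal_dP_self {F : Type*} [Field F] (m : ℕ) :
    Matrix.diagonal (dP F m m) = (-1 : Matrix (Fin m ⊕ Fin m) (Fin m ⊕ Fin m) F) := by
  have : dP F m m = fun _ => (-1 : F) := by
    funext k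
    rcases k with j | j
    · rw [dP_inl, if_pos j.2]
    · rw [dP_inr, if_pos j.2]
  rw [this]
  ext x y
  by_cases h : x = y
  · subst h; simp
  · simp [h]

lemma gcd_four_of_mod_zero (n : ℕ) (h : n % 4 = 0) : Nat.gcd 4 n = 4 := by
  rw [Nat.gcd_rec, h]
  rfl

lemma gcd_four_of_mod_two (n : ℕ) (h : n % 4 = 2) : Nat.gcd 4 n = 2 := by
  rw [Nat.gcd_rec, h]
  rfl

lemma gcd_four_of_odd (n : ℕ) (h : n % 2 = 1) : Nat.gcd 4 n = 1 := by
  have h4 : n % 4 = 1 ∨ n % 4 = 3 := by omega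
  rcases h4 with h4 | h4
  · rw [Nat.gcd_rec, h4]; rfl
  · rw [Nat.gcd_rec, h4]; rfl

end Cfsg.Agent.Lib.Helper5.OrthSN
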