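import Mathlib
import Cfsg.Agent.Lib.Helper5.Orth.Characters

set_option autoImplicit false
set_option linter.unusedSectionVars false
open Cfsg

/-!
Odd characteristic, dimension at least two: the isometry group has exactly three subgroups of
index two.
-/

namespace Cfsg.Agent.Lib.Helper5.OrthSN

open Matrix Cfsg.Agent.H9.Orth Cfsg.Agent.Lib.Helper5.OrthTv Cfsg.Agent.Lib.Helper5.OrthPar
open Cfsg.Agent.Lib.Helper5.OrthUniv

lemma ringChar_ne_two_of_ne {F : Type*} [Field F] (h2 : (2 : F) ≠ 0) : ringChar F ≠ 2 := by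
  intro h
  have : CharP F 2 := by rw [← h]; exact ringChar.charP F
  exact h2 (by exact_mod_cast CharP.cast_eq_zero F 2)

section IndexTwo

variable {ι : Type} [Fintype ι] [DecidableEq ι] {F : Type*} [Field F] {Q : (ι → F) → F}
variable (hQ : Cfsg.Geo.IsNondegenerateQuadraticForm Q)
include hQ

/-- the value of a character on a reflection depends only on the square class of the norm -/
lemma char_R_eq [Fintype F] (h2 : (2 : F) ≠ 0) (c : ↥(Cfsg.isometryGroup F Q) →* ℤˣ)
    (x y : ι → F) (hx : Q x ≠ 0) (hy : Q y ≠ 0) (h : IsSquare (Q x * Q y)) :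
    c (R hQ x) = c (R hQ y) := by
  have h1 := char_omega hQ c _ (R_mul_R_mem_of_sq hQ h2 x y hx hy h)
  rw [map_mul] at h1
  have h3 : c (R hQ y) * c (R hQ y) = 1 := by
    rw [← map_mul, R_mul_self, map_one]
  exact mul_right_cancel (h1.trans h3.symm)

/-- the classification of the characters of the isometry group -/
theorem char_classify [Fintype F] (h2 : (2 : F) ≠ 0) (hn : 2 ≤ Fintype.card ι)
    (hgen : Cfsg.isometryGroup F Q ≤ RR hQ) (c : ↥(Cfsg.isometryGroup F Q) →* ℤˣ) :
    c = 1 ∨ c = parHom hQ hgen ∨ c = spinHom hQ hgen ∨ c = parHom hQ hgen * spinHom hQ hgen := by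
  classical
  obtain ⟨ν, hν⟩ := FiniteField.exists_nonsquare (ringChar_ne_two_of_ne h2)
  obtain ⟨e₁, he₁⟩ := exists_norm_eq hQ h2 hn (-1)
  obtain ⟨e₂, he₂⟩ := exists_norm_eq hQ h2 hn (-ν)
  have hν0 : ν ≠ 0 := by
    rintro rfl
    exact hν ⟨0, by ring⟩
  have hq₁ : Q e₁ ≠ 0 := by rw [he₁]; exact neg_ne_zero.2 one_ne_zero
  have hq₂ : Q e₂ ≠ 0 := by rw [he₂]; exact neg_ne_zero.2 hν0
  -- every reflection is congruent to `R e₁` or `R e₂`
  have hcls : ∀ (c' : ↥(Cfsg.isometryGroup F Q) →* ℤˣ) (x : ι → F), Q x ≠ 0 →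
      (IsSquare (-Q x) → c' (R hQ x) = c' (R hQ e₁)) ∧
      (¬ IsSquare (-Q x) → c' (R hQ x) = c' (R hQ e₂)) := by
    intro c' x hx
    constructor
    · intro hs
      apply char_R_eq hQ h2 c' x e₁ hx hq₁
      rw [he₁]
      have : Q x * -1 = -Q x := by ring
      rw [this]; exact hs
    · intro hs
      apply char_R_eq hQ h2 c' x e₂ hx hq₂
      rw [he₂]
      have : Q x * -ν = (-Q x) * ν := by ring
      rw [this, isSquare_mul_iff (neg_ne_zero.2 hx) hν0]
      tauto
  have hext : ∀ c' : ↥(Cfsg.isometryGroup F Q) →* ℤˣ, c (R hQ e₁) = c' (R hQ e₁) →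
      c (R hQ e₂) = c' (R hQ e₂) → c = c' := by
    intro c' h1 h2'
    apply char_ext hQ hgen
    intro x hx
    by_cases hs : IsSquare (-Q x)
    · rw [(hcls c x hx).1 hs, (hcls c' x hx).1 hs, h1]
    · rw [(hcls c x hx).2 hs, (hcls c' x hx).2 hs, h2']
  have hp₁ := parHom_R hQ hgen e₁ hq₁
  have hp₂ := parHom_R hQ hgen e₂ hq₂
  have hs₁ : spinHom hQ hgen (R hQ e₁) = 1 := by
    rw [spinHom_R hQ hgen e₁ hq₁, he₁, neg_neg]
    exact ⟨1, by ring⟩
  have hs₂ : spinHom hQ hgen (R hQ e₂) = -1 := by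
    rcases units_int_cases (spinHom hQ hgen (R hQ e₂)) with h | h
    · rw [spinHom_R hQ hgen e₂ hq₂, he₂, neg_neg] at h
      exact absurd h hν
    · exact h
  rcases units_int_cases (c (R hQ e₁)) with ha | ha <;>
    rcases units_int_cases (c (R hQ e₂)) with hb | hb
  · left
    apply hext 1 <;> simp [ha, hb]
  · right; right; left
    apply hext
    · rw [ha, hs₁]
    · rw [hb, hs₂]
  · right; right; right
    apply hext
    · rw [ha, MonoidHom.mul_apply, hp₁, hs₁]; simp
    · rw [hb, MonoidHom.mul_apply, hp₂, hs₂]; simp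
  · right; left
    apply hext
    · rw [ha, hp₁]
    · rw [hb, hp₂]

/-- the isometry group has exactly three subgroups of index two -/
theorem card_index_two [Fintype F] (h2 : (2 : F) ≠ 0) (hn : 2 ≤ Fintype.card ι)
    (hgen : Cfsg.isometryGroup F Q ≤ RR hQ) :
    Nat.card {H : Subgroup ↥(Cfsg.isometryGroup F Q) // H.index = 2} = 3 := by
  classical
  obtain ⟨ν, hν⟩ := FiniteField.exists_nonsquare (ringChar_ne_two_of_ne h2)
  obtain ⟨e₁, he₁⟩ := exists_norm_eq hQ h2 hn (-1)
  obtain ⟨e₂, he₂⟩ := exists_norm_eq hQ h2 hn (-ν)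
  have hν0 : ν ≠ 0 := by
    rintro rfl
    exact hν ⟨0, by ring⟩
  have hq₁ : Q e₁ ≠ 0 := by rw [he₁]; exact neg_ne_zero.2 one_ne_zero
  have hq₂ : Q e₂ ≠ 0 := by rw [he₂]; exact neg_ne_zero.2 hν0
  have hp₁ := parHom_R hQ hgen e₁ hq₁
  have hp₂ := parHom_R hQ hgen e₂ hq₂
  have hs₁ : spinHom hQ hgen (R hQ e₁) = 1 := by
    rw [spinHom_R hQ hgen e₁ hq₁, he₁, neg_neg]
    exact ⟨1, by ring⟩
  have hs₂ : spinHom hQ hgen (R hQ e₂) = -1 := by
    rcases units_int_cases (spinHom hQ hgen (R hQ e₂)) with h | h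
    · rw [spinHom_R hQ hgen e₂ hq₂, he₂, neg_neg] at h
      exact absurd h hν
    · exact h
  set K₁ := (parHom hQ hgen).ker with hK₁
  set K₂ := (spinHom hQ hgen).ker with hK₂
  set K₃ := (parHom hQ hgen * spinHom hQ hgen).ker with hK₃
  have hps₁ : (parHom hQ hgen * spinHom hQ hgen) (R hQ e₁) = -1 := by
    rw [MonoidHom.mul_apply, hp₁, hs₁]; simp
  have hps₂ : (parHom hQ hgen * spinHom hQ hgen) (R hQ e₂) = 1 := by
    rw [MonoidHom.mul_apply, hp₂, hs₂]; simp
  have hne : (1 : ℤˣ) ≠ -1 := by decide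
  have h12 : K₁ ≠ K₂ := by
    intro h
    have : R hQ e₁ ∈ K₂ := hs₁
    rw [← h] at this
    have h' : parHom hQ hgen (R hQ e₁) = 1 := this
    rw [hp₁] at h'
    exact hne h'.symm
  have h13 : K₁ ≠ K₃ := by
    intro h
    have : R hQ e₂ ∈ K₃ := hps₂
    rw [← h] at this
    have h' : parHom hQ hgen (R hQ e₂) = 1 := this
    rw [hp₂] at h'
    exact hne h'.symm
  have h23 : K₂ ≠ K₃ := by
    intro h
    have : R hQ e₁ ∈ K₂ := hs₁
    rw [h] at this
    have h' : (parHom hQ hgen * spinHom hQ hgen) (R hQ e₁) = 1 := this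
    rw [hps₁] at h'
    exact hne h'.symm
  have hset : {H : Subgroup ↥(Cfsg.isometryGroup F Q) | H.index = 2} = {K₁, K₂, K₃} := by
    ext H
    simp only [Set.mem_ofPred_eq, Set.mem_insert_iff, Set.mem_singleton_iff]
    constructor
    · intro hH
      have hker := signHom_ker H hH
      rcases char_classify hQ h2 hn hgen (signHom H hH) with h | h | h | h
      · exfalso
        rw [h] at hker
        have : H = ⊤ := by
          rw [← hker]
          exact MonoidHom.ker_one
        rw [this, Subgroup.index_top] at hH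
        omega
      · left; rw [← hker, h]
      · right; left; rw [← hker, h]
      · right; right; rw [← hker, h]
    · rintro (rfl | rfl | rfl)
      · exact index_ker_of_neg_one _ _ hp₁
      · exact index_ker_of_neg_one _ _ hs₂
      · exact index_ker_of_neg_one _ _ hps₁
  have : Nat.card {H : Subgroup ↥(Cfsg.isometryGroup F Q) // H.index = 2} =
      Set.ncard {H : Subgroup ↥(Cfsg.isometryGroup F Q) | H.index = 2} := rfl
  rw [this, hset]
  exact Set.ncard_eq_three.2 ⟨K₁, K₂, K₃, h12, h13, h23, rfl⟩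

end IndexTwo

end Cfsg.Agent.Lib.Helper5.OrthSN
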