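import Mathlib
import Cfsg.Agent.Lib.Helper5.Orth.IndexTwo
import Cfsg.Agent.Lib.Helper5.Orth.PlusFamily

set_option autoImplicit false
set_option linter.unusedSectionVars false
open Cfsg

/-!
The special orthogonal group has exactly one subgroup of index two.
-/

namespace Cfsg.Agent.Lib.Helper5.OrthSN

open Matrix Cfsg.Agent.H9.Orth Cfsg.Agent.Lib.Helper5.OrthTv Cfsg.Agent.Lib.Helper5.OrthPar
open Cfsg.Agent.Lib.Helper5.OrthUniv

section Gen

variable {G : Type*} [Group G]

/-- a group all of whose characters are trivial or equal to a fixed nontrivial one has exactly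
one subgroup of index two -/
lemma existsUnique_index_two (c₀ : G →* ℤˣ) (g₀ : G) (hg₀ : c₀ g₀ = -1)
    (hall : ∀ c : G →* ℤˣ, c = 1 ∨ c = c₀) : ∃! H : Subgroup G, H.index = 2 := by
  refine ⟨c₀.ker, index_ker_of_neg_one c₀ g₀ hg₀, ?_⟩
  intro H hH
  have hker := signHom_ker H hH
  rcases hall (signHom H hH) with h | h
  · exfalso
    rw [h] at hker
    have : H = ⊤ := by
      rw [← hker]
      exact MonoidHom.ker_one
    rw [this, Subgroup.index_top] at hH
    omega
  · rw [← hker, h]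

end Gen

section SO

variable {ι : Type} [Fintype ι] [DecidableEq ι] {F : Type*} [Field F] {Q : (ι → F) → F}
variable (hQ : Cfsg.Geo.IsNondegenerateQuadraticForm Q)

lemma mem_SO_iff (g : ↥(Cfsg.isometryGroup F Q)) :
    g ∈ Cfsg.specialIsometryGroup F Q ↔ ((g : GL ι F) : Matrix ι ι F).det = 1 := by
  unfold Cfsg.specialIsometryGroup
  rw [MonoidHom.mem_ker]
  constructor
  · intro h
    have := congrArg Units.val h
    exact this
  · intro h
    apply Units.ext
    exact h

include hQ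

lemma det_prod_rf (xs : List (ι → F)) (hxs : ∀ x ∈ xs, Q x ≠ 0) :
    (((xs.map (rf hQ)).prod : GL ι F) : Matrix ι ι F).det = (-1) ^ xs.length := by
  induction xs with
  | nil => simp
  | cons x xs ih =>
    rw [List.map_cons, List.prod_cons, Units.val_mul, Matrix.det_mul,
      det_rf hQ x (hxs x List.mem_cons_self), ih (fun y hy => hxs y (List.mem_cons_of_mem x hy)),
      List.length_cons, pow_succ]
    ring

/-- the product of two reflections, as an element of the special orthogonal group -/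
noncomputable def PP (x y : ι → F) (hx : Q x ≠ 0) (hy : Q y ≠ 0) :
    ↥(Cfsg.specialIsometryGroup F Q) :=
  ⟨R hQ x * R hQ y, by
    rw [mem_SO_iff]
    show ((rf hQ x * rf hQ y : GL ι F) : Matrix ι ι F).det = 1
    rw [Units.val_mul, Matrix.det_mul, det_rf hQ x hx, det_rf hQ y hy]
    ring⟩

lemma PP_val (x y : ι → F) (hx : Q x ≠ 0) (hy : Q y ≠ 0) :
    ((PP hQ x y hx hy : ↥(Cfsg.specialIsometryGroup F Q)) : ↥(Cfsg.isometryGroup F Q)) =
      R hQ x * R hQ y := rfl

lemma PP_mul_PP (x y z : ι → F) (hx : Q x ≠ 0) (hy : Q y ≠ 0) (hz : Q z ≠ 0) :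
    PP hQ x y hx hy * PP hQ y z hy hz = PP hQ x z hx hz := by
  apply Subtype.ext
  show (R hQ x * R hQ y) * (R hQ y * R hQ z) = R hQ x * R hQ z
  rw [mul_assoc, ← mul_assoc (R hQ y), R_mul_self, one_mul]

lemma PP_inv (x y : ι → F) (hx : Q x ≠ 0) (hy : Q y ≠ 0) :
    (PP hQ x y hx hy)⁻¹ = PP hQ y x hy hx := by
  apply inv_eq_of_mul_eq_one_right
  apply Subtype.ext
  show (R hQ x * R hQ y) * (R hQ y * R hQ x) = 1
  rw [mul_assoc, ← mul_assoc (R hQ y), R_mul_self, one_mul, R_mul_self]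

/-- `r_x r_y` is a square in `SO` when the reflection in `x - y` interchanges `x` and `y` -/
lemma PP_eq_sq (x y : ι → F) (hx : Q x ≠ 0) (hy : Q y ≠ 0) (hxy : Q x = Q y)
    (h : Q (x - y) ≠ 0) :
    PP hQ x y hx hy = PP hQ x (x - y) hx h * PP hQ x (x - y) hx h := by
  apply Subtype.ext
  show R hQ x * R hQ y = (R hQ x * R hQ (x - y)) * (R hQ x * R hQ (x - y))
  have h1 : R hQ y = R hQ (x - y) * R hQ x * (R hQ (x - y))⁻¹ := by
    apply Subtype.ext
    show rf hQ y = rf hQ (x - y) * rf hQ x * (rf hQ (x - y))⁻¹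
    rw [conj_rf hQ _ (rf_mem hQ _), act_rf_sub hQ x y hxy h]
  rw [h1, R_inv]
  simp only [mul_assoc]

/-- characters of `SO` are trivial on `r_x r_y` with `Q x = Q y` -/
lemma char_PP_of_eq (h2 : (2 : F) ≠ 0) (c : ↥(Cfsg.specialIsometryGroup F Q) →* ℤˣ)
    (x y : ι → F) (hx : Q x ≠ 0) (hy : Q y ≠ 0) (hxy : Q x = Q y) :
    c (PP hQ x y hx hy) = 1 := by
  have hsq : ∀ u : ℤˣ, u * u = 1 := by
    intro u
    rcases units_int_cases u with rfl | rfl <;> simp
  by_cases h : Q (x - y) ≠ 0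
  · rw [PP_eq_sq hQ x y hx hy hxy h, map_mul]
    exact hsq _
  · push Not at h
    have h' : Q (x - -y) ≠ 0 := by
      rw [sub_neg_eq_add]
      intro h0
      have e1 := Q_add Q x y
      have e2 := Q_sub hQ x y
      rw [h0] at e1
      rw [h] at e2
      have : (2 : F) * 2 * Q x = 0 := by
        rw [← hxy] at e1 e2
        linear_combination (-1 : F) * e1 - e2
      rcases mul_eq_zero.1 this with h3 | h3
      · rcases mul_eq_zero.1 h3 with h4 | h4 <;> exact h2 h4
      · exact hx h3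
    have hny : Q (-y) ≠ 0 := by rw [Q_neg hQ]; exact hy
    have e : PP hQ x y hx hy = PP hQ x (-y) hx hny := by
      apply Subtype.ext
      show R hQ x * R hQ y = R hQ x * R hQ (-y)
      rw [R_neg]
    rw [e, PP_eq_sq hQ x (-y) hx hny (by rw [Q_neg hQ]; exact hxy) h', map_mul]
    exact hsq _

/-- characters of `SO` are trivial on `r_x r_y` with `Q x Q y` a square -/
lemma char_PP_of_sq (h2 : (2 : F) ≠ 0) (c : ↥(Cfsg.specialIsometryGroup F Q) →* ℤˣ)
    (x y : ι → F) (hx : Q x ≠ 0) (hy : Q y ≠ 0) (h : IsSquare (Q x * Q y)) :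
    c (PP hQ x y hx hy) = 1 := by
  obtain ⟨s, hs⟩ := h
  have hs0 : s ≠ 0 := by
    rintro rfl
    rw [mul_zero] at hs
    exact (mul_ne_zero hx hy) hs
  have ha0 : s / Q x ≠ 0 := div_ne_zero hs0 hx
  have hQa : Q ((s / Q x) • x) = Q y := by
    rw [Q_smul hQ, div_pow]
    field_simp
    rw [pow_two, ← hs]
  have hne : Q ((s / Q x) • x) ≠ 0 := by rw [hQa]; exact hy
  have e : PP hQ x y hx hy = PP hQ ((s / Q x) • x) y hne hy := by
    apply Subtype.ext
    show R hQ x * R hQ y = R hQ ((s / Q x) • x) * R hQ y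
    have hR : R hQ ((s / Q x) • x) = R hQ x := Subtype.ext (rf_smul hQ _ ha0 x)
    rw [hR]
  rw [e]
  exact char_PP_of_eq hQ h2 c _ y hne hy hQa

end SO

end Cfsg.Agent.Lib.Helper5.OrthSN

namespace Cfsg.Agent.Lib.Helper5.OrthSN

open Matrix Cfsg.Agent.H9.Orth Cfsg.Agent.Lib.Helper5.OrthTv Cfsg.Agent.Lib.Helper5.OrthPar
open Cfsg.Agent.Lib.Helper5.OrthUniv

section SO2

variable {ι : Type} [Fintype ι] [DecidableEq ι] {F : Type*} [Field F] {Q : (ι → F) → F}
variable (hQ : Cfsg.Geo.IsNondegenerateQuadraticForm Q)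
include hQ

/-- two characters of `SO` agreeing on all products of two reflections are equal -/
lemma char_SO_ext (h2 : (2 : F) ≠ 0) (hgen : Cfsg.isometryGroup F Q ≤ RR hQ)
    (c c' : ↥(Cfsg.specialIsometryGroup F Q) →* ℤˣ)
    (h : ∀ x y hx hy, c (PP hQ x y hx hy) = c' (PP hQ x y hx hy)) : c = c' := by
  have key : ∀ n : ℕ, ∀ xs : List (ι → F), xs.length = 2 * n → (∀ x ∈ xs, Q x ≠ 0) →
      ∀ g : ↥(Cfsg.specialIsometryGroup F Q),
        ((g : ↥(Cfsg.isometryGroup F Q)) : GL ι F) = (xs.map (rf hQ)).prod → c g = c' g := by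
    intro n
    induction n with
    | zero =>
      intro xs hlen _ g hg
      have : xs = [] := List.length_eq_zero_iff.1 (by omega)
      rw [this] at hg
      have hg1 : g = 1 := by
        apply Subtype.ext
        apply Subtype.ext
        rw [hg]
        simp
      rw [hg1, map_one, map_one]
    | succ n ih =>
      intro xs hlen hxs g hg
      match xs, hlen, hxs, hg with
      | [], hlen, _, _ =>
        exfalso
        simp only [List.length_nil] at hlen
        omega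
      | [_], hlen, _, _ =>
        exfalso
        simp only [List.length_cons, List.length_nil] at hlen
        omega
      | x :: y :: rest, hlen, hxs, hg =>
        have hx : Q x ≠ 0 := hxs x (by simp)
        have hy : Q y ≠ 0 := hxs y (by simp)
        have hrest : ∀ z ∈ rest, Q z ≠ 0 := fun z hz => hxs z (by simp [hz])
        set g' := (PP hQ x y hx hy)⁻¹ * g with hg'
        have hgg' : g = PP hQ x y hx hy * g' := by rw [hg']; group
        have hg'val : ((g' : ↥(Cfsg.isometryGroup F Q)) : GL ι F) = (rest.map (rf hQ)).prod := by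
          show ((rf hQ x * rf hQ y)⁻¹ : GL ι F) * ((g : ↥(Cfsg.isometryGroup F Q)) : GL ι F) = _
          rw [hg, List.map_cons, List.prod_cons, List.map_cons, List.prod_cons]
          group
        have hlen' : rest.length = 2 * n := by
          simp only [List.length_cons] at hlen
          omega
        have e1 := congrArg c hgg'
        have e2 := congrArg c' hgg'
        rw [map_mul] at e1 e2
        rw [e1, e2, h x y hx hy, ih rest hlen' hrest g' hg'val]
  apply MonoidHom.ext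
  intro g
  obtain ⟨xs, hxs, hg⟩ := exists_list hQ hgen ((g : ↥(Cfsg.isometryGroup F Q)) : GL ι F)
    (g : ↥(Cfsg.isometryGroup F Q)).2
  have hdet := (mem_SO_iff (g : ↥(Cfsg.isometryGroup F Q))).1 g.2
  rw [hg, det_prod_rf hQ xs hxs] at hdet
  have hne : (-1 : F) ≠ 1 := by
    intro h'
    apply h2
    linear_combination -h'
  have hev : Even xs.length := (neg_one_pow_eq_one_iff_even hne).1 hdet
  obtain ⟨k, hk⟩ := hev
  exact key k xs (by omega) hxs g hg

/-- the characters of `SO` in odd characteristic -/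
theorem char_SO_odd [Fintype F] (h2 : (2 : F) ≠ 0) (hn : 2 ≤ Fintype.card ι)
    (hgen : Cfsg.isometryGroup F Q ≤ RR hQ) :
    ∃ (c₀ : ↥(Cfsg.specialIsometryGroup F Q) →* ℤˣ) (g₀ : ↥(Cfsg.specialIsometryGroup F Q)),
      c₀ g₀ = -1 ∧ ∀ c : ↥(Cfsg.specialIsometryGroup F Q) →* ℤˣ, c = 1 ∨ c = c₀ := by
  classical
  obtain ⟨ν, hν⟩ := FiniteField.exists_nonsquare (ringChar_ne_two_of_ne h2)
  obtain ⟨e₁, he₁⟩ := exists_norm_eq hQ h2 hn (-1)
  obtain ⟨e₂, he₂⟩ := exists_norm_eq hQ h2 hn (-ν)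
  have hν0 : ν ≠ 0 := by
    rintro rfl
    exact hν ⟨0, by ring⟩
  have hq₁ : Q e₁ ≠ 0 := by rw [he₁]; exact neg_ne_zero.2 one_ne_zero
  have hq₂ : Q e₂ ≠ 0 := by rw [he₂]; exact neg_ne_zero.2 hν0
  set t₀ := PP hQ e₁ e₂ hq₁ hq₂ with ht₀
  set c₀ : ↥(Cfsg.specialIsometryGroup F Q) →* ℤˣ :=
    (spinHom hQ hgen).comp (Cfsg.specialIsometryGroup F Q).subtype with hc₀
  have hs₁ : spinHom hQ hgen (R hQ e₁) = 1 := by
    rw [spinHom_R hQ hgen e₁ hq₁, he₁, neg_neg]
    exact ⟨1, by ring⟩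
  have hs₂ : spinHom hQ hgen (R hQ e₂) = -1 := by
    rcases units_int_cases (spinHom hQ hgen (R hQ e₂)) with h | h
    · rw [spinHom_R hQ hgen e₂ hq₂, he₂, neg_neg] at h
      exact absurd h hν
    · exact h
  have hc₀t₀ : c₀ t₀ = -1 := by
    show spinHom hQ hgen (R hQ e₁ * R hQ e₂) = -1
    rw [map_mul, hs₁, hs₂]; simp
  have hinv : ∀ u : ℤˣ, u⁻¹ = u := by
    intro u
    rcases units_int_cases u with rfl | rfl <;> simp
  -- the value of a character on a product of two reflections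
  have hval : ∀ (c : ↥(Cfsg.specialIsometryGroup F Q) →* ℤˣ) (x y : ι → F) (hx : Q x ≠ 0)
      (hy : Q y ≠ 0), (IsSquare (Q x * Q y) → c (PP hQ x y hx hy) = 1) ∧
        (¬ IsSquare (Q x * Q y) → c (PP hQ x y hx hy) = c t₀) := by
    intro c x y hx hy
    refine ⟨fun hs => char_PP_of_sq hQ h2 c x y hx hy hs, fun hs => ?_⟩
    have hxy : Q x * Q y = (-Q x) * (-Q y) := by ring
    rw [hxy, isSquare_mul_iff (neg_ne_zero.2 hx) (neg_ne_zero.2 hy)] at hs
    have hcls₁ : ∀ z, Q z ≠ 0 → IsSquare (-Q z) → IsSquare (Q z * Q e₁) := by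
      intro z _ hz
      rw [he₁]
      have : Q z * -1 = -Q z := by ring
      rw [this]; exact hz
    have hcls₂ : ∀ z, Q z ≠ 0 → ¬ IsSquare (-Q z) → IsSquare (Q z * Q e₂) := by
      intro z hz0 hz
      rw [he₂]
      have : Q z * -ν = (-Q z) * ν := by ring
      rw [this, isSquare_mul_iff (neg_ne_zero.2 hz0) hν0]
      tauto
    have hsymm : ∀ a b : F, IsSquare (a * b) → IsSquare (b * a) := by
      intro a b h
      rwa [mul_comm]
    by_cases hsx : IsSquare (-Q x)
    · have hsy : ¬ IsSquare (-Q y) := by tauto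
      have e : PP hQ x y hx hy = PP hQ x e₁ hx hq₁ * t₀ * PP hQ e₂ y hq₂ hy := by
        rw [ht₀, PP_mul_PP, PP_mul_PP]
      rw [e, map_mul, map_mul, char_PP_of_sq hQ h2 c x e₁ hx hq₁ (hcls₁ x hx hsx),
        char_PP_of_sq hQ h2 c e₂ y hq₂ hy (hsymm _ _ (hcls₂ y hy hsy))]
      simp
    · have hsy : IsSquare (-Q y) := by tauto
      have e : PP hQ x y hx hy = PP hQ x e₂ hx hq₂ * t₀⁻¹ * PP hQ e₁ y hq₁ hy := by
        rw [ht₀, PP_inv, PP_mul_PP, PP_mul_PP]
      rw [e, map_mul, map_mul, map_inv, hinv,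
        char_PP_of_sq hQ h2 c x e₂ hx hq₂ (hcls₂ x hx hsx),
        char_PP_of_sq hQ h2 c e₁ y hq₁ hy (hsymm _ _ (hcls₁ y hy hsy))]
      simp
  refine ⟨c₀, t₀, hc₀t₀, fun c => ?_⟩
  rcases units_int_cases (c t₀) with hct | hct
  · left
    apply char_SO_ext hQ h2 hgen
    intro x y hx hy
    rw [MonoidHom.one_apply]
    by_cases hs : IsSquare (Q x * Q y)
    · exact (hval c x y hx hy).1 hs
    · rw [(hval c x y hx hy).2 hs, hct]
  · right
    apply char_SO_ext hQ h2 hgen
    intro x y hx hy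
    by_cases hs : IsSquare (Q x * Q y)
    · rw [(hval c x y hx hy).1 hs, (hval c₀ x y hx hy).1 hs]
    · rw [(hval c x y hx hy).2 hs, (hval c₀ x y hx hy).2 hs, hct, hc₀t₀]

end SO2

end Cfsg.Agent.Lib.Helper5.OrthSN

namespace Cfsg.Agent.Lib.Helper5.OrthSN

open Matrix Cfsg.Agent.H9.Orth Cfsg.Agent.Lib.Helper5.OrthTv Cfsg.Agent.Lib.Helper5.OrthPar
open Cfsg.Agent.Lib.Helper5.OrthUniv

section SO3

variable {ι : Type} [Fintype ι] [DecidableEq ι] {F : Type*} [Field F] {Q : (ι → F) → F}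
variable (hQ : Cfsg.Geo.IsNondegenerateQuadraticForm Q)
include hQ

/-- the characters of `SO = O` in characteristic two -/
theorem char_SO_two [Fintype F] (h2 : (2 : F) = 0) (hn : 2 ≤ Fintype.card ι)
    (h : Fintype.card F ≠ 2 ∨ Fintype.card ι ≠ 4) :
    ∃ (c₀ : ↥(Cfsg.specialIsometryGroup F Q) →* ℤˣ) (g₀ : ↥(Cfsg.specialIsometryGroup F Q)),
      c₀ g₀ = -1 ∧ ∀ c : ↥(Cfsg.specialIsometryGroup F Q) →* ℤˣ, c = 1 ∨ c = c₀ := by
  classical
  have hgen : Cfsg.isometryGroup F Q ≤ RR hQ := Cfsg.Agent.H9.Orth.iso_le_RR hQ h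
  have hchar := charP_two_of_two_eq_zero hQ h2
  have : Nonempty ι := by
    rw [← Fintype.card_pos_iff]; omega
  have hneg : (-1 : F) = 1 := by
    linear_combination -h2
  have hSO : ∀ g : ↥(Cfsg.isometryGroup F Q), g ∈ Cfsg.specialIsometryGroup F Q := by
    intro g
    rw [mem_SO_iff]
    obtain ⟨xs, hxs, hg⟩ := exists_list hQ hgen (g : GL ι F) g.2
    rw [hg, det_prod_rf hQ xs hxs, hneg, one_pow]
  set emb : ↥(Cfsg.isometryGroup F Q) →* ↥(Cfsg.specialIsometryGroup F Q) :=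
    (MonoidHom.id _).codRestrict (Cfsg.specialIsometryGroup F Q) hSO with hemb
  have hemb_val : ∀ g : ↥(Cfsg.specialIsometryGroup F Q),
      emb (g : ↥(Cfsg.isometryGroup F Q)) = g := fun g => Subtype.ext rfl
  obtain ⟨x₀, hx₀⟩ := exists_nonsing hQ
  set c₀ : ↥(Cfsg.specialIsometryGroup F Q) →* ℤˣ :=
    (parHom hQ hgen).comp (Cfsg.specialIsometryGroup F Q).subtype with hc₀
  refine ⟨c₀, emb (R hQ x₀), parHom_R hQ hgen x₀ hx₀, fun c => ?_⟩
  set c' : ↥(Cfsg.isometryGroup F Q) →* ℤˣ := c.comp emb with hc'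
  have hinv : ∀ u : ℤˣ, u * u = 1 := by
    intro u
    rcases units_int_cases u with rfl | rfl <;> simp
  have hRx : ∀ x, Q x ≠ 0 → c' (R hQ x) = c' (R hQ x₀) := by
    intro x hx
    have h1 := char_omega hQ c' _ (R_mul_R_mem hQ h x x₀ hx hx₀)
    rw [map_mul] at h1
    exact mul_right_cancel (h1.trans (hinv _).symm)
  rcases units_int_cases (c' (R hQ x₀)) with hc | hc
  · left
    have : c' = 1 := by
      apply char_ext hQ hgen
      intro x hx
      rw [hRx x hx, hc, MonoidHom.one_apply]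
    apply MonoidHom.ext
    intro g
    rw [← hemb_val g]
    show c' (g : ↥(Cfsg.isometryGroup F Q)) = _
    rw [this]
    simp
  · right
    have : c' = parHom hQ hgen := by
      apply char_ext hQ hgen
      intro x hx
      rw [hRx x hx, hc, parHom_R hQ hgen x hx]
    apply MonoidHom.ext
    intro g
    rw [← hemb_val g]
    show c' (g : ↥(Cfsg.isometryGroup F Q)) = _
    rw [this]
    rfl

/-- the special orthogonal group has exactly one subgroup of index two -/
theorem SO_existsUnique [Fintype F] (hn : 2 ≤ Fintype.card ι)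
    (h : Fintype.card F ≠ 2 ∨ Fintype.card ι ≠ 4) :
    ∃! H : Subgroup ↥(Cfsg.specialIsometryGroup F Q), H.index = 2 := by
  have hgen : Cfsg.isometryGroup F Q ≤ RR hQ := Cfsg.Agent.H9.Orth.iso_le_RR hQ h
  by_cases h2 : (2 : F) = 0
  · obtain ⟨c₀, g₀, hg₀, hall⟩ := char_SO_two hQ h2 hn h
    exact existsUnique_index_two c₀ g₀ hg₀ hall
  · obtain ⟨c₀, g₀, hg₀, hall⟩ := char_SO_odd hQ h2 hn hgen
    exact existsUnique_index_two c₀ g₀ hg₀ hall

end SO3

end Cfsg.Agent.Lib.Helper5.OrthSN
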