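import Mathlib
import Cfsg.Agent.Lib.Helper5.Orth.SpinorDiag2

set_option autoImplicit false
set_option linter.unusedSectionVars false
open Cfsg

/-!
The scalar `-1` lies in `Ω` iff the dimension is even and the discriminant is a square.
-/

namespace Cfsg.Agent.Lib.Helper5.OrthSN

open Matrix Cfsg.Agent.H9.Orth Cfsg.Agent.Lib.Helper5.OrthTv Cfsg.Agent.Lib.Helper5.OrthPar

section Neg

variable {ι : Type} [Fintype ι] [DecidableEq ι] {F : Type*} [Field F] {Q : (ι → F) → F}
variable (hQ : Cfsg.Geo.IsNondegenerateQuadraticForm Q)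
include hQ

lemma neg_one_mem_iso : (-1 : GL ι F) ∈ Cfsg.isometryGroup F Q := by
  rw [mem_isometryGroup_iff]
  intro v
  have : act (-1 : GL ι F) v = -v := by
    show ((-1 : GL ι F) : Matrix ι ι F) *ᵥ v = -v
    rw [Units.val_neg, Units.val_one, Matrix.neg_mulVec, Matrix.one_mulVec]
  rw [this, Q_neg hQ]

/-- in even dimension, `-1 ∈ Ω` iff the discriminant is a square -/
theorem neg_one_mem_omega_iff [Fintype F] (h2 : (2 : F) ≠ 0)
    (hgen : Cfsg.isometryGroup F Q ≤ RR hQ) (g : ↥(Cfsg.isometryGroup F Q))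
    (hg : ((g : GL ι F) : Matrix ι ι F) = -1) (hev : Even (Fintype.card ι))
    (hdet : (Matrix.of fun j k : ι => pol Q (Pi.single j 1) (Pi.single k 1)).det ≠ 0) :
    g ∈ Cfsg.Omega F Q ↔
      IsSquare (Matrix.of fun j k : ι => pol Q (Pi.single j 1) (Pi.single k 1)).det := by
  have hne : (-1 : F) ≠ 1 := by
    intro h
    apply h2
    linear_combination -h
  have hg' : ((g : GL ι F) : Matrix ι ι F) = Matrix.diagonal (fun _ => (-1 : F)) := by
    rw [hg]
    ext x y
    by_cases h : x = y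
    · subst h; simp
    · simp [h]
  have hrank := rank_diag_sub_one (g : GL ι F) (fun _ => (-1 : F)) hg'
  have hc : Nat.card {_k : ι // (-1 : F) ≠ 1} = Fintype.card ι := by
    rw [Nat.card_congr (Equiv.subtypeUnivEquiv (fun _ => hne)), Nat.card_eq_fintype_card]
  rw [hc] at hrank
  have hW := WS_of_neg_frame hQ (g : GL ι F) (fun k : ι => (Pi.single k 1 : ι → F))
    (fun k => act_diag_single _ _ hg' k rfl) hrank.symm hdet h2
  have hpar : par (g : GL ι F) := by
    unfold par
    rw [hrank]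
    exact hev
  rw [mem_omega_iff hQ h2 hgen, spin_iff_of_mem hQ _ g.2 _ hW]
  obtain ⟨k, hk⟩ := hev
  have hsq : IsSquare ((-2 : F) ^ Fintype.card ι) := by
    rw [hk, pow_add]
    exact ⟨_, rfl⟩
  have h0 : (-2 : F) ^ Fintype.card ι ≠ 0 := pow_ne_zero _ (neg_ne_zero.2 h2)
  constructor
  · rintro ⟨-, hs⟩
    exact isSquare_of_mul h0 hsq hs
  · intro hs
    exact ⟨hpar, hsq.mul hs⟩

end Neg

end Cfsg.Agent.Lib.Helper5.OrthSN
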