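import Mathlib
import Cfsg.Agent.Lib.Helper5.OrthAut.Classes
import Cfsg.Agent.H9.OrthC

set_option autoImplicit false
set_option linter.unusedSectionVars false
open Cfsg

/-!
Over the field with two elements: the pointwise stabiliser, in the isometry group of a hyperbolic
quadratic form of dimension `2m`, of a totally singular subspace of dimension `m - 1` is a
`2`-group.
-/

namespace Cfsg.Agent.Lib.Helper5.OrthF2

open Matrix Cfsg.Agent.H9.Orth Cfsg.Agent.Lib.Helper5.OrthSN Cfsg.Agent.Lib.Helper5.OrthPar
open Cfsg.Agent.Lib.Helper5.OrthTv Cfsg.Agent.Lib.Helper5.OrthCls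

section F2

variable {F : Type*} [Field F] [Fintype F]

lemma eq_zero_or_one (hF : Fintype.card F = 2) (a : F) : a = 0 ∨ a = 1 := by
  classical
  by_contra h
  push Not at h
  have h3 : ({0, 1, a} : Finset F).card = 3 := by
    rw [Finset.card_insert_of_notMem, Finset.card_insert_of_notMem, Finset.card_singleton]
    · simpa using h.2.symm
    · simp only [Finset.mem_insert, Finset.mem_singleton, not_or]
      exact ⟨zero_ne_one, h.1.symm⟩
  have := Finset.card_le_univ ({0, 1, a} : Finset F)
  omega

lemma two_eq_zero (hF : Fintype.card F = 2) : (2 : F) = 0 := by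
  rcases eq_zero_or_one hF (2 : F) with h | h
  · exact h
  · exfalso
    have : (1 : F) = 0 := by linear_combination h
    exact one_ne_zero this

lemma add_self_F2 (hF : Fintype.card F = 2) (a : F) : a + a = 0 := by
  have := two_eq_zero hF
  linear_combination a * this

lemma cast_odd (hF : Fintype.card F = 2) (r : ℕ) (hr : Odd r) : (r : F) = 1 := by
  obtain ⟨k, rfl⟩ := hr
  push_cast
  rw [two_eq_zero hF]
  ring

end F2

section Fix

variable {ι : Type} [Fintype ι] [DecidableEq ι] {F : Type*} [Field F] [Fintype F]
variable {Q : (ι → F) → F}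
variable (hQ : Cfsg.Geo.IsNondegenerateQuadraticForm Q)
include hQ

lemma vadd_self (hF : Fintype.card F = 2) (x : ι → F) : x + x = 0 := by
  funext i
  exact add_self_F2 hF (x i)

/-- an isometry of odd order fixing pointwise a totally singular subspace of dimension `m - 1`
of a hyperbolic space of dimension `2m` over `𝔽₂` is trivial -/
theorem eq_one_of_odd_of_fix (hF : Fintype.card F = 2) (m : ℕ) (hm : Fintype.card ι = 2 * m)
    (U₀ : Submodule F (ι → F)) (h₀ : IsMaxTS Q U₀)
    (V : Submodule F (ι → F)) (hV : Cfsg.Geo.IsTotallySingularQuad Q V)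
    (hVd : Module.finrank F V + 1 = m)
    (g : GL ι F) (hg : g ∈ Cfsg.isometryGroup F Q) (hfix : ∀ v ∈ V, act g v = v)
    (r : ℕ) (hr : Odd r) (hpow : g ^ r = 1) : g = 1 := by
  classical
  by_contra hne
  -- the operator N = g - 1
  set Nl : (ι → F) →ₗ[F] (ι → F) := Matrix.toLin' (g : Matrix ι ι F) - LinearMap.id with hNl
  have hNl_apply : ∀ x, Nl x = act g x - x := by
    intro x
    rw [hNl, LinearMap.sub_apply, Matrix.toLin'_apply, LinearMap.id_apply]
  set I : Submodule F (ι → F) := LinearMap.range Nl with hI
  have hmemI : ∀ x, act g x - x ∈ I := fun x => ⟨x, hNl_apply x⟩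
  -- (1) I ≤ perp V
  have hIperp : I ≤ perp hQ V := by
    rintro _ ⟨x, rfl⟩
    rw [mem_perp, hNl_apply]
    intro v hv
    rw [pol_sub_right hQ]
    have := pol_act g hg v x
    rw [hfix v hv] at this
    rw [this, sub_self]
  -- (2) no nonzero fixed vectors in I
  have hIfix : ∀ y ∈ I, act g y = y → y = 0 := by
    rintro _ ⟨x, rfl⟩ hy
    rw [hNl_apply] at hy ⊢
    set y := act g x - x with hy'
    have hpowx : ∀ i : ℕ, act (g ^ i) x = x + (i : F) • y := by
      intro i
      induction i with
      | zero => simp [act_one]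
      | succ i ih =>
        rw [pow_succ', act_mul, ih, act_add, act_smul, hy]
        have : act g x = x + y := by rw [hy']; abel
        rw [this]
        push_cast
        module
    have h1 := hpowx r
    rw [hpow, act_one, cast_odd hF r hr, one_smul] at h1
    have : x + y = x + 0 := by rw [add_zero]; exact h1.symm
    exact add_left_cancel this
  -- (3) I ⊓ V = ⊥
  have hIV : I ⊓ V = ⊥ := by
    rw [eq_bot_iff]
    rintro y ⟨hyI, hyV⟩
    exact hIfix y hyI (hfix y hyV)
  -- dimension of perp V
  have hperpV : Module.finrank F (perp hQ V) = m + 1 := by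
    rw [finrank_perp hQ V, hm]
    omega
  have hVperp : V ≤ perp hQ V := ts_le_perp hQ V hV
  -- (4) finrank I ≤ 2
  have hsup_le : I ⊔ V ≤ perp hQ V := sup_le hIperp hVperp
  have hfin_sup := Submodule.finrank_sup_add_finrank_inf_eq I V
  rw [hIV, finrank_bot, add_zero] at hfin_sup
  have hI2 : Module.finrank F I ≤ 2 := by
    have := Submodule.finrank_mono hsup_le
    omega
  -- (5) a nonzero vector of I
  obtain ⟨x, hx⟩ : ∃ x, act g x ≠ x := by
    by_contra hcon
    push Not at hcon
    apply hne
    apply gl_ext
    intro x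
    rw [hcon x, act_one]
  set y := act g x - x with hy
  have hy0 : y ≠ 0 := by
    intro h
    apply hx
    exact sub_eq_zero.1 h
  have hyI : y ∈ I := hmemI x
  set y' := act g y with hy'
  have hy'I : y' ∈ I := by
    have : y' = act g (act g x) - act g x := by rw [hy', hy, act_sub]
    rw [this]
    exact hmemI _
  have hyy' : y' ≠ y := fun h => hy0 (hIfix y hyI h)
  have hy'0 : y' ≠ 0 := by
    intro h
    apply hy0
    apply act_injective g
    rw [act_zero]
    exact h
  have hli : LinearIndependent F ![y, y'] := by
    rw [LinearIndependent.pair_iff]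
    intro s t hst
    rcases eq_zero_or_one hF s with rfl | rfl
    · rcases eq_zero_or_one hF t with rfl | rfl
      · exact ⟨rfl, rfl⟩
      · exfalso
        rw [zero_smul, one_smul, zero_add] at hst
        exact hy'0 hst
    · rcases eq_zero_or_one hF t with rfl | rfl
      · exfalso
        rw [zero_smul, one_smul, add_zero] at hst
        exact hy0 hst
      · exfalso
        rw [one_smul, one_smul] at hst
        apply hyy'
        have h2 := vadd_self hQ hF y
        have : y' = y' + (y + y) := by rw [h2, add_zero]
        rw [this, ← add_assoc, add_comm y' y, hst, zero_add]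
  set J : Submodule F (ι → F) := Submodule.span F (Set.range ![y, y']) with hJ
  have hJI : J ≤ I := by
    rw [hJ, Submodule.span_le]
    rintro _ ⟨i, rfl⟩
    fin_cases i
    · exact hyI
    · exact hy'I
  have hJ2 : Module.finrank F J = 2 := by
    rw [hJ, finrank_span_eq_card hli, Fintype.card_fin]
  have hJeq : J = I := Submodule.eq_of_le_of_finrank_le hJI (by rw [hJ2]; exact hI2)
  have hIfin : Module.finrank F I = 2 := by rw [← hJeq, hJ2]
  have hmemJ : ∀ z ∈ I, z = 0 ∨ z = y ∨ z = y' ∨ z = y + y' := by
    intro z hz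
    rw [← hJeq, hJ, Matrix.range_cons_cons_empty, Submodule.mem_span_pair] at hz
    obtain ⟨s, t, rfl⟩ := hz
    rcases eq_zero_or_one hF s with rfl | rfl <;> rcases eq_zero_or_one hF t with rfl | rfl
    · left; simp
    · right; right; left; simp
    · right; left; simp
    · right; right; right; simp
  -- g² y = y + y'
  set y'' := act g y' with hy''
  have hy''I : y'' ∈ I := by
    have : y'' = act g (act g (act g x)) - act g (act g x) := by
      rw [hy'', hy', hy, act_sub, act_sub]
    rw [this]
    exact hmemI _
  have hy''eq : y'' = y + y' := by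
    rcases hmemJ y'' hy''I with h | h | h | h
    · exfalso
      apply hy'0
      apply act_injective g
      rw [act_zero]
      exact h
    · exfalso
      -- then y + y' is fixed
      have hfixed : act g (y + y') = y + y' := by
        rw [act_add, ← hy', ← hy'', h, add_comm]
      have := hIfix (y + y') (I.add_mem hyI hy'I) hfixed
      apply hyy'
      have h2 := vadd_self hQ hF y
      have e : y' = y' + (y + y) := by rw [h2, add_zero]
      rw [e, ← add_assoc, add_comm y' y, this, zero_add]
    · exfalso
      apply hyy'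
      apply act_injective g
      rw [← hy', ← hy'']
      exact h
    · exact h
  -- Q-values
  have hQy' : Q y' = Q y := Q_act g hg y
  have hQy'' : Q (y + y') = Q y := by
    rw [← hy''eq, hy'', Q_act g hg y', hQy']
  have hpol : pol Q y y' = Q y := by
    have h1 := Q_add Q y y'
    rw [hQy'', hQy'] at h1
    have h2 := add_self_F2 hF (Q y)
    linear_combination (-1 : F) * h1 - h2
  have hQI : ∀ z ∈ I, z ≠ 0 → Q z = Q y := by
    intro z hz hz0
    rcases hmemJ z hz with h | h | h | h
    · exact absurd h hz0
    · rw [h]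
    · rw [h, hQy']
    · rw [h, hQy'']
  -- perp V = V ⊔ I
  have hperp_eq : I ⊔ V = perp hQ V := by
    apply Submodule.eq_of_le_of_finrank_le hsup_le
    rw [hperpV, hfin_sup, hIfin]
    omega
  -- a totally singular subspace strictly containing V
  have hlt : Module.finrank F V < m := by omega
  obtain ⟨W, hW, hVW, hWV⟩ := exists_ts_gt hQ m hm U₀ h₀ V hV hlt
  obtain ⟨x₀, hx₀W, hx₀V⟩ : ∃ x₀ ∈ W, x₀ ∉ V := by
    by_contra hcon
    push Not at hcon
    exact hWV (le_antisymm hcon hVW)
  have hx₀perp : x₀ ∈ perp hQ V := perp_anti hQ hVW (ts_le_perp hQ W hW hx₀W)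
  rw [← hperp_eq] at hx₀perp
  obtain ⟨i, hiI, v, hvV, hiv⟩ := Submodule.mem_sup.1 hx₀perp
  have hi0 : i ≠ 0 := by
    rintro rfl
    rw [zero_add] at hiv
    rw [← hiv] at hx₀V
    exact hx₀V hvV
  have hQy0 : Q y = 0 := by
    have h1 := hW x₀ hx₀W
    rw [← hiv, Q_add Q, hV v hvV, hQI i hiI hi0, add_zero,
      (mem_perp' hQ V i).1 (hIperp hiI) v hvV, add_zero] at h1
    exact h1
  -- now perp V is totally singular, of dimension m + 1
  have hts : Cfsg.Geo.IsTotallySingularQuad Q (perp hQ V) := by
    rw [← hperp_eq]
    apply ts_sup hQ I V _ hV hIperp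
    intro z hz
    by_cases hz0 : z = 0
    · rw [hz0, Q_zero hQ]
    · rw [hQI z hz hz0, hQy0]
  have := ts_finrank_le hQ (perp hQ V) hts
  rw [hperpV, hm] at this
  omega

end Fix

end Cfsg.Agent.Lib.Helper5.OrthF2
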