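import Mathlib
import Cfsg.Prelude.Def_GeometricClasses
import Cfsg.Agent.Lib.Helper5.Orth.QBasic
import Cfsg.Agent.Lib.Helper5.Orth.PlusPlane
import Cfsg.Agent.Lib.Helper5.Orth.FrameMain

set_option autoImplicit false
set_option linter.unusedSectionVars false
open Cfsg Matrix

/-!
Frames of constant norm in small non-degenerate quadratic spaces over the field with three
elements: orthogonal bases, classification of the vectors of the frame norm, frames for
non-degenerate 3-spaces and for anisotropic planes, transport along isometries.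
-/

namespace Cfsg.Agent.Lib.Helper5.Orth

variable {ι : Type} [Fintype ι] [DecidableEq ι] {F : Type*} [Field F]

section Sums

variable {Q : (ι → F) → F} (hQ : IsQuad Q)

include hQ

lemma pol_sum_left {α : Type*} (s : Finset α) (w : α → (ι → F)) (v : ι → F) :
    pol Q (∑ i ∈ s, w i) v = ∑ i ∈ s, pol Q (w i) v := by
  classical
  induction s using Finset.induction_on with
  | empty => simp [pol_zero_left hQ]
  | insert a s ha ih => rw [Finset.sum_insert ha, Finset.sum_insert ha, pol_add_left hQ, ih]

lemma pol_sum_right {α : Type*} (s : Finset α) (w : α → (ι → F)) (v : ι → F) :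
    pol Q v (∑ i ∈ s, w i) = ∑ i ∈ s, pol Q v (w i) := by
  rw [pol_comm, pol_sum_left hQ]
  exact Finset.sum_congr rfl (fun i _ => pol_comm _ _)

lemma Q_sum_orth {α : Type*} (s : Finset α) (w : α → (ι → F))
    (h : ∀ i ∈ s, ∀ j ∈ s, i ≠ j → pol Q (w i) (w j) = 0) :
    Q (∑ i ∈ s, w i) = ∑ i ∈ s, Q (w i) := by
  classical
  induction s using Finset.induction_on with
  | empty => simp [Q_zero hQ]
  | insert a s ha ih =>
    have hz : ∑ i ∈ s, pol Q (w a) (w i) = 0 := by
      apply Finset.sum_eq_zero
      intro i hi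
      exact h a (Finset.mem_insert_self a s) i (Finset.mem_insert_of_mem hi)
        (fun hai => ha (hai ▸ hi))
    rw [Finset.sum_insert ha, Finset.sum_insert ha, Q_add Q, pol_sum_right hQ, hz, add_zero, ih]
    intro i hi j hj hij
    exact h i (Finset.mem_insert_of_mem hi) j (Finset.mem_insert_of_mem hj) hij

/-- pairwise orthogonal vectors of non-zero norm are linearly independent (char ≠ 2) -/
lemma linearIndependent_of_orth (h2 : (2 : F) ≠ 0) {k : ℕ} (u : Fin k → (ι → F))
    (hnorm : ∀ j, Q (u j) ≠ 0) (horth : ∀ j j', j ≠ j' → pol Q (u j) (u j') = 0) :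
    LinearIndependent F u := by
  rw [Fintype.linearIndependent_iff]
  intro g hg j
  have h1 : pol Q (∑ i, g i • u i) (u j) = g j * (2 * Q (u j)) := by
    rw [pol_sum_left hQ, Finset.sum_eq_single j]
    · rw [pol_smul_left hQ, pol_self hQ]
    · intro i _ hij
      rw [pol_smul_left hQ, horth i j hij, mul_zero]
    · intro h; exact absurd (Finset.mem_univ j) h
  rw [hg, pol_zero_left hQ] at h1
  rcases mul_eq_zero.1 h1.symm with h | h
  · exact h
  · exact absurd h (mul_ne_zero h2 (hnorm j))

/-- pairwise orthogonal vectors of non-zero norm in `U`, as many as `dim U`, span `U` -/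
lemma exists_coeff_of_orth (h2 : (2 : F) ≠ 0) {k : ℕ} (U : Submodule F (ι → F))
    (hdim : Module.finrank F U = k) (u : Fin k → (ι → F)) (hmem : ∀ j, u j ∈ U)
    (hnorm : ∀ j, Q (u j) ≠ 0) (horth : ∀ j j', j ≠ j' → pol Q (u j) (u j') = 0)
    (v : ι → F) (hv : v ∈ U) : ∃ x : Fin k → F, ∑ i, x i • u i = v := by
  have hli := linearIndependent_of_orth hQ h2 u hnorm horth
  have hfr : Module.finrank F (Submodule.span F (Set.range u)) = k := by
    rw [finrank_span_eq_card hli, Fintype.card_fin]
  have hle : Submodule.span F (Set.range u) ≤ U := by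
    rw [Submodule.span_le]
    rintro _ ⟨j, rfl⟩
    exact hmem j
  have heq : Submodule.span F (Set.range u) = U :=
    Submodule.eq_of_le_of_finrank_eq hle (by rw [hfr, hdim])
  rw [← heq] at hv
  exact (Submodule.mem_span_range_iff_exists_fun F).1 hv

end Sums

section Classify

variable [Fintype F] {Q : (ι → F) → F} (hQ : IsQuad Q)

include hQ

/-- over the field with three elements, in a space of dimension at most three with an orthogonal
basis of constant norm `c`, the vectors of norm `c` are the basis vectors and their negatives -/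
lemma classify (hq3 : Fintype.card F = 3) {k : ℕ} (hk : k ≤ 3) (U : Submodule F (ι → F))
    (hdim : Module.finrank F U = k) (c : F) (hc : c ≠ 0) (u : Fin k → (ι → F))
    (hmem : ∀ j, u j ∈ U) (hnorm : ∀ j, Q (u j) = c)
    (horth : ∀ j j', j ≠ j' → pol Q (u j) (u j') = 0) :
    ∀ v ∈ U, Q v = c → ∃ j, v = u j ∨ v = - u j := by
  classical
  have h3 := three_eq_zero hq3
  have h2 := two_ne_zero_of_card_three hq3
  intro v hv hqv
  obtain ⟨x, rfl⟩ := exists_coeff_of_orth hQ h2 U hdim u hmem
    (fun j => by rw [hnorm]; exact hc) horth v hv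
  have hq : Q (∑ i, x i • u i) = ∑ i, x i ^ 2 * c := by
    rw [Q_sum_orth hQ]
    · exact Finset.sum_congr rfl (fun i _ => by rw [Q_smul hQ, hnorm])
    · intro i _ j _ hij
      rw [pol_smul_left hQ, pol_smul_right hQ, horth i j hij]; ring
  rw [hq, ← Finset.sum_mul] at hqv
  have hsum : ∑ i, x i ^ 2 = 1 := by
    have : (∑ i, x i ^ 2) * c = 1 * c := by rw [hqv, one_mul]
    exact mul_right_cancel₀ hc this
  have hsq : ∀ i, x i ^ 2 = if x i ≠ 0 then 1 else 0 := by
    intro i
    split_ifs with h
    · rw [pow_two]; exact sq_eq_one_of_card_le_three (by omega) _ h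
    · push Not at h
      rw [h]; ring
  have hcard : ((Finset.univ.filter (fun i => x i ≠ 0)).card : F) = 1 := by
    rw [← hsum, Finset.sum_congr rfl (fun i _ => hsq i), Finset.sum_ite, Finset.sum_const_zero,
      add_zero, Finset.sum_const, nsmul_eq_mul, mul_one]
  have hle : (Finset.univ.filter (fun i => x i ≠ 0)).card ≤ 3 := by
    refine (Finset.card_le_univ _).trans ?_
    rw [Fintype.card_fin]; exact hk
  have hm : (Finset.univ.filter (fun i => x i ≠ 0)).card = 1 := by
    generalize (Finset.univ.filter (fun i => x i ≠ 0)).card = m at hcard hle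
    interval_cases m
    · simp at hcard
    · rfl
    · exfalso
      have : (1 : F) = 0 := by
        have h : ((2 : ℕ) : F) = 2 := by norm_num
        rw [h] at hcard
        linear_combination hcard
      exact one_ne_zero this
    · exfalso
      have h : ((3 : ℕ) : F) = 3 := by norm_num
      rw [h, h3] at hcard
      exact zero_ne_one hcard
  obtain ⟨j, hj⟩ := Finset.card_eq_one.1 hm
  have hxj : x j ≠ 0 := by
    have : j ∈ Finset.univ.filter (fun i => x i ≠ 0) := by rw [hj]; exact Finset.mem_singleton_self j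
    exact (Finset.mem_filter.1 this).2
  have hxi : ∀ i, i ≠ j → x i = 0 := by
    intro i hij
    by_contra h
    have : i ∈ Finset.univ.filter (fun i => x i ≠ 0) := Finset.mem_filter.2 ⟨Finset.mem_univ i, h⟩
    rw [hj, Finset.mem_singleton] at this
    exact hij this
  have hv' : ∑ i, x i • u i = x j • u j := by
    rw [Finset.sum_eq_single j]
    · intro i _ hij
      rw [hxi i hij, zero_smul]
    · intro h; exact absurd (Finset.mem_univ j) h
  have hxj2 := sq_eq_one_of_card_le_three (F := F) (by omega) _ hxj
  have hpm : x j = 1 ∨ x j = -1 := by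
    have : (x j - 1) * (x j + 1) = 0 := by linear_combination hxj2
    rcases mul_eq_zero.1 this with h | h
    · left; linear_combination h
    · right; linear_combination h
  refine ⟨j, ?_⟩
  rw [hv']
  rcases hpm with h | h
  · left; rw [h, one_smul]
  · right; rw [h, neg_one_smul]

end Classify

section OrthBasis

variable {Q : (ι → F) → F} (hQ : IsQuad Q)

include hQ

/-- the polar form restricted to a subspace, as a bilinear form -/
def polB (U : Submodule F (ι → F)) : LinearMap.BilinForm F U :=
  LinearMap.mk₂ F (fun a b : U => pol Q (a : ι → F) (b : ι → F))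
    (fun _ _ _ => pol_add_left hQ _ _ _) (fun _ _ _ => pol_smul_left hQ _ _ _)
    (fun _ _ _ => pol_add_right hQ _ _ _) (fun _ _ _ => pol_smul_right hQ _ _ _)

lemma polB_apply (U : Submodule F (ι → F)) (a b : U) :
    polB hQ U a b = pol Q (a : ι → F) (b : ι → F) := rfl

/-- an orthogonal basis of non-singular vectors of a subspace on which the polar form is
non-degenerate (char ≠ 2) -/
lemma exists_orth_basis (h2 : (2 : F) ≠ 0) {k : ℕ} (U : Submodule F (ι → F))
    (hdim : Module.finrank F U = k)
    (hU : Cfsg.Geo.IsNondegenerateOn (QuadraticMap.polar Q) U) :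
    ∃ v : Fin k → (ι → F), (∀ j, v j ∈ U) ∧ (∀ j, Q (v j) ≠ 0) ∧
      (∀ j j', j ≠ j' → pol Q (v j) (v j') = 0) := by
  let _ : Invertible (2 : F) := invertibleOfNonzero h2
  have hsymm : LinearMap.IsSymm (polB hQ U) := ⟨fun a b => pol_comm _ _⟩
  obtain ⟨b, hb⟩ := LinearMap.BilinForm.exists_orthogonal_basis hsymm
  rw [LinearMap.isOrthoᵢ_def] at hb
  have hb' : ∀ i j, i ≠ j → pol Q (b i : ι → F) (b j : ι → F) = 0 := fun i j hij => hb i j hij
  refine ⟨fun j => (b (finCongr hdim.symm j) : ι → F), fun j => (b _).2, ?_, ?_⟩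
  · intro j hq0
    set i := finCongr hdim.symm j with hi
    have hne : (b i : ι → F) ≠ 0 := by
      intro h
      exact b.ne_zero i (Subtype.ext h)
    obtain ⟨⟨y, hyU, hy⟩, -⟩ := hU (b i : ι → F) (b i).2 hne
    apply hy
    have hyrep : (⟨y, hyU⟩ : U) = ∑ l, b.repr ⟨y, hyU⟩ l • b l := (b.sum_repr _).symm
    have hy' : y = ∑ l, b.repr ⟨y, hyU⟩ l • (b l : ι → F) := by
      have := congrArg (fun z : U => (z : ι → F)) hyrep
      simp only [Submodule.coe_sum, Submodule.coe_smul] at this
      exact this
    show pol Q y (b i : ι → F) = 0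
    rw [hy', pol_sum_left hQ]
    apply Finset.sum_eq_zero
    intro l _
    rw [pol_smul_left hQ]
    by_cases hli : l = i
    · rw [hli, pol_self hQ, hq0]; ring
    · rw [hb' l i hli, mul_zero]
  · intro j j' hjj'
    apply hb'
    intro h
    exact hjj' ((finCongr hdim.symm).injective h)

end OrthBasis

section Frames

variable [Fintype F] {Q : (ι → F) → F} (hQ : IsQuad Q)

include hQ

lemma eq_one_or_neg_one (hq3 : Fintype.card F = 3) (a : F) (ha : a ≠ 0) : a = 1 ∨ a = -1 := by
  have h := sq_eq_one_of_card_le_three (F := F) (by omega) a ha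
  have : (a - 1) * (a + 1) = 0 := by linear_combination h
  rcases mul_eq_zero.1 this with h | h
  · left; linear_combination h
  · right; linear_combination h

/-- from an orthogonal triple with norms `a, a, b` to a frame of constant norm -/
lemma norm_frame3 (hq3 : Fintype.card F = 3) (U : Submodule F (ι → F)) (p q r : ι → F)
    (hp : p ∈ U) (hq : q ∈ U) (hr : r ∈ U) (a : F) (ha : a ≠ 0) (hqp : Q p = a) (hqq : Q q = a)
    (hqr : Q r ≠ 0) (hpq : pol Q p q = 0) (hpr : pol Q p r = 0) (hqr' : pol Q q r = 0) :
    ∃ c : F, c ≠ 0 ∧ ∃ u : Fin 3 → (ι → F), (∀ j, u j ∈ U) ∧ (∀ j, Q (u j) = c) ∧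
      (∀ j j', j ≠ j' → pol Q (u j) (u j') = 0) := by
  have h3 := three_eq_zero hq3
  have hqp' : pol Q q p = 0 := by rw [pol_comm, hpq]
  have hrp : pol Q r p = 0 := by rw [pol_comm, hpr]
  have hrq : pol Q r q = 0 := by rw [pol_comm, hqr']
  rcases eq_one_or_neg_one hQ hq3 a ha with ha1 | ha1 <;>
  rcases eq_one_or_neg_one hQ hq3 (Q r) hqr with hb1 | hb1
  · -- a = 1, b = 1
    refine ⟨a, ha, ![p, q, r], ?_, ?_, ?_⟩
    · intro j; fin_cases j <;> simp [hp, hq, hr]
    · intro j; fin_cases j <;> simp [hqp, hqq, hb1, ha1]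
    · intro j j' hjj'
      fin_cases j <;> fin_cases j' <;> simp_all
  · -- a = 1, b = -1
    refine ⟨-a, neg_ne_zero.2 ha, ![p + q, p - q, r], ?_, ?_, ?_⟩
    · intro j; fin_cases j
      · exact U.add_mem hp hq
      · exact U.sub_mem hp hq
      · exact hr
    · intro j; fin_cases j
      · show Q (p + q) = -a
        rw [Q_add Q, hqp, hqq, hpq]; linear_combination a * h3
      · show Q (p - q) = -a
        rw [Q_sub hQ, hqp, hqq, hpq]; linear_combination a * h3
      · show Q r = -a
        rw [hb1, ha1]
    · intro j j' hjj'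
      fin_cases j <;> fin_cases j'
      · exact absurd rfl hjj'
      · show pol Q (p + q) (p - q) = 0
        simp only [pol_add_left hQ, pol_sub_right hQ, pol_self hQ, hqp, hqq, hpq, hqp']; ring
      · show pol Q (p + q) r = 0
        rw [pol_add_left hQ, hpr, hqr']; ring
      · show pol Q (p - q) (p + q) = 0
        simp only [pol_sub_left hQ, pol_add_right hQ, pol_self hQ, hqp, hqq, hpq, hqp']; ring
      · exact absurd rfl hjj'
      · show pol Q (p - q) r = 0
        rw [pol_sub_left hQ, hpr, hqr']; ring
      · show pol Q r (p + q) = 0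
        rw [pol_add_right hQ, hrp, hrq]; ring
      · show pol Q r (p - q) = 0
        rw [pol_sub_right hQ, hrp, hrq]; ring
      · exact absurd rfl hjj'
  · -- a = -1, b = 1
    refine ⟨-a, neg_ne_zero.2 ha, ![p + q, p - q, r], ?_, ?_, ?_⟩
    · intro j; fin_cases j
      · exact U.add_mem hp hq
      · exact U.sub_mem hp hq
      · exact hr
    · intro j; fin_cases j
      · show Q (p + q) = -a
        rw [Q_add Q, hqp, hqq, hpq]; linear_combination a * h3
      · show Q (p - q) = -a
        rw [Q_sub hQ, hqp, hqq, hpq]; linear_combination a * h3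
      · show Q r = -a
        rw [hb1, ha1]; ring
    · intro j j' hjj'
      fin_cases j <;> fin_cases j'
      · exact absurd rfl hjj'
      · show pol Q (p + q) (p - q) = 0
        simp only [pol_add_left hQ, pol_sub_right hQ, pol_self hQ, hqp, hqq, hpq, hqp']; ring
      · show pol Q (p + q) r = 0
        rw [pol_add_left hQ, hpr, hqr']; ring
      · show pol Q (p - q) (p + q) = 0
        simp only [pol_sub_left hQ, pol_add_right hQ, pol_self hQ, hqp, hqq, hpq, hqp']; ring
      · exact absurd rfl hjj'
      · show pol Q (p - q) r = 0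
        rw [pol_sub_left hQ, hpr, hqr']; ring
      · show pol Q r (p + q) = 0
        rw [pol_add_right hQ, hrp, hrq]; ring
      · show pol Q r (p - q) = 0
        rw [pol_sub_right hQ, hrp, hrq]; ring
      · exact absurd rfl hjj'
  · -- a = -1, b = -1
    refine ⟨a, ha, ![p, q, r], ?_, ?_, ?_⟩
    · intro j; fin_cases j <;> simp [hp, hq, hr]
    · intro j; fin_cases j <;> simp [hqp, hqq, hb1, ha1]
    · intro j j' hjj'
      fin_cases j <;> fin_cases j' <;> simp_all

end Frames

end Cfsg.Agent.Lib.Helper5.Orth
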