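import Mathlib
import Cfsg.Prelude.Def_GeometricClasses
import Cfsg.Agent.Lib.Helper5.Orth.QBasic
import Cfsg.Agent.Lib.Helper5.Orth.PlusPlane
import Cfsg.Agent.Lib.Helper5.Orth.FrameMain
import Cfsg.Agent.Lib.Helper5.Orth.Frame

set_option autoImplicit false
set_option linter.unusedSectionVars false
open Cfsg Matrix

/-!
Over the field with three elements, the stabiliser in `Ω` of an orthogonal decomposition into
isometric non-degenerate 3-spaces, or into isometric anisotropic planes, is not maximal.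
-/

namespace Cfsg.Agent.Lib.Helper5.Orth

variable {ι : Type} [Fintype ι] [DecidableEq ι] {F : Type*} [Field F]

section Frames

variable [Fintype F] {Q : (ι → F) → F} (hQ : IsQuad Q)

include hQ

/-- a non-degenerate 3-space over the field with three elements has a frame of constant norm -/
lemma exists_frame3 (hq3 : Fintype.card F = 3) (U : Submodule F (ι → F))
    (hdim : Module.finrank F U = 3)
    (hU : Cfsg.Geo.IsNondegenerateOn (QuadraticMap.polar Q) U) :
    ∃ c : F, c ≠ 0 ∧ ∃ u : Fin 3 → (ι → F), (∀ j, u j ∈ U) ∧ (∀ j, Q (u j) = c) ∧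
      (∀ j j', j ≠ j' → pol Q (u j) (u j') = 0) := by
  have h2 := two_ne_zero_of_card_three hq3
  obtain ⟨v, hvU, hvq, hvo⟩ := exists_orth_basis hQ h2 U hdim hU
  have h01 : pol Q (v 0) (v 1) = 0 := hvo 0 1 (by decide)
  have h02 : pol Q (v 0) (v 2) = 0 := hvo 0 2 (by decide)
  have h12 : pol Q (v 1) (v 2) = 0 := hvo 1 2 (by decide)
  have h10 : pol Q (v 1) (v 0) = 0 := hvo 1 0 (by decide)
  have h20 : pol Q (v 2) (v 0) = 0 := hvo 2 0 (by decide)
  have h21 : pol Q (v 2) (v 1) = 0 := hvo 2 1 (by decide)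
  have hcases : Q (v 0) = Q (v 1) ∨ Q (v 0) = Q (v 2) ∨ Q (v 1) = Q (v 2) := by
    rcases eq_one_or_neg_one hQ hq3 _ (hvq 0) with a0 | a0 <;>
    rcases eq_one_or_neg_one hQ hq3 _ (hvq 1) with a1 | a1 <;>
    rcases eq_one_or_neg_one hQ hq3 _ (hvq 2) with a2 | a2 <;>
    rw [a0, a1, a2] <;> simp
  rcases hcases with h | h | h
  · exact norm_frame3 hQ hq3 U (v 0) (v 1) (v 2) (hvU 0) (hvU 1) (hvU 2) (Q (v 0)) (hvq 0) rfl
      h.symm (hvq 2) h01 h02 h12
  · exact norm_frame3 hQ hq3 U (v 0) (v 2) (v 1) (hvU 0) (hvU 2) (hvU 1) (Q (v 0)) (hvq 0) rfl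
      h.symm (hvq 1) h02 h01 h21
  · exact norm_frame3 hQ hq3 U (v 1) (v 2) (v 0) (hvU 1) (hvU 2) (hvU 0) (Q (v 1)) (hvq 1) rfl
      h.symm (hvq 0) h12 h10 h20

/-- an anisotropic non-degenerate plane over the field with three elements has a frame of
constant norm -/
lemma exists_frame2 (hq3 : Fintype.card F = 3) (U : Submodule F (ι → F))
    (hdim : Module.finrank F U = 2)
    (hU : Cfsg.Geo.IsNondegenerateOn (QuadraticMap.polar Q) U)
    (haniso : ∀ v ∈ U, Q v = 0 → v = 0) :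
    ∃ c : F, c ≠ 0 ∧ ∃ u : Fin 2 → (ι → F), (∀ j, u j ∈ U) ∧ (∀ j, Q (u j) = c) ∧
      (∀ j j', j ≠ j' → pol Q (u j) (u j') = 0) := by
  have h2 := two_ne_zero_of_card_three hq3
  obtain ⟨v, hvU, hvq, hvo⟩ := exists_orth_basis hQ h2 U hdim hU
  have h01 : pol Q (v 0) (v 1) = 0 := hvo 0 1 (by decide)
  have heq : Q (v 1) = Q (v 0) := by
    rcases eq_one_or_neg_one hQ hq3 _ (hvq 0) with a0 | a0 <;>
    rcases eq_one_or_neg_one hQ hq3 _ (hvq 1) with a1 | a1
    · rw [a0, a1]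
    · exfalso
      have hs : Q (v 0 + v 1) = 0 := by rw [Q_add Q, a0, a1, h01]; ring
      have h0 := haniso _ (U.add_mem (hvU 0) (hvU 1)) hs
      have : pol Q (v 0 + v 1) (v 0) = 2 * Q (v 0) := by
        rw [pol_add_left hQ, pol_self hQ, pol_comm (v 1) (v 0), h01]; ring
      rw [h0, pol_zero_left hQ] at this
      exact mul_ne_zero h2 (hvq 0) this.symm
    · exfalso
      have hs : Q (v 0 + v 1) = 0 := by rw [Q_add Q, a0, a1, h01]; ring
      have h0 := haniso _ (U.add_mem (hvU 0) (hvU 1)) hs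
      have : pol Q (v 0 + v 1) (v 0) = 2 * Q (v 0) := by
        rw [pol_add_left hQ, pol_self hQ, pol_comm (v 1) (v 0), h01]; ring
      rw [h0, pol_zero_left hQ] at this
      exact mul_ne_zero h2 (hvq 0) this.symm
    · rw [a0, a1]
  refine ⟨Q (v 0), hvq 0, v, hvU, ?_, hvo⟩
  intro j
  fin_cases j
  · rfl
  · exact heq

end Frames

section Decomp

variable [Fintype F] {Q : (ι → F) → F} (hQ : IsQuad Q)

include hQ

/-- the decomposition stabiliser is not maximal once the first member has a frame -/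
theorem decomposition_not_maximal (hq3 : Fintype.card F = 3) {t k : ℕ}
    (D : Fin t → Submodule F (ι → F)) (hD : Cfsg.Geo.IsOrthogonalMDecomposition Q k D)
    (ht : 3 ≤ t) (hk2 : 2 ≤ k) (hk3 : k ≤ 3)
    (hframe : ∃ c : F, c ≠ 0 ∧ ∃ u : Fin k → (ι → F), (∀ j, u j ∈ D ⟨0, by omega⟩) ∧
      (∀ j, Q (u j) = c) ∧ (∀ j j', j ≠ j' → pol Q (u j) (u j') = 0)) :
    ∃ K : Subgroup (GL ι F), Cfsg.Geo.decompositionStabilizer D ⊓ Cfsg.Geo.omegaGL Q < K ∧
      K < Cfsg.Geo.omegaGL Q := by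
  classical
  obtain ⟨c, hc, u0, hu0mem, hu0norm, hu0orth⟩ := hframe
  set i0 : Fin t := ⟨0, by omega⟩ with hi0
  have hiso : ∀ i, ∃ e : D i0 ≃ₗ[F] D i, ∀ w : D i0, Q ((e w : D i) : ι → F) = Q (w : ι → F) :=
    fun i => hD.isometric i0 i
  choose e he using hiso
  have hepol : ∀ i (a b : D i0),
      pol Q ((e i a : D i) : ι → F) ((e i b : D i) : ι → F) = pol Q (a : ι → F) (b : ι → F) := by
    intro i a b
    have h1 : ((e i a : D i) : ι → F) + ((e i b : D i) : ι → F) = ((e i (a + b) : D i) : ι → F) := by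
      rw [map_add]; rfl
    rw [pol, QuadraticMap.polar, h1, he, he, he]
    rfl
  let u : Fin t → Fin k → (ι → F) := fun i j => ((e i ⟨u0 j, hu0mem j⟩ : D i) : ι → F)
  have hmem : ∀ i j, u i j ∈ D i := fun i j => (e i ⟨u0 j, hu0mem j⟩).2
  have hnorm : ∀ i j, Q (u i j) = c := fun i j => by
    show Q ((e i ⟨u0 j, hu0mem j⟩ : D i) : ι → F) = c
    rw [he]; exact hu0norm j
  have horth : ∀ i j j', j ≠ j' → pol Q (u i j) (u i j') = 0 := fun i j j' hjj' => by
    show pol Q ((e i ⟨u0 j, hu0mem j⟩ : D i) : ι → F) ((e i ⟨u0 j', hu0mem j'⟩ : D i) : ι → F) = 0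
    rw [hepol]; exact hu0orth j j' hjj'
  have horthD : ∀ i j, i ≠ j → ∀ a ∈ D i, ∀ b ∈ D j, pol Q a b = 0 :=
    fun i j hij a ha b hb => hD.decomp.orthogonal i j hij a ha b hb
  have hclass : ∀ i, ∀ v ∈ D i, Q v = c → ∃ j, v = u i j ∨ v = - u i j := fun i =>
    classify hQ hq3 hk3 (D i) (hD.decomp.decomp.finrank_eq i) c hc (u i) (hmem i) (hnorm i)
      (horth i)
  exact frame_not_maximal hq3 hQ D horthD ht hk2 c hc u hmem hnorm horth hclass

end Decomp

end Cfsg.Agent.Lib.Helper5.Orth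

namespace Cfsg.Agent.Lib.Helper5.Orth

variable {ι : Type} [Fintype ι] [DecidableEq ι] {F : Type*} [Field F]

/-- dimension count for a decomposition into `t` members of dimension `m` -/
lemma card_eq_of_decomp {t m : ℕ} (D : Fin t → Submodule F (ι → F))
    (hD : Cfsg.Geo.IsMDecomposition m D) : Fintype.card ι = t * m := by
  classical
  have hint := DirectSum.isInternal_submodule_of_iSupIndep_of_iSup_eq_top hD.indep hD.iSup_eq_top
  let v : ∀ i, Module.Basis (Fin m) F (D i) :=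
    fun i => Module.finBasisOfFinrankEq F (D i) (hD.finrank_eq i)
  have := Module.finrank_eq_card_basis (hint.collectedBasis v)
  rw [Module.finrank_fintype_fun_eq_card] at this
  rw [this]
  simp

/-- a plane which is not of plus type is anisotropic -/
lemma aniso_of_not_plus {Q : (ι → F) → F} (hQ : IsQuad Q) (U : Submodule F (ι → F))
    (hdim : Module.finrank F U = 2) (h : ¬ Cfsg.Geo.IsPlusTypeOn Q U) :
    ∀ v ∈ U, Q v = 0 → v = 0 := by
  intro v hv hqv
  by_contra hv0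
  apply h
  refine ⟨Submodule.span F {v}, ?_, ?_, ?_⟩
  · rw [Submodule.span_le]
    rintro _ rfl
    exact hv
  · intro w hw
    obtain ⟨a, rfl⟩ := Submodule.mem_span_singleton.1 hw
    rw [Q_smul hQ, hqv, mul_zero]
  · rw [finrank_span_singleton hv0, hdim]

end Cfsg.Agent.Lib.Helper5.Orth
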