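import Mathlib
import Cfsg.Agent.Lib.Helper5.Orth.HypRot
import Cfsg.Agent.Lib.Helper5.Orth.PlusMinusForm

set_option autoImplicit false
set_option linter.unusedSectionVars false
open Cfsg

/-!
The embedding `A ↦ diag(A, A⁻ᵀ)` of `GL_m` in the isometry group of the hyperbolic form.
-/

namespace Cfsg.Agent.Lib.Helper5.OrthSN

open Matrix Cfsg.Agent.H9.Orth Cfsg.Agent.Lib.Helper5.OrthTv Cfsg.Agent.Lib.Helper5.OrthPar
open Cfsg.Agent.Lib.Helper5.OrthPM
open scoped commutatorElement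

section PlusGL

variable {F : Type*} [Field F] {m : ℕ}

/-- the inverse transpose -/
def tinv (A : GL (Fin m) F) : GL (Fin m) F :=
  ⟨((A⁻¹ : GL (Fin m) F) : Matrix (Fin m) (Fin m) F)ᵀ, (A : Matrix (Fin m) (Fin m) F)ᵀ, by
    rw [← Matrix.transpose_mul, ← Units.val_mul, mul_inv_cancel, Units.val_one,
      Matrix.transpose_one], by
    rw [← Matrix.transpose_mul, ← Units.val_mul, inv_mul_cancel, Units.val_one,
      Matrix.transpose_one]⟩

lemma tinv_val (A : GL (Fin m) F) :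
    ((tinv A : GL (Fin m) F) : Matrix (Fin m) (Fin m) F) =
      ((A⁻¹ : GL (Fin m) F) : Matrix (Fin m) (Fin m) F)ᵀ := rfl

lemma tinv_mul (A B : GL (Fin m) F) : tinv (A * B) = tinv A * tinv B := by
  apply Units.ext
  rw [Units.val_mul, tinv_val, tinv_val, tinv_val, _root_.mul_inv_rev, Units.val_mul,
    Matrix.transpose_mul]

lemma tinv_one : tinv (1 : GL (Fin m) F) = 1 := by
  apply Units.ext
  rw [tinv_val]
  simp

lemma plus_blockGL_mem (A : GL (Fin m) F) :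
    blockGL A (tinv A) ∈ Cfsg.isometryGroup F (Cfsg.quadFormPlus m F) := by
  rw [mem_isometryGroup_iff]
  intro v
  rw [act_blockGL]
  unfold Cfsg.quadFormPlus
  simp only [Sum.elim_inl, Sum.elim_inr]
  show (act A (v ∘ Sum.inl)) ⬝ᵥ (act (tinv A) (v ∘ Sum.inr)) = (v ∘ Sum.inl) ⬝ᵥ (v ∘ Sum.inr)
  show ((A : Matrix (Fin m) (Fin m) F) *ᵥ (v ∘ Sum.inl)) ⬝ᵥ
    (((A⁻¹ : GL (Fin m) F) : Matrix (Fin m) (Fin m) F)ᵀ *ᵥ (v ∘ Sum.inr)) = _
  rw [Matrix.dotProduct_mulVec, Matrix.vecMul_transpose, Matrix.mulVec_mulVec, ← Units.val_mul,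
    inv_mul_cancel, Units.val_one, Matrix.one_mulVec]

/-- the embedding of `GL_m` in the isometry group of the hyperbolic form -/
def plusHom (F : Type*) [Field F] (m : ℕ) :
    GL (Fin m) F →* ↥(Cfsg.isometryGroup F (Cfsg.quadFormPlus m F)) where
  toFun A := ⟨blockGL A (tinv A), plus_blockGL_mem A⟩
  map_one' := by
    apply Subtype.ext
    apply Units.ext
    show ((blockGL (1 : GL (Fin m) F) (tinv 1) : GL (Fin m ⊕ Fin m) F) :
      Matrix (Fin m ⊕ Fin m) (Fin m ⊕ Fin m) F) = 1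
    rw [blockGL_val, tinv_one]
    simp
  map_mul' A B := by
    apply Subtype.ext
    apply Units.ext
    show ((blockGL (A * B) (tinv (A * B)) : GL (Fin m ⊕ Fin m) F) :
      Matrix (Fin m ⊕ Fin m) (Fin m ⊕ Fin m) F) =
        ((blockGL A (tinv A) : GL (Fin m ⊕ Fin m) F) : Matrix (Fin m ⊕ Fin m) (Fin m ⊕ Fin m) F) *
        ((blockGL B (tinv B) : GL (Fin m ⊕ Fin m) F) : Matrix (Fin m ⊕ Fin m) (Fin m ⊕ Fin m) F)
    rw [blockGL_val, blockGL_val, blockGL_val, Matrix.fromBlocks_multiply, tinv_mul]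
    simp

lemma plusHom_val (A : GL (Fin m) F) :
    (((plusHom F m A : ↥(Cfsg.isometryGroup F (Cfsg.quadFormPlus m F))) : GL (Fin m ⊕ Fin m) F) :
      Matrix (Fin m ⊕ Fin m) (Fin m ⊕ Fin m) F) =
      Matrix.fromBlocks (A : Matrix (Fin m) (Fin m) F) 0 0
        ((A : Matrix (Fin m) (Fin m) F)⁻¹)ᵀ := by
  show ((blockGL A (tinv A) : GL (Fin m ⊕ Fin m) F) :
      Matrix (Fin m ⊕ Fin m) (Fin m ⊕ Fin m) F) = _
  rw [blockGL_val, tinv_val, Matrix.coe_units_inv]

/-- the image of a commutator lies in `Ω` -/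
lemma plusHom_comm_mem (A B : GL (Fin m) F) :
    plusHom F m ⁅A, B⁆ ∈ Cfsg.Omega F (Cfsg.quadFormPlus m F) := by
  rw [map_commutatorElement]
  unfold Cfsg.Omega
  rw [commutator_def]
  exact Subgroup.commutator_mem_commutator (Subgroup.mem_top _) (Subgroup.mem_top _)

end PlusGL

end Cfsg.Agent.Lib.Helper5.OrthSN
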