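import Mathlib

set_option autoImplicit false
set_option linter.unusedSectionVars false

/-!
Transvections are commutators in `GL_n(F)`, except in `GL_2(2)`.
-/

namespace Cfsg.Agent.Lib.Helper5.TvComm

open Matrix
open scoped commutatorElement

section TvComm

variable {n : Type} [Fintype n] [DecidableEq n] {F : Type*} [Field F]

/-- a transvection as an element of `GL` -/
def tvGL (i j : n) (hij : i ≠ j) (c : F) : GL n F :=
  ⟨transvection i j c, transvection i j (-c), by
    rw [transvection_mul_transvection_same i j hij]; simp, by
    rw [transvection_mul_transvection_same i j hij]; simp⟩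

lemma tvGL_val (i j : n) (hij : i ≠ j) (c : F) :
    ((tvGL i j hij c : GL n F) : Matrix n n F) = transvection i j c := rfl

lemma tvGL_inv (i j : n) (hij : i ≠ j) (c : F) : (tvGL i j hij c)⁻¹ = tvGL i j hij (-c) := by
  apply Units.ext
  show transvection i j (-c) = transvection i j (-c)
  rfl

lemma tvGL_mul (i j : n) (hij : i ≠ j) (c d : F) :
    tvGL i j hij c * tvGL i j hij d = tvGL i j hij (c + d) := by
  apply Units.ext
  rw [Units.val_mul, tvGL_val, tvGL_val, tvGL_val, transvection_mul_transvection_same i j hij]

/-- the diagonal matrix with one entry `a` and all others `1`, in `GL` -/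
def dgGL (i : n) (a : F) (ha : a ≠ 0) : GL n F :=
  ⟨diagonal (Function.update (fun _ => (1 : F)) i a),
    diagonal (Function.update (fun _ => (1 : F)) i a⁻¹), by
    rw [diagonal_mul_diagonal, ← diagonal_one]
    congr 1
    funext k
    by_cases h : k = i
    · subst h; simp [ha]
    · simp [h], by
    rw [diagonal_mul_diagonal, ← diagonal_one]
    congr 1
    funext k
    by_cases h : k = i
    · subst h; simp [ha]
    · simp [h]⟩

lemma dgGL_mul_tvGL (i j : n) (hij : i ≠ j) (a : F) (ha : a ≠ 0) (c : F) :
    dgGL i a ha * tvGL i j hij c = tvGL i j hij (a * c) * dgGL i a ha := by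
  apply Units.ext
  show diagonal (Function.update (fun _ => (1 : F)) i a) * transvection i j c =
    transvection i j (a * c) * diagonal (Function.update (fun _ => (1 : F)) i a)
  ext p q
  rw [diagonal_mul, mul_diagonal]
  unfold transvection
  simp only [Matrix.add_apply, Matrix.one_apply, Matrix.single_apply]
  by_cases hp : p = i
  · subst hp
    by_cases hq : q = j
    · subst hq
      simp [hij, Function.update_of_ne (Ne.symm hij)]
    · by_cases hpq : p = q
      · subst hpq; simp [hq, Ne.symm hq]
      · simp [hpq, hq, Ne.symm hq, Ne.symm hpq]
  · by_cases hpq : p = q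
    · subst hpq; simp [hp, Ne.symm hp]
    · simp [hp, Ne.symm hp, hpq]

/-- a transvection is a commutator when the field has more than two elements -/
lemma tvGL_eq_comm_of_ne (i j : n) (hij : i ≠ j) (a : F) (ha0 : a ≠ 0) (ha1 : a ≠ 1) (c : F) :
    tvGL i j hij c = ⁅dgGL i a ha0, tvGL i j hij (c / (a - 1))⁆ := by
  have h1 : a - 1 ≠ 0 := sub_ne_zero.2 ha1
  rw [commutatorElement_def, dgGL_mul_tvGL, mul_assoc (tvGL i j hij _), mul_inv_cancel, mul_one,
    tvGL_inv, tvGL_mul]
  congr 1
  field_simp
  ring

/-- a commutator of transvections -/
lemma tvGL_comm (i j k : n) (hij : i ≠ j) (hik : i ≠ k) (hkj : k ≠ j) (a b : F) :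
    ⁅tvGL i k hik a, tvGL k j hkj b⁆ = tvGL i j hij (a * b) := by
  have key : tvGL i k hik a * tvGL k j hkj b =
      tvGL i j hij (a * b) * tvGL k j hkj b * tvGL i k hik a := by
    apply Units.ext
    rw [Units.val_mul, Units.val_mul, Units.val_mul, tvGL_val, tvGL_val, tvGL_val]
    unfold transvection
    have h1 : single i k a * single k j b = single i j (a * b) :=
      single_mul_single_same (c := a) i k j b
    have h2 : single i j (a * b) * single k j b = 0 :=
      single_mul_single_of_ne (c := a * b) i j k hkj.symm b
    have h3 : single i j (a * b) * single i k a = 0 :=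
      single_mul_single_of_ne (c := a * b) i j i hij.symm a
    have h4 : single k j b * single i k a = 0 :=
      single_mul_single_of_ne (c := b) k j i hij.symm a
    have e1 : (1 + single i k a) * (1 + single k j b) =
        1 + single i k a + single k j b + single i j (a * b) := by
      rw [mul_add, add_mul, add_mul, one_mul, mul_one, one_mul, h1]
      abel
    have e2 : (1 + single i j (a * b)) * (1 + single k j b) =
        1 + single i j (a * b) + single k j b := by
      rw [mul_add, add_mul, add_mul, one_mul, mul_one, one_mul, h2]
      abel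
    have e3 : (1 + single i j (a * b) + single k j b) * (1 + single i k a) =
        1 + single i k a + single k j b + single i j (a * b) := by
      rw [mul_add, add_mul, add_mul, add_mul, add_mul, one_mul, mul_one, one_mul, h3, h4]
      simp only [mul_one, add_zero]
      abel
    rw [e1, e2, e3]
  rw [commutatorElement_def, key]
  group

end TvComm

end Cfsg.Agent.Lib.Helper5.TvComm
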