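import Mathlib
import Cfsg.Agent.Lib.Helper5.Orth.PlusGL
import Cfsg.Agent.Lib.Helper5.Orth.TransvComm

set_option autoImplicit false
set_option linter.unusedSectionVars false
open Cfsg

/-!
`diag(A, A⁻ᵀ)` lies in `Ω⁺` iff `det A` is a square.
-/

namespace Cfsg.Agent.Lib.Helper5.OrthSN

open Matrix Cfsg.Agent.H9.Orth Cfsg.Agent.Lib.Helper5.OrthTv Cfsg.Agent.Lib.Helper5.OrthPar
open Cfsg.Agent.Lib.Helper5.OrthPM Cfsg.Agent.Lib.Helper5.TvComm
open scoped commutatorElement

section PlusGLSpin

variable {F : Type*} [Field F] {m : ℕ}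

/-- the image of `A` has even residual rank, and trivial spinor norm iff `det A` is a square -/
def plusGood (A : GL (Fin m) F) : Prop :=
  par ((plusHom F m A : ↥(Cfsg.isometryGroup F (Cfsg.quadFormPlus m F))) :
      GL (Fin m ⊕ Fin m) F) ∧
  (spin (Cfsg.quadFormPlus m F)
      ((plusHom F m A : ↥(Cfsg.isometryGroup F (Cfsg.quadFormPlus m F))) :
        GL (Fin m ⊕ Fin m) F) ↔ IsSquare (A : Matrix (Fin m) (Fin m) F).det)

lemma plusGood_one : plusGood (1 : GL (Fin m) F) := by
  unfold plusGood
  rw [map_one]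
  refine ⟨par_one, ?_⟩
  have h1 : spin (Cfsg.quadFormPlus m F)
      (((1 : ↥(Cfsg.isometryGroup F (Cfsg.quadFormPlus m F))) : GL (Fin m ⊕ Fin m) F)) :=
    spin_one
  have h2 : IsSquare ((1 : GL (Fin m) F) : Matrix (Fin m) (Fin m) F).det := by
    rw [Units.val_one, Matrix.det_one]
    exact ⟨1, (one_mul 1).symm⟩
  tauto

lemma card_sum_fin_ne [Fintype F] (h : Fintype.card F ≠ 2 ∨ m ≠ 2) :
    Fintype.card F ≠ 2 ∨ Fintype.card (Fin m ⊕ Fin m) ≠ 4 := by
  rcases h with h | h
  · exact Or.inl h
  · right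
    rw [Fintype.card_sum, Fintype.card_fin]
    omega

lemma plusGood_mul [Fintype F] (h : Fintype.card F ≠ 2 ∨ m ≠ 2) (A B : GL (Fin m) F)
    (hA : plusGood A) (hB : plusGood B) : plusGood (A * B) := by
  have hQ := quadFormPlus_nondeg (F := F) m
  have hgen : Cfsg.isometryGroup F (Cfsg.quadFormPlus m F) ≤ RR hQ :=
    Cfsg.Agent.H9.Orth.iso_le_RR hQ (card_sum_fin_ne h)
  unfold plusGood at *
  rw [map_mul, Subgroup.coe_mul, par_mul_gen hQ hgen _ _ (plusHom F m A).2 (plusHom F m B).2,
    spin_mul_iff hQ hgen _ _ (plusHom F m A).2 (plusHom F m B).2, Units.val_mul, Matrix.det_mul]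
  have hdA : (A : Matrix (Fin m) (Fin m) F).det ≠ 0 := by
    have := (Matrix.isUnit_iff_isUnit_det _).1 A.isUnit
    exact this.ne_zero
  have hdB : (B : Matrix (Fin m) (Fin m) F).det ≠ 0 := by
    have := (Matrix.isUnit_iff_isUnit_det _).1 B.isUnit
    exact this.ne_zero
  rw [isSquare_mul_iff hdA hdB]
  tauto

lemma plusGood_of_mem [Fintype F] (h : Fintype.card F ≠ 2 ∨ m ≠ 2) (A : GL (Fin m) F)
    (hA : plusHom F m A ∈ Cfsg.Omega F (Cfsg.quadFormPlus m F))
    (hd : (A : Matrix (Fin m) (Fin m) F).det = 1) : plusGood A := by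
  have hQ := quadFormPlus_nondeg (F := F) m
  have := (mem_omega_iff_fin hQ (card_sum_fin_ne h) (plusHom F m A)).1 hA
  unfold plusGood
  rw [hd]
  have h1 : IsSquare (1 : F) := ⟨1, (one_mul 1).symm⟩
  tauto

lemma plusGood_tv [Fintype F] (h : Fintype.card F ≠ 2 ∨ m ≠ 2) (i j : Fin m) (hij : i ≠ j)
    (c : F) : plusGood (tvGL i j hij c) := by
  have hd : ((tvGL i j hij c : GL (Fin m) F) : Matrix (Fin m) (Fin m) F).det = 1 := by
    rw [tvGL_val, Matrix.det_transvection_of_ne i j hij]
  apply plusGood_of_mem h _ _ hd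
  by_cases hF : Fintype.card F = 2
  · -- then `m ≥ 3`
    have hm : m ≠ 2 := by
      rcases h with h | h
      · exact absurd hF h
      · exact h
    have hk : ∃ k : Fin m, k ≠ i ∧ k ≠ j := by
      by_contra hcon
      push Not at hcon
      have hsub : (Finset.univ : Finset (Fin m)) ⊆ {i, j} := by
        intro k _
        by_cases hki : k = i
        · subst hki; simp
        · have := hcon k hki
          subst this; simp
      have hc := Finset.card_le_card hsub
      rw [Finset.card_univ, Fintype.card_fin, Finset.card_pair hij] at hc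
      have h2 : 2 ≤ m := by
        have hsub2 : ({i, j} : Finset (Fin m)) ⊆ Finset.univ := Finset.subset_univ _
        have := Finset.card_le_card hsub2
        rwa [Finset.card_univ, Fintype.card_fin, Finset.card_pair hij] at this
      omega
    obtain ⟨k, hki, hkj⟩ := hk
    have := tvGL_comm i j k hij (Ne.symm hki) hkj (1 : F) c
    rw [one_mul] at this
    rw [← this]
    exact plusHom_comm_mem _ _
  · -- there is `a ≠ 0, 1`
    have hex : ∃ a : F, a ≠ 0 ∧ a ≠ 1 := by
      classical
      by_contra hcon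
      push Not at hcon
      have hsub : (Finset.univ : Finset F) ⊆ {0, 1} := by
        intro a _
        by_cases ha : a = 0
        · subst ha; simp
        · have := hcon a ha
          subst this; simp
      have hc := Finset.card_le_card hsub
      rw [Finset.card_univ, Finset.card_pair zero_ne_one] at hc
      have : 2 ≤ Fintype.card F := by
        have hsub2 : ({0, 1} : Finset F) ⊆ Finset.univ := Finset.subset_univ _
        have := Finset.card_le_card hsub2
        rwa [Finset.card_univ, Finset.card_pair zero_ne_one] at this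
      omega
    obtain ⟨a, ha0, ha1⟩ := hex
    rw [tvGL_eq_comm_of_ne i j hij a ha0 ha1 c]
    exact plusHom_comm_mem _ _


lemma act_dgGL (i : Fin m) (a : F) (ha : a ≠ 0) (y : Fin m → F) :
    act (dgGL i a ha) y = fun k => Function.update (fun _ => (1 : F)) i a k * y k := by
  funext k
  show (diagonal (Function.update (fun _ => (1 : F)) i a) *ᵥ y) k = _
  rw [Matrix.mulVec_diagonal]

lemma act_tinv_dgGL (i : Fin m) (a : F) (ha : a ≠ 0) (y : Fin m → F) :
    act (tinv (dgGL i a ha)) y = fun k => Function.update (fun _ => (1 : F)) i a⁻¹ k * y k := by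
  funext k
  show ((diagonal (Function.update (fun _ => (1 : F)) i a⁻¹))ᵀ *ᵥ y) k = _
  rw [Matrix.diagonal_transpose, Matrix.mulVec_diagonal]

lemma plusQ_single_inl (i : Fin m) :
    Cfsg.quadFormPlus m F (Pi.single (Sum.inl i) 1) = 0 := by
  unfold Cfsg.quadFormPlus
  simp

lemma plusQ_single_inr (i : Fin m) :
    Cfsg.quadFormPlus m F (Pi.single (Sum.inr i) 1) = 0 := by
  unfold Cfsg.quadFormPlus
  simp

lemma plus_pol_single_inl (i : Fin m) (w : Fin m ⊕ Fin m → F) :
    pol (Cfsg.quadFormPlus m F) w (Pi.single (Sum.inl i) 1) = w (Sum.inr i) := by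
  show QuadraticMap.polar (Cfsg.quadFormPlus m F) w (Pi.single (Sum.inl i) 1) = _
  rw [polar_quadFormPlus]
  simp [Pi.single_apply, Finset.sum_ite_eq']

lemma plus_pol_single_inr (i : Fin m) (w : Fin m ⊕ Fin m → F) :
    pol (Cfsg.quadFormPlus m F) w (Pi.single (Sum.inr i) 1) = w (Sum.inl i) := by
  show QuadraticMap.polar (Cfsg.quadFormPlus m F) w (Pi.single (Sum.inr i) 1) = _
  rw [polar_quadFormPlus]
  simp [Pi.single_apply, Finset.sum_ite_eq']

lemma plusHom_dg (i : Fin m) (a : F) (ha : a ≠ 0) :
    ((plusHom F m (dgGL i a ha) : ↥(Cfsg.isometryGroup F (Cfsg.quadFormPlus m F))) :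
      GL (Fin m ⊕ Fin m) F) =
      hypE (quadFormPlus_nondeg (F := F) m) (Pi.single (Sum.inl i) 1) (Pi.single (Sum.inr i) 1)
        a := by
  have hQ := quadFormPlus_nondeg (F := F) m
  have hu := plusQ_single_inl (F := F) i
  have hf := plusQ_single_inr (F := F) i
  have huf : pol (Cfsg.quadFormPlus m F) (Pi.single (Sum.inl i) 1) (Pi.single (Sum.inr i) 1) = 1 := by
    rw [plus_pol_single_inr]; simp
  apply gl_ext
  intro x
  have hx : x = x (Sum.inl i) • Pi.single (Sum.inl i) (1 : F) +
      x (Sum.inr i) • Pi.single (Sum.inr i) (1 : F) +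
      (x - x (Sum.inl i) • Pi.single (Sum.inl i) (1 : F) -
        x (Sum.inr i) • Pi.single (Sum.inr i) (1 : F)) := by abel
  have hwu : pol (Cfsg.quadFormPlus m F) (x - x (Sum.inl i) • Pi.single (Sum.inl i) (1 : F) -
        x (Sum.inr i) • Pi.single (Sum.inr i) (1 : F)) (Pi.single (Sum.inl i) 1) = 0 := by
    rw [plus_pol_single_inl]; simp
  have hwf : pol (Cfsg.quadFormPlus m F) (x - x (Sum.inl i) • Pi.single (Sum.inl i) (1 : F) -
        x (Sum.inr i) • Pi.single (Sum.inr i) (1 : F)) (Pi.single (Sum.inr i) 1) = 0 := by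
    rw [plus_pol_single_inr]; simp
  have hR : act (hypE hQ (Pi.single (Sum.inl i) 1) (Pi.single (Sum.inr i) 1) a) x =
      x (Sum.inl i) • a • Pi.single (Sum.inl i) (1 : F) +
      x (Sum.inr i) • a⁻¹ • Pi.single (Sum.inr i) (1 : F) +
      (x - x (Sum.inl i) • Pi.single (Sum.inl i) (1 : F) -
        x (Sum.inr i) • Pi.single (Sum.inr i) (1 : F)) := by
    conv_lhs => rw [hx]
    rw [act_add, act_add, act_smul, act_smul, act_hypE_u hQ _ _ hu hf huf a ha,
      act_hypE_f hQ _ _ hu hf huf a ha, act_hypE_perp hQ _ _ a _ hwu hwf]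
  rw [hR]
  show act (blockGL (dgGL i a ha) (tinv (dgGL i a ha))) x = _
  rw [act_blockGL, act_dgGL, act_tinv_dgGL]
  funext k
  rcases k with k | k
  · by_cases hk : k = i
    · subst hk; simp [mul_comm]
    · simp [hk]
  · by_cases hk : k = i
    · subst hk; simp [mul_comm]
    · simp [hk]

lemma plusGood_dg [Fintype F] (i : Fin m) (a : F) (ha : a ≠ 0) : plusGood (dgGL i a ha) := by
  have hQ := quadFormPlus_nondeg (F := F) m
  have hu := plusQ_single_inl (F := F) i
  have hf := plusQ_single_inr (F := F) i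
  have huf : pol (Cfsg.quadFormPlus m F) (Pi.single (Sum.inl i) 1) (Pi.single (Sum.inr i) 1) = 1 := by
    rw [plus_pol_single_inr]; simp
  unfold plusGood
  rw [plusHom_dg]
  refine ⟨par_hypE hQ _ _ hu hf huf a ha, ?_⟩
  rw [spin_hypE hQ _ _ hu hf huf a ha]
  have hd : ((dgGL i a ha : GL (Fin m) F) : Matrix (Fin m) (Fin m) F).det = a := by
    show (diagonal (Function.update (fun _ => (1 : F)) i a)).det = a
    rw [Matrix.det_diagonal, Finset.prod_update_of_mem (Finset.mem_univ i)]
    simp
  rw [hd]


/-- a diagonal matrix restricted to a finite set of indices -/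
lemma plusGood_diag_finset [Fintype F] (h : Fintype.card F ≠ 2 ∨ m ≠ 2) (D : Fin m → F)
    (hD : ∀ i, D i ≠ 0) (s : Finset (Fin m)) :
    ∀ A : GL (Fin m) F, (A : Matrix (Fin m) (Fin m) F) =
      diagonal (fun i => if i ∈ s then D i else 1) → plusGood A := by
  induction s using Finset.induction_on with
  | empty =>
    intro A hA
    have : A = 1 := by
      apply Units.ext
      rw [hA, Units.val_one, ← diagonal_one]
      congr 1
    rw [this]
    exact plusGood_one
  | insert a s has ih =>
    intro A hA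
    have hB : (diagonal (fun i => if i ∈ s then D i else 1)).det ≠ 0 := by
      rw [Matrix.det_diagonal]
      apply Finset.prod_ne_zero_iff.2
      intro i _
      split_ifs
      · exact hD i
      · exact one_ne_zero
    have hA' : A = dgGL a (D a) (hD a) * Matrix.GeneralLinearGroup.mkOfDetNeZero _ hB := by
      apply Units.ext
      rw [hA, Units.val_mul]
      show _ = diagonal (Function.update (fun _ => (1 : F)) a (D a)) *
        diagonal (fun i => if i ∈ s then D i else 1)
      rw [diagonal_mul_diagonal]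
      congr 1
      funext k
      by_cases hk : k = a
      · subst hk
        simp [has]
      · simp [hk]
    rw [hA']
    exact plusGood_mul h _ _ (plusGood_dg a (D a) (hD a)) (ih _ rfl)

theorem plusGood_all [Fintype F] (h : Fintype.card F ≠ 2 ∨ m ≠ 2) (A : GL (Fin m) F) :
    plusGood A := by
  have hdA : (A : Matrix (Fin m) (Fin m) F).det ≠ 0 :=
    ((Matrix.isUnit_iff_isUnit_det _).1 A.isUnit).ne_zero
  have key := Matrix.diagonal_transvection_induction_of_det_ne_zero
    (fun M : Matrix (Fin m) (Fin m) F => ∀ B : GL (Fin m) F,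
      (B : Matrix (Fin m) (Fin m) F) = M → plusGood B) (A : Matrix (Fin m) (Fin m) F) hdA
    (by
      intro D hD B hB
      have hD' : ∀ i, D i ≠ 0 := by
        rw [Matrix.det_diagonal] at hD
        intro i
        exact Finset.prod_ne_zero_iff.1 hD i (Finset.mem_univ i)
      apply plusGood_diag_finset h D hD' Finset.univ B
      rw [hB]
      congr 1
      funext i
      simp)
    (by
      intro t B hB
      have : B = tvGL t.i t.j t.hij t.c := by
        apply Units.ext
        rw [hB, tvGL_val]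
        rfl
      rw [this]
      exact plusGood_tv h _ _ _ _)
    (by
      intro M N hM hN ihM ihN B hB
      have : B = Matrix.GeneralLinearGroup.mkOfDetNeZero M hM *
          Matrix.GeneralLinearGroup.mkOfDetNeZero N hN := by
        apply Units.ext
        rw [hB, Units.val_mul]
        rfl
      rw [this]
      exact plusGood_mul h _ _ (ihM _ rfl) (ihN _ rfl))
  exact key A rfl

/-- `diag(A, A⁻ᵀ) ∈ Ω⁺` iff `det A` is a square -/
theorem plusHom_mem_omega_iff [Fintype F] (h : Fintype.card F ≠ 2 ∨ m ≠ 2) (A : GL (Fin m) F) :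
    plusHom F m A ∈ Cfsg.Omega F (Cfsg.quadFormPlus m F) ↔
      IsSquare (A : Matrix (Fin m) (Fin m) F).det := by
  have hQ := quadFormPlus_nondeg (F := F) m
  rw [mem_omega_iff_fin hQ (card_sum_fin_ne h) (plusHom F m A)]
  have := plusGood_all h A
  unfold plusGood at this
  tauto

end PlusGLSpin

end Cfsg.Agent.Lib.Helper5.OrthSN
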