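import Mathlib
import Cfsg.Agent.Lib.Helper5.Orth.SpinorPlus
import Cfsg.Agent.Lib.Helper5.Orth.OddForm

set_option autoImplicit false
set_option linter.unusedSectionVars false
open Cfsg

/-!
The odd-dimensional form: involutions negating `i` hyperbolic pairs.
-/

namespace Cfsg.Agent.Lib.Helper5.OrthSN

open Matrix Cfsg.Agent.H9.Orth Cfsg.Agent.Lib.Helper5.OrthTv Cfsg.Agent.Lib.Helper5.OrthPar

section OddF

variable {F : Type*} [Field F] (m : ℕ)

/-- the diagonal of the involution negating the first `i` hyperbolic pairs -/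
def dO (F : Type*) [Field F] (m i : ℕ) : Unit ⊕ (Fin m ⊕ Fin m) → F :=
  fun k : Unit ⊕ (Fin m ⊕ Fin m) => if (Sum.elim (fun _ : Unit => i)
    (Sum.elim (fun j : Fin m => (j : ℕ)) (fun j : Fin m => (j : ℕ))) k) < i then (-1 : F) else 1

lemma dO_inl (i : ℕ) : dO F m i (Sum.inl ()) = 1 := by
  unfold dO
  simp

lemma dO_inrl (i : ℕ) (j : Fin m) :
    dO F m i (Sum.inr (Sum.inl j)) = if (j : ℕ) < i then -1 else 1 := rfl

lemma dO_inrr (i : ℕ) (j : Fin m) :
    dO F m i (Sum.inr (Sum.inr j)) = if (j : ℕ) < i then -1 else 1 := rfl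

lemma dO_mul_self (i : ℕ) (k : Unit ⊕ (Fin m ⊕ Fin m)) : dO F m i k * dO F m i k = 1 := by
  unfold dO
  split_ifs <;> ring

lemma pol_odd_ll (x y : Fin m) :
    pol (Cfsg.quadFormOdd m F) (Pi.single (Sum.inr (Sum.inl x)) 1)
      (Pi.single (Sum.inr (Sum.inl y)) 1) = 0 := by
  rw [pol, Cfsg.Agent.Lib.Helper5.Orth.polar_quadFormOdd]
  simp

lemma pol_odd_rr (x y : Fin m) :
    pol (Cfsg.quadFormOdd m F) (Pi.single (Sum.inr (Sum.inr x)) 1)
      (Pi.single (Sum.inr (Sum.inr y)) 1) = 0 := by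
  rw [pol, Cfsg.Agent.Lib.Helper5.Orth.polar_quadFormOdd]
  simp

lemma pol_odd_lr (x y : Fin m) :
    pol (Cfsg.quadFormOdd m F) (Pi.single (Sum.inr (Sum.inl x)) 1)
      (Pi.single (Sum.inr (Sum.inr y)) 1) = if x = y then 1 else 0 := by
  rw [pol, Cfsg.Agent.Lib.Helper5.Orth.polar_quadFormOdd]
  simp [Pi.single_apply]
  by_cases h : x = y
  · rw [if_pos h, if_pos h.symm]
  · rw [if_neg h, if_neg (Ne.symm h)]

lemma natCard_dO (h2 : (2 : F) ≠ 0) (i : ℕ) (him : i ≤ m) :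
    Nat.card {k // dO F m i k ≠ 1} = 2 * i := by
  have hne : (-1 : F) ≠ 1 := by
    intro h
    apply h2
    linear_combination -h
  have e1 : {k // dO F m i k ≠ 1} ≃
      {k : Unit ⊕ (Fin m ⊕ Fin m) // (Sum.elim (fun _ : Unit => i)
        (Sum.elim (fun j : Fin m => (j : ℕ)) (fun j : Fin m => (j : ℕ))) k) < i} := by
    apply Equiv.subtypeEquivRight
    intro k
    unfold dO
    split_ifs with h
    · simp [h, hne]
    · simp [h]
  rw [Nat.card_congr e1, Nat.card_congr (Equiv.subtypeSum), Nat.card_sum]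
  simp only [Sum.elim_inl, Sum.elim_inr]
  rw [Nat.card_congr (Equiv.subtypeSum), Nat.card_sum]
  have := natCard_fin_lt m i him
  simp only [Sum.elim_inl, Sum.elim_inr]
  rw [this]
  have h0 : Nat.card {_a : Unit // i < i} = 0 := by
    rw [Nat.card_eq_zero]
    left
    exact ⟨fun x => lt_irrefl _ x.2⟩
  rw [h0]
  ring

lemma diagGL_dO_mem (i : ℕ) :
    diagGL (dO F m i) (dO_mul_self m i) ∈ Cfsg.isometryGroup F (Cfsg.quadFormOdd m F) := by
  rw [mem_isometryGroup_iff]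
  intro v
  rw [act_diag _ (dO F m i) (diagGL_val _ _)]
  unfold Cfsg.quadFormOdd
  congr 1
  · show (dO F m i (Sum.inl ()) * v (Sum.inl ())) ^ 2 = _
    rw [dO_inl, one_mul]
  · apply Finset.sum_congr rfl
    intro j _
    show dO F m i (Sum.inr (Sum.inl j)) * v (Sum.inr (Sum.inl j)) *
      (dO F m i (Sum.inr (Sum.inr j)) * v (Sum.inr (Sum.inr j))) = _
    have : dO F m i (Sum.inr (Sum.inl j)) * dO F m i (Sum.inr (Sum.inr j)) = 1 := by
      rw [dO_inrl, dO_inrr]
      split_ifs <;> ring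
    linear_combination (v (Sum.inr (Sum.inl j)) * v (Sum.inr (Sum.inr j))) * this

/-- the involution negating `i` hyperbolic pairs lies in `Ω_{2m+1}` iff `q ^ i ≡ 1 (mod 4)` -/
theorem odd_diag_iff [Fintype F] (hodd : Odd (Fintype.card F)) (i : ℕ) (him : i ≤ m) :
    (∃ g : ↥(Cfsg.isometryGroup F (Cfsg.quadFormOdd m F)),
      g ∈ Cfsg.Omega F (Cfsg.quadFormOdd m F) ∧
      ((g : GL (Unit ⊕ (Fin m ⊕ Fin m)) F) :
        Matrix (Unit ⊕ (Fin m ⊕ Fin m)) (Unit ⊕ (Fin m ⊕ Fin m)) F) =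
        Matrix.diagonal (dO F m i)) ↔ Fintype.card F ^ i % 4 = 1 := by
  classical
  have h2 := two_ne_zero_of_odd_card hodd
  have hQ' := Cfsg.Agent.Lib.Helper5.Orth.quadFormOdd_nondeg (F := F) m h2
  have hgen := Cfsg.Agent.H9.Orth.iso_le_RR hQ' (Or.inl (card_ne_two_of_odd_card hodd))
  have key : ∀ g : ↥(Cfsg.isometryGroup F (Cfsg.quadFormOdd m F)),
      ((g : GL (Unit ⊕ (Fin m ⊕ Fin m)) F) :
        Matrix (Unit ⊕ (Fin m ⊕ Fin m)) (Unit ⊕ (Fin m ⊕ Fin m)) F) =
        Matrix.diagonal (dO F m i) →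
      (g ∈ Cfsg.Omega F (Cfsg.quadFormOdd m F) ↔ Fintype.card F ^ i % 4 = 1) := by
    intro g hg
    rw [← isSquare_neg_one_pow_iff hodd]
    apply diag_hyp_mem_omega_iff hQ' h2 hgen g (dO F m i) hg i
      (fun a => Sum.inr (Sum.inl (Fin.castLE him a))) (fun a => Sum.inr (Sum.inr (Fin.castLE him a)))
    · intro a b; exact pol_odd_ll m _ _
    · intro a b; exact pol_odd_rr m _ _
    · intro a b
      rw [pol_odd_lr]
      by_cases h : a = b
      · rw [if_pos h, if_pos (by rw [h])]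
      · rw [if_neg h, if_neg]
        intro h'
        exact h (Fin.castLE_injective him h')
    · intro a
      rw [dO_inrl, if_pos (by simp)]
    · intro a
      rw [dO_inrr, if_pos (by simp)]
    · exact natCard_dO m h2 i him
  constructor
  · rintro ⟨g, hgΩ, hg⟩
    exact (key g hg).1 hgΩ
  · intro h
    refine ⟨⟨diagGL (dO F m i) (dO_mul_self m i), diagGL_dO_mem m i⟩, ?_, rfl⟩
    exact (key _ rfl).2 h

end OddF

end Cfsg.Agent.Lib.Helper5.OrthSN
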