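import Mathlib
import Cfsg.Agent.Lib.Helper5.Orth.FixTS
import Cfsg.Agent.Lib.Helper5.Orth.PlusMinusForm

set_option autoImplicit false
set_option linter.unusedSectionVars false
open Cfsg
open scoped Pointwise

/-!
Any two Sylow `2`-subgroups of `O⁺_{2m}(2)` meet non-trivially.
-/

namespace Cfsg.Agent.Lib.Helper5.OrthF2

open Matrix Cfsg.Agent.H9.Orth Cfsg.Agent.Lib.Helper5.OrthSN Cfsg.Agent.Lib.Helper5.OrthPar
open Cfsg.Agent.Lib.Helper5.OrthTv Cfsg.Agent.Lib.Helper5.OrthCls Cfsg.Agent.Lib.Helper5.OrthPM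

section FixG

variable {ι : Type} [Fintype ι] [DecidableEq ι] {F : Type*} [Field F] [Fintype F]
variable {Q : (ι → F) → F}

/-- pointwise stabiliser of a subspace in the isometry group -/
def fixG (Q : (ι → F) → F) (V : Submodule F (ι → F)) : Subgroup ↥(Cfsg.isometryGroup F Q) where
  carrier := {g | ∀ v ∈ V, act (g : GL ι F) v = v}
  mul_mem' {a b} ha hb := fun v hv => by
    show act ((a : GL ι F) * (b : GL ι F)) v = v
    rw [act_mul, hb v hv, ha v hv]
  one_mem' := fun v _ => by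
    show act (1 : GL ι F) v = v
    rw [act_one]
  inv_mem' {a} ha := fun v hv => by
    show act ((a : GL ι F)⁻¹) v = v
    have := ha v hv
    conv_lhs => rw [← this]
    exact act_inv_act _ v

lemma mem_fixG (V : Submodule F (ι → F)) (g : ↥(Cfsg.isometryGroup F Q)) :
    g ∈ fixG Q V ↔ ∀ v ∈ V, act (g : GL ι F) v = v := Iff.rfl

variable (hQ : Cfsg.Geo.IsNondegenerateQuadraticForm Q)
include hQ

theorem fixG_isPGroup (hF : Fintype.card F = 2) (m : ℕ) (hm : Fintype.card ι = 2 * m)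
    (U₀ : Submodule F (ι → F)) (h₀ : IsMaxTS Q U₀)
    (V : Submodule F (ι → F)) (hV : Cfsg.Geo.IsTotallySingularQuad Q V)
    (hVd : Module.finrank F V + 1 = m) : IsPGroup 2 ↥(fixG Q V) := by
  intro g
  have hn : orderOf g ≠ 0 := (orderOf_pos g).ne'
  obtain ⟨k, r, hr, hkr⟩ := Nat.exists_eq_two_pow_mul_odd hn
  refine ⟨k, ?_⟩
  set h := g ^ (2 ^ k) with hh
  have hpow : h ^ r = 1 := by
    rw [hh, ← pow_mul, ← hkr, pow_orderOf_eq_one]
  have hmem : ∀ v ∈ V, act ((h : ↥(Cfsg.isometryGroup F Q)) : GL ι F) v = v := h.2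
  have hpow' : ((h : ↥(Cfsg.isometryGroup F Q)) : GL ι F) ^ r = 1 := by
    have := congrArg (fun z : ↥(fixG Q V) => ((z : ↥(Cfsg.isometryGroup F Q)) : GL ι F)) hpow
    simpa using this
  have := eq_one_of_odd_of_fix hQ hF m hm U₀ h₀ V hV hVd
    ((h : ↥(Cfsg.isometryGroup F Q)) : GL ι F) (h : ↥(Cfsg.isometryGroup F Q)).2 hmem r hr hpow'
  apply Subtype.ext
  apply Subtype.ext
  exact this

/-- two pointwise stabilisers of totally singular subspaces of dimension `m - 1` meet
non-trivially -/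
theorem fixG_inf_ne_bot (m : ℕ) (hm : Fintype.card ι = 2 * m)
    (V₁ V₂ : Submodule F (ι → F)) (hV₁d : Module.finrank F V₁ + 1 = m)
    (hV₂d : Module.finrank F V₂ + 1 = m) : fixG Q V₁ ⊓ fixG Q V₂ ≠ ⊥ := by
  classical
  set Z : Submodule F (ι → F) := perp hQ V₁ ⊓ perp hQ V₂ with hZ
  have hp1 : Module.finrank F (perp hQ V₁) = m + 1 := by
    rw [finrank_perp hQ V₁, hm]; omega
  have hp2 : Module.finrank F (perp hQ V₂) = m + 1 := by
    rw [finrank_perp hQ V₂, hm]; omega
  have hZ2 : 2 ≤ Module.finrank F Z := by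
    have h1 := Submodule.finrank_sup_add_finrank_inf_eq (perp hQ V₁) (perp hQ V₂)
    have h2 : Module.finrank F ↥(perp hQ V₁ ⊔ perp hQ V₂) ≤ 2 * m := by
      have := Submodule.finrank_le (perp hQ V₁ ⊔ perp hQ V₂)
      rwa [Module.finrank_fintype_fun_eq_card, hm] at this
    have h3 : Module.finrank F Z = Module.finrank F ↥(perp hQ V₁ ⊓ perp hQ V₂) := rfl
    omega
  have hfixZ : ∀ z ∈ Z, ∀ x, (x ∈ V₁ ∨ x ∈ V₂) → pol Q x z = 0 := by
    intro z hz x hx
    rcases hx with hx | hx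
    · exact (mem_perp hQ V₁ z).1 hz.1 x hx
    · exact (mem_perp hQ V₂ z).1 hz.2 x hx
  by_cases hns : ∃ v ∈ Z, Q v ≠ 0
  · obtain ⟨v, hvZ, hQv⟩ := hns
    have hv0 : v ≠ 0 := ne_zero_of_Q_ne hQ v hQv
    intro hbot
    have hmem : R hQ v ∈ fixG Q V₁ ⊓ fixG Q V₂ := by
      constructor
      · intro x hx
        exact act_rf_perp hQ v x (hfixZ v hvZ x (Or.inl hx))
      · intro x hx
        exact act_rf_perp hQ v x (hfixZ v hvZ x (Or.inr hx))
    rw [hbot, Subgroup.mem_bot] at hmem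
    obtain ⟨⟨x, hx⟩, -⟩ := hQ.nondegenerate v hv0
    have h1 : act (rf hQ v) x = x := by
      have := congrArg (fun z : ↥(Cfsg.isometryGroup F Q) => act (z : GL ι F) x) hmem
      simpa [R_val, act_one] using this
    rw [act_rf hQ v hQv] at h1
    have h2 : ((Q v)⁻¹ * pol Q x v) • v = 0 := by
      have : x - ((Q v)⁻¹ * pol Q x v) • v = x - 0 := by rw [sub_zero]; exact h1
      exact sub_right_injective this
    rcases smul_eq_zero.1 h2 with h3 | h3
    · rcases mul_eq_zero.1 h3 with h4 | h4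
      · exact hQv (inv_eq_zero.1 h4)
      · exact hx h4
    · exact hv0 h3
  · push Not at hns
    -- Z is totally singular of dimension ≥ 2
    have hZpos : 0 < Module.finrank F Z := by omega
    obtain ⟨u', hu'0⟩ := (Module.finrank_pos_iff_exists_ne_zero (R := F) (M := ↥Z)).1 hZpos
    set u : ι → F := (u' : ι → F) with hu
    have huZ : u ∈ Z := u'.2
    have hu0 : u ≠ 0 := by
      intro h
      apply hu'0
      exact Subtype.ext h
    have hspan_lt : ∃ w ∈ Z, w ∉ Submodule.span F {u} := by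
      by_contra hcon
      push Not at hcon
      have hle : Z ≤ Submodule.span F {u} := hcon
      have := Submodule.finrank_mono hle
      rw [finrank_span_singleton hu0] at this
      omega
    obtain ⟨w, hwZ, hwu⟩ := hspan_lt
    have hQu : Q u = 0 := hns u huZ
    have hQw : Q w = 0 := hns w hwZ
    have huw : pol Q u w = 0 := by
      have h1 := hns (u + w) (Z.add_mem huZ hwZ)
      rw [Q_add Q, hQu, hQw] at h1
      linear_combination h1
    intro hbot
    have hmem : (⟨sg hQ u w, sg_mem hQ u w⟩ : ↥(Cfsg.isometryGroup F Q)) ∈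
        fixG Q V₁ ⊓ fixG Q V₂ := by
      constructor
      · intro x hx
        show act (sg hQ u w) x = x
        rw [act_sg hQ u w hQu huw, hfixZ w hwZ x (Or.inl hx), hfixZ u huZ x (Or.inl hx)]
        simp
      · intro x hx
        show act (sg hQ u w) x = x
        rw [act_sg hQ u w hQu huw, hfixZ w hwZ x (Or.inr hx), hfixZ u huZ x (Or.inr hx)]
        simp
    rw [hbot, Subgroup.mem_bot] at hmem
    obtain ⟨⟨x, hx⟩, -⟩ := hQ.nondegenerate u hu0
    have h1 : act (sg hQ u w) x = x := by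
      have := congrArg (fun z : ↥(Cfsg.isometryGroup F Q) => act (z : GL ι F) x) hmem
      simpa [act_one] using this
    rw [act_sg hQ u w hQu huw, hQw, zero_mul, sub_zero] at h1
    apply hwu
    rw [Submodule.mem_span_singleton]
    refine ⟨(pol Q x u)⁻¹ * pol Q x w, ?_⟩
    have h2 : pol Q x w • u - pol Q x u • w = 0 := by
      have : x + (pol Q x w • u - pol Q x u • w) = x + 0 := by
        rw [add_zero, ← add_sub_assoc]; exact h1
      exact add_left_cancel this
    have h3 : pol Q x u • w = pol Q x w • u := (sub_eq_zero.1 h2).symm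
    rw [mul_smul, ← h3, smul_smul, inv_mul_cancel₀ hx, one_smul]

end FixG

section Plus

variable {F : Type*} [Field F] [Fintype F]

/-- a totally singular subspace of dimension `k` in the hyperbolic space of dimension `2(k+1)` -/
lemma exists_ts_codim_one (k : ℕ) :
    ∃ V : Submodule F (Fin (k + 1) ⊕ Fin (k + 1) → F),
      Cfsg.Geo.IsTotallySingularQuad (Cfsg.quadFormPlus (k + 1) F) V ∧
      Module.finrank F V = k := by
  classical
  set b : Fin k → (Fin (k + 1) ⊕ Fin (k + 1) → F) :=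
    fun j => Pi.single (Sum.inl j.succ) 1 with hb
  have hli : LinearIndependent F b := by
    have := (Pi.basisFun F (Fin (k + 1) ⊕ Fin (k + 1))).linearIndependent.comp
      (fun j : Fin k => (Sum.inl j.succ : Fin (k + 1) ⊕ Fin (k + 1)))
      (by
        intro a c h
        simpa using h)
    convert this using 1
    funext j
    simp [hb, Pi.basisFun_apply]
  refine ⟨Submodule.span F (Set.range b), ?_, ?_⟩
  · have hle : Submodule.span F (Set.range b) ≤ stdU (F := F) (k + 1) := by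
      rw [Submodule.span_le]
      rintro _ ⟨j, rfl⟩
      rw [SetLike.mem_coe, mem_stdU]
      intro i
      simp [hb]
    intro v hv
    exact (stdU_maxTS (F := F) (k + 1)).1 v (hle hv)
  · rw [finrank_span_eq_card hli, Fintype.card_fin]

set_option synthInstance.maxHeartbeats 400000 in
/-- any two Sylow `2`-subgroups of `O⁺_{2m}(2)` meet non-trivially -/
theorem sylow_meet (hF : Fintype.card F = 2) (m : ℕ) (hm : 1 ≤ m)
    (H : Sylow 2 (Cfsg.isometryGroup F (Cfsg.quadFormPlus m F)))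
    (x : Cfsg.isometryGroup F (Cfsg.quadFormPlus m F)) :
    (H : Subgroup (Cfsg.isometryGroup F (Cfsg.quadFormPlus m F))) ⊓
      MulAut.conj x • (H : Subgroup _) ≠ ⊥ := by
  classical
  obtain ⟨k, rfl⟩ : ∃ k, m = k + 1 := ⟨m - 1, by omega⟩
  have hQ := quadFormPlus_nondeg (F := F) (k + 1)
  have hcard : Fintype.card (Fin (k + 1) ⊕ Fin (k + 1)) = 2 * (k + 1) := by
    rw [Fintype.card_sum, Fintype.card_fin]
    ring
  have key : ∀ H' : Sylow 2 (Cfsg.isometryGroup F (Cfsg.quadFormPlus (k + 1) F)),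
      ∃ V : Submodule F (Fin (k + 1) ⊕ Fin (k + 1) → F),
        Module.finrank F V + 1 = k + 1 ∧
        fixG (Cfsg.quadFormPlus (k + 1) F) V ≤
          (H' : Subgroup (Cfsg.isometryGroup F (Cfsg.quadFormPlus (k + 1) F))) := by
    intro H'
    obtain ⟨V₀, hV₀, hd⟩ := exists_ts_codim_one (F := F) k
    have hp := fixG_isPGroup hQ hF (k + 1) hcard (stdU (F := F) (k + 1))
      (stdU_maxTS (F := F) (k + 1)) V₀ hV₀ (by omega)
    obtain ⟨P, hP⟩ := hp.exists_le_sylow
    obtain ⟨y, hy⟩ := MulAction.exists_smul_eq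
      (Cfsg.isometryGroup F (Cfsg.quadFormPlus (k + 1) F)) P H'
    refine ⟨mapS (y : GL (Fin (k + 1) ⊕ Fin (k + 1)) F) V₀, ?_, ?_⟩
    · rw [finrank_mapS, hd]
    · intro g hg
      rw [← hy]
      change g ∈ MulAut.conj y • (P : Subgroup (Cfsg.isometryGroup F (Cfsg.quadFormPlus (k + 1) F)))
      rw [Subgroup.mem_pointwise_smul_iff_inv_smul_mem]
      apply hP
      rw [MulAut.smul_def, MulAut.conj_inv_apply, mem_fixG]
      intro v hv
      show act ((y : GL (Fin (k + 1) ⊕ Fin (k + 1)) F)⁻¹ *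
        (g : GL (Fin (k + 1) ⊕ Fin (k + 1)) F) * (y : GL (Fin (k + 1) ⊕ Fin (k + 1)) F)) v = v
      rw [act_mul, act_mul, (mem_fixG _ g).1 hg _ ((mem_mapS _ V₀ _).2 ⟨v, hv, rfl⟩),
        act_inv_act]
  obtain ⟨V₁, hd₁, hle₁⟩ := key H
  obtain ⟨V₂, hd₂, hle₂⟩ := key (x • H)
  change fixG (Cfsg.quadFormPlus (k + 1) F) V₂ ≤
    MulAut.conj x • (H : Subgroup (Cfsg.isometryGroup F (Cfsg.quadFormPlus (k + 1) F))) at hle₂
  have hne := fixG_inf_ne_bot hQ (k + 1) hcard V₁ V₂ hd₁ hd₂
  intro hbot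
  apply hne
  rw [eq_bot_iff, ← hbot]
  exact inf_le_inf hle₁ hle₂

end Plus

end Cfsg.Agent.Lib.Helper5.OrthF2
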