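import Mathlib
import Cfsg.Prelude.Def_GeometricClasses
import Cfsg.Agent.S5667
import Cfsg.Agent.Lib.Helper5.Orth.QBasic
import Cfsg.Agent.Lib.Helper5.Orth.QGeom
import Cfsg.Agent.Lib.Helper5.Orth.PlusPlane
import Cfsg.Agent.Lib.Helper5.Orth.FrameMain
import Cfsg.Agent.Lib.Helper5.Orth.Tensor3

set_option autoImplicit false
set_option linter.unusedSectionVars false
open Cfsg Matrix

namespace Cfsg.Agent.Lib.Helper5.Orth

open scoped MatrixGroups Matrix Kronecker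

section F2side
variable {F : Type*} [Field F] {n₂ : ℕ} (f₂ : (Fin n₂ → F) → (Fin n₂ → F) → F)
  (hf₂ : Cfsg.Geo.IsSymmetricForm f₂)

include hf₂

lemma polar_diag (x y : Fin n₂ → F) :
    QuadraticMap.polar (fun r : Fin n₂ → F => f₂ r r) x y = 2 * f₂ x y := by
  rw [QuadraticMap.polar]
  rw [hf₂.bilinear.add_left, hf₂.bilinear.add_right, hf₂.bilinear.add_right, hf₂.symm y x]
  ring

lemma isQuad_diag : IsQuad (fun r : Fin n₂ → F => f₂ r r) := by
  refine ⟨?_, ⟨?_, ?_, ?_, ?_⟩⟩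
  · intro c v
    rw [hf₂.bilinear.smul_left, hf₂.bilinear.smul_right]; ring
  · intro x y v
    rw [polar_diag f₂ hf₂, polar_diag f₂ hf₂, polar_diag f₂ hf₂, hf₂.bilinear.add_left]; ring
  · intro c x v
    rw [polar_diag f₂ hf₂, polar_diag f₂ hf₂, hf₂.bilinear.smul_left]; ring
  · intro v x y
    rw [polar_diag f₂ hf₂, polar_diag f₂ hf₂, polar_diag f₂ hf₂, hf₂.bilinear.add_right]; ring
  · intro c v x
    rw [polar_diag f₂ hf₂, polar_diag f₂ hf₂, hf₂.bilinear.smul_right]; ring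

lemma f_zero_left' (y : Fin n₂ → F) : f₂ 0 y = 0 := by
  have := hf₂.bilinear.smul_left 0 0 y
  rwa [zero_smul, zero_mul] at this

/-- a non-degenerate symmetric form in characteristic not two has an anisotropic vector -/
lemma exists_aniso (h2 : (2 : F) ≠ 0) (hn : 0 < n₂) : ∃ p, f₂ p p ≠ 0 := by
  obtain ⟨r₀, hr₀⟩ : ∃ r₀ : Fin n₂ → F, r₀ ≠ 0 := by
    refine ⟨Pi.single ⟨0, hn⟩ 1, fun h => ?_⟩
    have := congrFun h ⟨0, hn⟩
    simp at this
  obtain ⟨⟨r₁, hr₁⟩, -⟩ := hf₂.nondegenerate r₀ hr₀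
  by_cases h0 : f₂ r₀ r₀ = 0
  · by_cases h1 : f₂ r₁ r₁ = 0
    · refine ⟨r₀ + r₁, ?_⟩
      rw [hf₂.bilinear.add_left, hf₂.bilinear.add_right, hf₂.bilinear.add_right, h0, h1,
        hf₂.symm r₀ r₁]
      intro h
      apply hr₁
      have : 2 * f₂ r₁ r₀ = 0 := by linear_combination h
      exact (mul_eq_zero.1 this).resolve_left h2
    · exact ⟨r₁, h1⟩
  · exact ⟨r₀, h0⟩

variable [Fintype F]

/-- a non-zero isotropic vector perpendicular to a given vector, in dimension at least four -/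
lemma exists_iso_perp (hn : 4 ≤ n₂) (p : Fin n₂ → F) :
    ∃ s, s ≠ 0 ∧ f₂ s s = 0 ∧ f₂ s p = 0 := by
  let φ : (Fin n₂ → F) →ₗ[F] F :=
    { toFun := fun r => f₂ r p
      map_add' := fun x y => hf₂.bilinear.add_left x y p
      map_smul' := fun c x => by simp [hf₂.bilinear.smul_left] }
  have h1 := LinearMap.finrank_range_add_finrank_ker φ
  have h2 : Module.finrank F (LinearMap.range φ) ≤ 1 := by
    have := (LinearMap.range φ).finrank_le
    rwa [Module.finrank_self] at this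
  rw [Module.finrank_fintype_fun_eq_card, Fintype.card_fin] at h1
  obtain ⟨s, hsE, hs0, hqs⟩ := exists_singular_of_finrank (isQuad_diag f₂ hf₂) (LinearMap.ker φ)
    (by omega)
  exact ⟨s, hs0, hqs, LinearMap.mem_ker.1 hsE⟩

end F2side

section Main

variable {ι : Type} [Fintype ι] [DecidableEq ι] {F : Type*} [Field F] [Fintype F]
  {Q : (ι → F) → F}

lemma Q_eq_neg_pol (hq3 : Fintype.card F = 3) (hQ : IsQuad Q) (x : ι → F) :
    Q x = - pol Q x x := by
  have h3 := three_eq_zero (F := F) hq3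
  rw [pol_self hQ]
  linear_combination (Q x) * h3

theorem tensor3_not_maximal (hq3 : Fintype.card F = 3) (hQ : IsQuad Q) (n₂ : ℕ) (hn₂ : 4 ≤ n₂)
    (e : ι ≃ Fin 3 × Fin n₂) (P : GL ι F) (f₁ : (Fin 3 → F) → (Fin 3 → F) → F)
    (f₂ : (Fin n₂ → F) → (Fin n₂ → F) → F) (hf₁ : Cfsg.Geo.IsSymmetricForm f₁)
    (hf₂ : Cfsg.Geo.IsSymmetricForm f₂)
    (hT : Cfsg.Geo.IsTensorFormStructure id (QuadraticMap.polar Q) f₁ f₂ e P) :
    ∃ K : Subgroup (GL ι F), Cfsg.Geo.tensorProductSubgroup 3 n₂ e P ⊓ Cfsg.Geo.omegaGL Q < K ∧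
      K < Cfsg.Geo.omegaGL Q := by
  classical
  obtain ⟨c, hc, hform⟩ := hT
  have h3 := three_eq_zero (F := F) hq3
  have h2 := two_ne_zero_of_card_three (F := F) hq3
  have hb₁ := hf₁.bilinear
  have hb₂ := hf₂.bilinear
  have star : ∀ u v r r', pol Q (Ps e P (pt u r)) (Ps e P (pt v r')) = c * (f₁ u v * f₂ r r') := by
    intro u v r r'
    have := hform (pt u r) (pt v r')
    rw [gram_pt, ← Cfsg.Agent.S5667.form_eq_gram hb₁, ← Cfsg.Agent.S5667.form_eq_gram hb₂] at this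
    exact this
  have hQpt : ∀ u r, Q (Ps e P (pt u r)) = -(c * (f₁ u u * f₂ r r)) := by
    intro u r
    rw [Q_eq_neg_pol hq3 hQ, star]
  obtain ⟨ε, w, hε, hw⟩ := Cfsg.Agent.S5667.exists_frame3 hq3 f₁ hf₁
  have hw00 : f₁ (w 0) (w 0) = ε := by rw [hw]; simp
  have hw11 : f₁ (w 1) (w 1) = ε := by rw [hw]; simp
  have hw01 : f₁ (w 0) (w 1) = 0 := by rw [hw]; simp
  have hw10 : f₁ (w 1) (w 0) = 0 := by rw [hw]; simp
  obtain ⟨p, hp⟩ := exists_aniso f₂ hf₂ h2 (by omega)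
  obtain ⟨s, hs0, hss, hsp⟩ := exists_iso_perp f₂ hf₂ hn₂ p
  have hps : f₂ p s = 0 := by rw [hf₂.symm, hsp]
  obtain ⟨N, hN⟩ : ∃ N, N = f₂ p p := ⟨_, rfl⟩
  rw [← hN] at hp
  obtain ⟨κ, hκ⟩ : ∃ κ, κ = -(c * (ε * N)) := ⟨_, rfl⟩
  have hκ0 : κ ≠ 0 := by
    rw [hκ]; exact neg_ne_zero.2 (mul_ne_zero hc (mul_ne_zero hε hp))
  have h3κ : 3 * κ = 0 := by rw [h3, zero_mul]
  -- contraction facts
  have hCT0 : ∀ r r' : Fin n₂ → F, CT f₁ w 0 (pt (w 0) r + pt (w 1) r') = ε • r := by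
    intro r r'
    rw [CT_add f₁ w hb₁, CT_pt f₁ w hb₁, CT_pt f₁ w hb₁, hw00, hw10, zero_smul, add_zero]
  have hCT1 : ∀ r r' : Fin n₂ → F, CT f₁ w 1 (pt (w 0) r + pt (w 1) r') = ε • r' := by
    intro r r'
    rw [CT_add f₁ w hb₁, CT_pt f₁ w hb₁, CT_pt f₁ w hb₁, hw01, hw11, zero_smul, zero_add]
  -- the vectors
  set A0 := Ps e P (pt (w 0) p) with hA0
  have hqA0 : Q A0 = κ := by rw [hA0, hQpt, hw00, ← hN, hκ]
  have hA0A0 : pol Q A0 A0 = 2 * κ := by rw [pol_self hQ, hqA0]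
  -- first element: inside the first summand
  set y := Ps e P (pt (w 0) (-p + s)) with hy
  have hf2y : f₂ (-p + s) (-p + s) = N := by
    have hneg : (-p : Fin n₂ → F) = (-1 : F) • p := by rw [neg_one_smul]
    rw [hneg, hb₂.add_left, hb₂.add_right, hb₂.add_right, hb₂.smul_left, hb₂.smul_left,
      hb₂.smul_right, hb₂.smul_right, ← hN, hps, hsp, hss]
    ring
  have hf2py : f₂ p (-p + s) = -N := by
    have hneg : (-p : Fin n₂ → F) = (-1 : F) • p := by rw [neg_one_smul]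
    rw [hneg, hb₂.add_right, hb₂.smul_right, ← hN, hps]; ring
  have hqy : Q y = κ := by rw [hy, hQpt, hw00, hf2y, hκ]
  have hA0y : pol Q A0 y = κ := by
    rw [hA0, hy, star, hw00, hf2py, hκ]; ring
  set g₁ := a2 hQ A0 y (hqA0 ▸ hκ0) (hqy ▸ hκ0) with hg₁
  have hg₁Ω : g₁ ∈ Cfsg.Geo.omegaGL Q := a2_mem hQ _ _ _ _
  have hg₁v : ∀ v, (g₁ : Matrix ι ι F) *ᵥ v =
      v - (κ⁻¹ * pol Q v A0) • A0 + (κ⁻¹ * (pol Q v A0 - pol Q v y)) • y :=
    fun v => a2_mulVec hQ A0 y κ hκ0 hqA0 hqy hA0y v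
  have hA0D : A0 ∈ DT e P w 0 := ⟨p, rfl⟩
  have hyD : y ∈ DT e P w 0 := ⟨-p + s, rfl⟩
  have hg₁fwd : ∀ l, ∀ v ∈ DT e P w l, (g₁ : Matrix ι ι F) *ᵥ v ∈ DT e P w l := by
    rintro l _ ⟨r, rfl⟩
    rw [hg₁v]
    by_cases hl : l = 0
    · subst hl
      exact (DT e P w 0).add_mem ((DT e P w 0).sub_mem ⟨r, rfl⟩ ((DT e P w 0).smul_mem _ hA0D))
        ((DT e P w 0).smul_mem _ hyD)
    · have h1 : pol Q (em e P w l r) A0 = 0 := by
        rw [em_apply, hA0, star, hw, if_neg hl]; ring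
      have h2 : pol Q (em e P w l r) y = 0 := by
        rw [em_apply, hy, star, hw, if_neg hl]; ring
      rw [h1, h2]
      simp only [mul_zero, zero_smul, sub_zero, add_zero]
      exact ⟨r, rfl⟩
  have hg₁A0 : (g₁ : Matrix ι ι F) *ᵥ A0 = Ps e P (pt (w 0) (p + s)) := by
    rw [hg₁v, hA0A0, hA0y]
    have e1 : κ⁻¹ * (2 * κ) = 2 := by field_simp
    have e2 : κ⁻¹ * (2 * κ - κ) = 1 := by field_simp; ring
    rw [e1, e2, one_smul, hA0, hy, pt_add_right, pt_add_right, Ps_add, Ps_add]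
    have hneg : pt (w 0) (-p) = -pt (w 0) p := by
      have := pt_smul_right (-1 : F) (w 0) p
      rwa [neg_one_smul, neg_one_smul] at this
    rw [hneg, Ps_neg]
    have h2' : (2 : F) • Ps e P (pt (w 0) p) = -Ps e P (pt (w 0) p) := by
      have : (2 : F) = -1 := by linear_combination h3
      rw [this, neg_one_smul]
    rw [h2']
    abel
  have hg₁D1 : ∀ r, (g₁ : Matrix ι ι F) *ᵥ (em e P w 1 r) = em e P w 1 r := by
    intro r
    have h10 : (1 : Fin 3) ≠ 0 := by decide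
    have h1 : pol Q (em e P w 1 r) A0 = 0 := by
      rw [em_apply, hA0, star, hw, if_neg h10]; ring
    have h2 : pol Q (em e P w 1 r) y = 0 := by
      rw [em_apply, hy, star, hw, if_neg h10]; ring
    rw [hg₁v, h1, h2]
    simp
  -- second element
  set s' := Ps e P (pt (w 1) s) with hs'
  have hqs' : Q s' = 0 := by rw [hs', hQpt, hss]; ring
  have hA0s' : pol Q A0 s' = 0 := by rw [hA0, hs', star, hw01]; ring
  set y₂ := -A0 + s' with hy₂
  have hqy₂ : Q y₂ = κ := by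
    rw [hy₂, Q_add Q, Q_neg hQ, hqA0, hqs', pol_neg_left hQ, hA0s']; ring
  have hA0y₂ : pol Q A0 y₂ = κ := by
    rw [hy₂, pol_add_right hQ, pol_neg_right hQ, hA0A0, hA0s']
    linear_combination (-1 : F) * h3κ
  set g₂ := a2 hQ A0 y₂ (hqA0 ▸ hκ0) (hqy₂ ▸ hκ0) with hg₂
  have hg₂Ω : g₂ ∈ Cfsg.Geo.omegaGL Q := a2_mem hQ _ _ _ _
  have hg₂v : ∀ v, (g₂ : Matrix ι ι F) *ᵥ v =
      v - (κ⁻¹ * pol Q v A0) • A0 + (κ⁻¹ * (pol Q v A0 - pol Q v y₂)) • y₂ :=
    fun v => a2_mulVec hQ A0 y₂ κ hκ0 hqA0 hqy₂ hA0y₂ v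
  have hg₂A0 : (g₂ : Matrix ι ι F) *ᵥ A0 = Ps e P (pt (w 0) p + pt (w 1) s) := by
    rw [hg₂v, hA0A0, hA0y₂]
    have e1 : κ⁻¹ * (2 * κ) = 2 := by field_simp
    have e2 : κ⁻¹ * (2 * κ - κ) = 1 := by field_simp; ring
    rw [e1, e2, one_smul, hy₂, Ps_add, ← hA0, ← hs']
    have h2' : (2 : F) • A0 = -A0 := by
      have : (2 : F) = -1 := by linear_combination h3
      rw [this, neg_one_smul]
    rw [h2']
    abel
  have hp0 : p ≠ 0 := by
    intro h
    apply hp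
    rw [hN, h, f_zero_left' f₂ hf₂]
  refine ⟨Cfsg.Geo.decompositionStabilizer (DT e P w) ⊓ Cfsg.Geo.omegaGL Q, ?_, ?_⟩
  · rw [SetLike.lt_iff_le_and_exists]
    constructor
    · rintro g ⟨hgT, hgS⟩
      refine ⟨?_, hgS⟩
      obtain ⟨A, B, hab⟩ := mem_tensor' e P g hgT
      have hpt : ∀ u r, (g : Matrix ι ι F) *ᵥ Ps e P (pt u r) =
          Ps e P (pt ((A : Matrix (Fin 3) (Fin 3) F) *ᵥ u) ((B : Matrix (Fin n₂) (Fin n₂) F) *ᵥ r)) := by
        intro u r
        rw [hab, kron_mulVec_pt]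
      have sim : ∀ u v r r', f₁ ((A : Matrix (Fin 3) (Fin 3) F) *ᵥ u) ((A : Matrix (Fin 3) (Fin 3) F) *ᵥ v) *
          f₂ ((B : Matrix (Fin n₂) (Fin n₂) F) *ᵥ r) ((B : Matrix (Fin n₂) (Fin n₂) F) *ᵥ r') =
          f₁ u v * f₂ r r' := by
        intro u v r r'
        have := iso_pol g (omegaGL_le_iso hgS) (Ps e P (pt u r)) (Ps e P (pt v r'))
        rw [hpt, hpt, star, star] at this
        exact mul_left_cancel₀ hc this
      obtain ⟨lam, hlam⟩ : ∃ lam, lam = f₂ ((B : Matrix (Fin n₂) (Fin n₂) F) *ᵥ p)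
          ((B : Matrix (Fin n₂) (Fin n₂) F) *ᵥ p) := ⟨_, rfl⟩
      have hlam0 : lam ≠ 0 := by
        intro h
        have := sim (w 0) (w 0) p p
        rw [← hlam, h, mul_zero, hw00, ← hN] at this
        exact mul_ne_zero hε hp this.symm
      obtain ⟨ν, hν⟩ : ∃ ν, ν = N / lam := ⟨_, rfl⟩
      have hν0 : ν ≠ 0 := by rw [hν]; exact div_ne_zero hp hlam0
      have hsim1 : ∀ u v, f₁ ((A : Matrix (Fin 3) (Fin 3) F) *ᵥ u) ((A : Matrix (Fin 3) (Fin 3) F) *ᵥ v) =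
          ν * f₁ u v := by
        intro u v
        have := sim u v p p
        rw [← hlam, ← hN] at this
        rw [hν]
        field_simp
        linear_combination this
      have hch : ∀ k, ∃ (d : F) (k' : Fin 3), d ≠ 0 ∧
          (A : Matrix (Fin 3) (Fin 3) F) *ᵥ w k = d • w k' := by
        intro k
        apply Cfsg.Agent.S5667.classify hq3 f₁ hf₁ ε hε w hw
        · rw [hsim1, hw, if_pos rfl]
          exact mul_ne_zero hν0 hε
        · intro z hz1 hz2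
          have hzb : z = (A : Matrix (Fin 3) (Fin 3) F) *ᵥ
              (((A⁻¹ : GL (Fin 3) F) : Matrix (Fin 3) (Fin 3) F) *ᵥ z) := by
            rw [gl_mulVec_inv_mulVec]
          have h0 : ((A⁻¹ : GL (Fin 3) F) : Matrix (Fin 3) (Fin 3) F) *ᵥ z = 0 := by
            apply Cfsg.Agent.S5667.w_perp_aniso hq3 f₁ hf₁ ε hε w hw k
            · rw [hzb, hsim1] at hz1
              exact (mul_eq_zero.1 hz1).resolve_left hν0
            · rw [hzb, hsim1] at hz2
              exact (mul_eq_zero.1 hz2).resolve_left hν0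
          rw [hzb, h0, Matrix.mulVec_zero]
      choose dd π hd hπ using hch
      have hinj : Function.Injective π := by
        intro k k' h
        by_contra hkk
        have h1 := hsim1 (w k) (w k')
        rw [hπ k, hπ k', h, hb₁.smul_left, hb₁.smul_right, hw, if_pos rfl, hw, if_neg hkk,
          mul_zero] at h1
        exact mul_ne_zero (hd k) (mul_ne_zero (hd k') hε) h1
      refine ⟨Equiv.ofBijective π (Finite.injective_iff_bijective.1 hinj), fun l => ?_⟩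
      change Submodule.map (Matrix.toLin' (g : Matrix ι ι F)) (DT e P w l) = DT e P w (π l)
      apply le_antisymm
      · rintro _ ⟨_, ⟨r, rfl⟩, rfl⟩
        rw [Matrix.toLin'_apply, em_apply, hpt, hπ l, pt_smul_left, Ps_smul]
        exact (DT e P w (π l)).smul_mem _ ⟨_, rfl⟩
      · rintro _ ⟨r, rfl⟩
        refine ⟨em e P w l ((dd l)⁻¹ • (((B⁻¹ : GL (Fin n₂) F) : Matrix (Fin n₂) (Fin n₂) F) *ᵥ r)),
          ⟨_, rfl⟩, ?_⟩
        rw [Matrix.toLin'_apply, em_apply, hpt, hπ l, Matrix.mulVec_smul, gl_mulVec_inv_mulVec,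
          pt_smul_left, pt_smul_right, smul_smul, mul_inv_cancel₀ (hd l), one_smul, em_apply]
    · -- an element of K outside the tensor group
      refine ⟨g₁, ⟨⟨1, fun l => ?_⟩, hg₁Ω⟩, ?_⟩
      · rw [Equiv.Perm.one_apply]
        exact map_eq_of_mapsTo g₁ _ (hg₁fwd l)
      · rintro ⟨hT', -⟩
        obtain ⟨A, B, hab⟩ := mem_tensor' e P _ hT'
        have h1 := hab (pt (w 0 + w 1) p)
        rw [kron_mulVec_pt, pt_add_left, Ps_add, Matrix.mulVec_add] at h1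
        have h1b : (g₁ : Matrix ι ι F) *ᵥ Ps e P (pt (w 1) p) = Ps e P (pt (w 1) p) := hg₁D1 p
        rw [← hA0, hg₁A0, h1b, ← Ps_add] at h1
        have h2' := Ps_injective e P h1
        have e0 := congrArg (CT f₁ w 0) h2'
        have e1 := congrArg (CT f₁ w 1) h2'
        rw [hCT0, CT_pt f₁ w hb₁] at e0
        rw [hCT1, CT_pt f₁ w hb₁] at e1
        obtain ⟨β', hβ'⟩ : ∃ β', β' = f₁ ((A : Matrix (Fin 3) (Fin 3) F) *ᵥ (w 0 + w 1)) (w 0) :=
          ⟨_, rfl⟩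
        obtain ⟨α', hα'⟩ : ∃ α', α' = f₁ ((A : Matrix (Fin 3) (Fin 3) F) *ᵥ (w 0 + w 1)) (w 1) :=
          ⟨_, rfl⟩
        obtain ⟨r'', hr''⟩ : ∃ r'', r'' = (B : Matrix (Fin n₂) (Fin n₂) F) *ᵥ p := ⟨_, rfl⟩
        rw [← hβ', ← hr''] at e0
        rw [← hα', ← hr''] at e1
        have hα0 : α' ≠ 0 := by
          intro h
          rw [h, zero_smul] at e1
          rcases smul_eq_zero.1 e1 with h | h
          · exact hε h
          · exact hp0 h
        have hr''' : r'' = (α'⁻¹ * ε) • p := by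
          rw [mul_smul, e1, smul_smul, inv_mul_cancel₀ hα0, one_smul]
        have hs' : s = (ε⁻¹ * (β' * (α'⁻¹ * ε) - ε)) • p := by
          have : ε • s = (β' * (α'⁻¹ * ε) - ε) • p := by
            rw [sub_smul, mul_smul β', ← hr''', ← e0, smul_add]
            abel
          rw [mul_smul, ← this, smul_smul, inv_mul_cancel₀ hε, one_smul]
        have h5 : f₂ s p = (ε⁻¹ * (β' * (α'⁻¹ * ε) - ε)) * N := by
          conv_lhs => rw [hs']
          rw [hb₂.smul_left, ← hN]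
        rw [hsp] at h5
        rcases mul_eq_zero.1 h5.symm with h | h
        · apply hs0
          rw [hs', h, zero_smul]
        · exact hp h
  · rw [SetLike.lt_iff_le_and_exists]
    refine ⟨inf_le_right, g₂, hg₂Ω, ?_⟩
    rintro ⟨⟨σ, hσ⟩, -⟩
    have hmem : (g₂ : Matrix ι ι F) *ᵥ A0 ∈ DT e P w (σ 0) := by
      rw [← hσ 0]
      exact ⟨_, hA0D, Matrix.toLin'_apply _ _⟩
    obtain ⟨r, hr⟩ := hmem
    rw [hg₂A0, em_apply] at hr
    have h2' := Ps_injective e P hr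
    have e0 := congrArg (CT f₁ w 0) h2'
    have e1 := congrArg (CT f₁ w 1) h2'
    rw [hCT0, CT_pt f₁ w hb₁, hw] at e0
    rw [hCT1, CT_pt f₁ w hb₁, hw] at e1
    by_cases hσ1 : σ 0 = 1
    · rw [if_neg (by rw [hσ1]; decide), zero_smul] at e0
      rcases smul_eq_zero.1 e0.symm with h | h
      · exact hε h
      · exact hp0 h
    · rw [if_neg hσ1, zero_smul] at e1
      rcases smul_eq_zero.1 e1.symm with h | h
      · exact hε h
      · exact hs0 h

end Main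

end Cfsg.Agent.Lib.Helper5.Orth
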