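import Mathlib
import Cfsg.Agent.Lib.Helper5.Orth.TransTS
import Cfsg.Agent.Lib.Helper5.Orth.UniversalSub

set_option autoImplicit false
set_option linter.unusedSectionVars false
open Cfsg

/-!
`Ω` is transitive on the nondegenerate subspaces of each isometry type (dimension at least 3).
-/

namespace Cfsg.Agent.Lib.Helper5.OrthSN

open Matrix Cfsg.Agent.H9.Orth Cfsg.Agent.Lib.Helper5.OrthTv Cfsg.Agent.Lib.Helper5.OrthPar
open Cfsg.Agent.Lib.Helper5.OrthUniv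

section ND

variable {ι : Type} [Fintype ι] [DecidableEq ι] {F : Type*} [Field F] {Q : (ι → F) → F}
variable (hQ : Cfsg.Geo.IsNondegenerateQuadraticForm Q)
include hQ

/-- reflections in vectors of `U` stabilise `U` -/
lemma rf_mem_stab_of_mem (U : Submodule F (ι → F)) (x : ι → F) (hx : x ∈ U) :
    rf hQ x ∈ Cfsg.Geo.subspaceStabilizer U := by
  have h1 : ∀ v ∈ U, act (rf hQ x) v ∈ U := by
    intro v hv
    by_cases hqx : Q x ≠ 0
    · rw [act_rf hQ x hqx]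
      exact U.sub_mem hv (U.smul_mem _ hx)
    · rw [rf_of_not hQ x hqx, act_one]
      exact hv
  apply mem_stab_of U _ h1
  rw [rf_inv]
  exact h1

/-- the stabiliser of a nondegenerate subspace (total dimension at least 3) maps onto `O / Ω` -/
theorem exists_adjust_nondeg [Fintype F] (hn : 3 ≤ Fintype.card ι)
    (h : Fintype.card F ≠ 2 ∨ Fintype.card ι ≠ 4) (U : Submodule F (ι → F))
    (hU : U ⊓ perp hQ U = ⊥) (g₀ : GL ι F) (hg₀ : g₀ ∈ Cfsg.isometryGroup F Q) :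
    ∃ s ∈ Cfsg.isometryGroup F Q ⊓ Cfsg.Geo.subspaceStabilizer U,
      par (g₀ * s) ∧ spin Q (g₀ * s) := by
  classical
  have hgen : Cfsg.isometryGroup F Q ≤ RR hQ := Cfsg.Agent.H9.Orth.iso_le_RR hQ h
  -- a nondegenerate subspace `P` of dimension ≥ 2 all of whose reflections stabilise `U`
  have hP : ∃ P : Submodule F (ι → F), P ⊓ perp hQ P = ⊥ ∧ 2 ≤ Module.finrank F P ∧
      ∀ x ∈ P, rf hQ x ∈ Cfsg.Geo.subspaceStabilizer U := by
    by_cases hd : 2 ≤ Module.finrank F U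
    · exact ⟨U, hU, hd, fun x hx => rf_mem_stab_of_mem hQ U x hx⟩
    · refine ⟨perp hQ U, ?_, ?_, fun x hx => rf_mem_stab_of_perp hQ U x hx⟩
      · rw [perp_perp, inf_comm]; exact hU
      · rw [finrank_perp]; omega
  obtain ⟨P, hPnd, hPd, hPstab⟩ := hP
  have hP0 : P ≠ ⊥ := by
    intro h'
    rw [h', finrank_bot] at hPd
    omega
  apply exists_adjust hQ h _ inf_le_left _ _ g₀ hg₀
  · obtain ⟨x, hxP, hx⟩ := exists_nonsing_sub hQ P hPnd hP0
    exact ⟨rf hQ x, ⟨rf_mem hQ x, hPstab x hxP⟩, not_par_rf hQ x hx⟩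
  · intro h2
    obtain ⟨ν, hν⟩ := FiniteField.exists_nonsquare (ringChar_ne_two_of_two_ne_zero h2)
    have hν0 : ν ≠ 0 := by
      rintro rfl
      exact hν ⟨0, by ring⟩
    obtain ⟨e₁, he₁P, he₁⟩ := exists_norm_eq_sub hQ h2 P hPnd hPd (-1)
    obtain ⟨e₂, he₂P, he₂⟩ := exists_norm_eq_sub hQ h2 P hPnd hPd (-ν)
    have hq₁ : Q e₁ ≠ 0 := by rw [he₁]; exact neg_ne_zero.2 one_ne_zero
    have hq₂ : Q e₂ ≠ 0 := by rw [he₂]; exact neg_ne_zero.2 hν0
    have hs₁ : spin Q (rf hQ e₁) := by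
      rw [spin_rf hQ e₁ hq₁, he₁, neg_neg]
      exact ⟨1, by ring⟩
    have hs₂ : ¬ spin Q (rf hQ e₂) := by
      rw [spin_rf hQ e₂ hq₂, he₂, neg_neg]
      exact hν
    refine ⟨rf hQ e₁ * rf hQ e₂, ⟨mul_mem (rf_mem hQ e₁) (rf_mem hQ e₂),
      mul_mem (hPstab e₁ he₁P) (hPstab e₂ he₂P)⟩, ?_, ?_⟩
    · rw [par_mul_gen hQ hgen _ _ (rf_mem hQ e₁) (rf_mem hQ e₂)]
      have := not_par_rf hQ e₁ hq₁
      have := not_par_rf hQ e₂ hq₂
      tauto
    · rw [spin_mul_iff hQ hgen _ _ (rf_mem hQ e₁) (rf_mem hQ e₂)]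
      tauto

end ND

section Main

variable {ι : Type} [Fintype ι] [DecidableEq ι] {F : Type*} [Field F] [Fintype F]

/-- `Ω` is transitive on the nondegenerate subspaces of each isometry type -/
theorem omega_trans_nondeg (Q : QuadraticForm F (ι → F))
    (hQ : (QuadraticMap.polarBilin Q).Nondegenerate) (hn : 3 ≤ Fintype.card ι)
    (h : Fintype.card F ≠ 2 ∨ Fintype.card ι ≠ 4) (U W : Submodule F (ι → F))
    (hU : U ⊓ LinearMap.BilinForm.orthogonal (QuadraticMap.polarBilin Q) U = ⊥)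
    (e : U ≃ₗ[F] W) (he : ∀ u : U, Q (e u : ι → F) = Q (u : ι → F)) :
    ∃ g : ↥(Cfsg.isometryGroup F ⇑Q), g ∈ Cfsg.Omega F ⇑Q ∧
      U.map (Matrix.mulVecLin ((g : GL ι F) : Matrix ι ι F)) = W := by
  have hQ' := Cfsg.Agent.H9.Orth.isNondeg_of_quadraticForm Q hQ
  have hperp : LinearMap.BilinForm.orthogonal (QuadraticMap.polarBilin Q) U = perp hQ' U := by
    ext x
    rw [LinearMap.BilinForm.mem_orthogonal_iff, mem_perp]
    rfl
  rw [hperp] at hU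
  obtain ⟨g₀, hg₀, hmap⟩ := witt_GL Q hQ U W e he
  obtain ⟨s, hsS, hp, hsp⟩ := exists_adjust_nondeg hQ' hn h U hU g₀ hg₀
  refine ⟨⟨g₀ * s, mul_mem hg₀ hsS.1⟩, ?_, ?_⟩
  · rw [mem_omega_iff_fin hQ' h]
    exact ⟨hp, hsp⟩
  · show U.map (Matrix.mulVecLin ((g₀ * s : GL ι F) : Matrix ι ι F)) = W
    rw [map_mul_eq, map_eq_of_mem_stab U s hsS.2, hmap]

end Main

end Cfsg.Agent.Lib.Helper5.OrthSN
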