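import Mathlib
import Cfsg.Agent.Lib.Helper5.Orth.Transv

set_option autoImplicit false
set_option linter.unusedSectionVars false
open Cfsg

/-!
Over the field with two elements, in dimension at least five, the orthogonal transvections form a
class of 3-transpositions of the full isometry group.
-/

namespace Cfsg.Agent.Lib.Helper5.OrthTv

open Matrix Cfsg.Agent.H9.Orth

section F2

variable {ι : Type} [Fintype ι] [DecidableEq ι] {Q : (ι → ZMod 2) → ZMod 2}
variable (hQ : Cfsg.Geo.IsNondegenerateQuadraticForm Q)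

lemma zmod2_cases (a : ZMod 2) : a = 0 ∨ a = 1 := by
  fin_cases a
  · left; rfl
  · right; rfl

lemma zmod2_ne_zero (a : ZMod 2) : a ≠ 0 ↔ a = 1 := by
  rcases zmod2_cases a with h | h
  · simp [h]
  · simp [h]

include hQ

lemma act_rf2 (x y : ι → ZMod 2) (hx : Q x = 1) : act (rf hQ x) y = y + pol Q y x • x := by
  rw [act_rf hQ x (by rw [hx]; exact one_ne_zero), hx, inv_one, one_mul, sub_eq_add_neg, ← neg_smul,
    ZMod.neg_eq_self_mod_two]

lemma rf_conj_eq (x y : ι → ZMod 2) (hx : Q x = 1) (hxy : pol Q x y = 1) :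
    rf hQ x * rf hQ y * rf hQ x = rf hQ (x + y) := by
  have h := conj_rf hQ (rf hQ x) (rf_mem hQ x) y
  rw [rf_inv, act_rf2 hQ x y hx, pol_comm, hxy, one_smul, add_comm] at h
  exact h

/-- braid relation -/
lemma rf_braid (x y : ι → ZMod 2) (hx : Q x = 1) (hy : Q y = 1) (hxy : pol Q x y = 1) :
    (rf hQ x * rf hQ y) ^ 3 = 1 := by
  have h1 := rf_conj_eq hQ x y hx hxy
  have h2 := rf_conj_eq hQ y x hy (by rw [pol_comm]; exact hxy)
  rw [add_comm] at h2
  calc (rf hQ x * rf hQ y) ^ 3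
      = (rf hQ x * rf hQ y * rf hQ x) * (rf hQ y * rf hQ x * rf hQ y) := by
        simp only [pow_succ, pow_zero, one_mul, mul_assoc]
    _ = 1 := by rw [h1, h2, rf_mul_self]

lemma rf_comm_sq (x y : ι → ZMod 2) (hxy : pol Q x y = 0) :
    (rf hQ x * rf hQ y) ^ 2 = 1 := by
  rw [pow_two]
  nth_rewrite 2 [rf_comm hQ x y hxy]
  calc rf hQ x * rf hQ y * (rf hQ y * rf hQ x)
      = rf hQ x * (rf hQ y * rf hQ y) * rf hQ x := by simp only [mul_assoc]
    _ = 1 := by rw [rf_mul_self, mul_one, rf_mul_self]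

lemma mem_D_iff (g : ↥(Cfsg.isometryGroup (ZMod 2) Q)) :
    (((g : GL ι (ZMod 2)) : Matrix ι ι (ZMod 2)) - 1).rank = 1 ↔
      ∃ x, Q x = 1 ∧ (g : GL ι (ZMod 2)) = rf hQ x := by
  constructor
  · intro h
    obtain ⟨x, hx, hg⟩ := eq_rf_of_rank hQ g.1 g.2 h
    exact ⟨x, (zmod2_ne_zero _).1 hx, hg⟩
  · rintro ⟨x, hx, hg⟩
    rw [hg]
    exact rank_rf hQ x (by rw [hx]; exact one_ne_zero)

theorem threeTransp (hn : 5 ≤ Fintype.card ι) :
    Cfsg.IsThreeTranspositionClass {g : ↥(Cfsg.isometryGroup (ZMod 2) Q) |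
      (((g : GL ι (ZMod 2)) : Matrix ι ι (ZMod 2)) - 1).rank = 1} := by
  refine ⟨⟨?_, ?_⟩, ?_, ?_⟩
  · -- order two
    intro d hd
    have hd' := (mem_D_iff hQ d).1 hd
    obtain ⟨x, hx, hdx⟩ := hd'
    have : Fact (Nat.Prime 2) := ⟨Nat.prime_two⟩
    apply orderOf_eq_prime
    · apply Subtype.ext
      rw [pow_two]
      show (d : GL ι (ZMod 2)) * (d : GL ι (ZMod 2)) = 1
      rw [hdx, rf_mul_self]
    · rintro rfl
      have h1 : (((1 : ↥(Cfsg.isometryGroup (ZMod 2) Q)) : GL ι (ZMod 2)) : Matrix ι ι (ZMod 2)) - 1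
          = 0 := by
        simp
      rw [Set.mem_setOf_eq, h1, Matrix.rank_zero] at hd
      exact zero_ne_one hd
  · -- products
    intro d hd e he
    obtain ⟨x, hx, hdx⟩ := (mem_D_iff hQ d).1 hd
    obtain ⟨y, hy, hey⟩ := (mem_D_iff hQ e).1 he
    rcases zmod2_cases (pol Q x y) with hxy | hxy
    · left
      apply Subtype.ext
      show ((d : GL ι (ZMod 2)) * (e : GL ι (ZMod 2))) ^ 2 = 1
      rw [hdx, hey]
      exact rf_comm_sq hQ x y hxy
    · right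
      apply Subtype.ext
      show ((d : GL ι (ZMod 2)) * (e : GL ι (ZMod 2))) ^ 3 = 1
      rw [hdx, hey]
      exact rf_braid hQ x y hx hy hxy
  · -- single class
    obtain ⟨x0, -, hx0⟩ := exists_perp_norm hQ hn 0 1
    have hx0' : Q x0 ≠ 0 := by rw [hx0]; exact one_ne_zero
    refine ⟨⟨rf hQ x0, rf_mem hQ x0⟩, (mem_D_iff hQ _).2 ⟨x0, hx0, rfl⟩, ?_⟩
    ext g
    show _ ↔ IsConj _ g
    rw [isConj_iff, Set.mem_setOf_eq, mem_D_iff hQ]
    constructor
    · rintro ⟨x, hx, hgx⟩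
      obtain ⟨n, hn', hnx⟩ := NN_trans_norm hQ hn x0 x hx0' (by rw [hx, hx0])
      refine ⟨⟨n, NN_le_iso hQ hn'⟩, ?_⟩
      apply Subtype.ext
      show n * rf hQ x0 * n⁻¹ = (g : GL ι (ZMod 2))
      rw [conj_rf hQ n (NN_le_iso hQ hn'), hnx, hgx]
    · rintro ⟨c, hc⟩
      refine ⟨act (c : GL ι (ZMod 2)) x0, by rw [Q_act _ c.2, hx0], ?_⟩
      rw [← hc]
      show (c : GL ι (ZMod 2)) * rf hQ x0 * (c : GL ι (ZMod 2))⁻¹ = _
      rw [conj_rf hQ _ c.2]
  · -- generation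
    rw [eq_top_iff]
    intro g _
    have hRR : RR hQ ≤ (Subgroup.closure {g : ↥(Cfsg.isometryGroup (ZMod 2) Q) |
        (((g : GL ι (ZMod 2)) : Matrix ι ι (ZMod 2)) - 1).rank = 1}).map
          (Cfsg.isometryGroup (ZMod 2) Q).subtype := by
      rw [RR, Subgroup.closure_le]
      rintro h ⟨x, rfl⟩
      by_cases hx : Q x ≠ 0
      · refine ⟨⟨rf hQ x, rf_mem hQ x⟩, Subgroup.subset_closure ?_, rfl⟩
        exact (mem_D_iff hQ _).2 ⟨x, (zmod2_ne_zero _).1 hx, rfl⟩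
      · rw [rf_of_not hQ x hx]
        exact Subgroup.one_mem _
    obtain ⟨g', hg', hgg'⟩ := hRR (iso_le_RR hQ hn g.2)
    have : g' = g := Subtype.ext hgg'
    rw [← this]
    exact hg'

end F2

end Cfsg.Agent.Lib.Helper5.OrthTv
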